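import Groth.Agent.BM97.Colim

/-! Additivity of the groups for clopen decompositions. -/

set_option autoImplicit false
universe u

noncomputable section

open AlgebraicGeometry CategoryTheory Limits TopologicalSpace WeilCoh BMCoh Opposite

namespace Groth.Agent.BM97

variable {V : ObjectProperty Scheme.{u}} [IsConstructible V] {R : Type u} [CommRing R] {A : Coefs R}
  (T : PreTheory V R A)

theorem closedImm_of_closed {W Z : Obj V} (g : W ⟶ Z) (h : IsClosed (Set.range g.hom)) :
    IsClosedImmersion g.hom :=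
  .of_isPreimmersion g.hom h

theorem relCodim_eq_zero {W Z : Obj V} (g : W ⟶ Z) : relCodim W.scheme Z.scheme = 0 := by
  unfold relCodim; rw [g.dim_eq, sub_self]

/-- push-forward along a clopen piece -/
def pushPiece {W Z : Obj V} (g : W ⟶ Z) (h : IsClosed (Set.range g.hom)) (M : A.Cat) (i n : ℤ) :
    T.gp W M i n ⟶ T.gp Z M i n :=
  haveI := closedImm_of_closed g h
  T.push g.hom M i n i n (by rw [relCodim_eq_zero g]; ring) (by rw [relCodim_eq_zero g]; ring)

theorem pull_pushPiece {W Z : Obj V} (g : W ⟶ Z) (h : IsClosed (Set.range g.hom)) (M : A.Cat) (i n : ℤ)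
    (a : T.gp W M i n) : (T.pull g M i n).hom ((pushPiece T g h M i n).hom a) = a := by
  haveI := closedImm_of_closed g h
  have h0 : relCodim W.scheme W.scheme = 0 := by unfold relCodim; ring
  have hsq : IsPullback (𝟙 W : W ⟶ W).hom (𝟙 W.scheme) g.hom g.hom := IsKernelPair.id_of_mono g.hom
  have e := T.push_pull g.hom (𝟙 W.scheme) g (𝟙 W) hsq M i n i n (by rw [relCodim_eq_zero g]; ring)
    (by rw [relCodim_eq_zero g]; ring) (by rw [h0]; ring) (by rw [h0]; ring)
  have e' := congrArg (fun m : T.gp W M i n ⟶ T.gp W M i n => m.hom a) e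
  refine Eq.trans ?_ (e'.trans ?_)
  · rfl
  · show (T.push (𝟙 W.scheme) M i n i n _ _).hom ((T.pull (𝟙 W) M i n).hom a) = a
    rw [pull_id, T.push_id W M i n]
    rfl

/-- exactness for two complementary clopen pieces -/
theorem exact_pieces {W W' Z : Obj V} (g : W ⟶ Z) (g' : W' ⟶ Z) (h : Set.range g.hom = (Set.range g'.hom)ᶜ)
    (M : A.Cat) (i n : ℤ) (b : T.gp Z M i n) :
    (T.pull g' M i n).hom b = 0 ↔ ∃ a, (pushPiece T g (h ▸ g'.hom.isOpenEmbedding.isOpen_range.isClosed_compl) M i n).hom a = b := by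
  have hc : IsClosed (Set.range g.hom) := h ▸ g'.hom.isOpenEmbedding.isOpen_range.isClosed_compl
  let D : Decomp Z :=
    { Z := W, U := W', i := g.hom, closedImm := closedImm_of_closed g hc, j := g', range_eq := by rw [h, compl_compl] }
  obtain ⟨i, rfl⟩ : ∃ i₀ : ℤ, i = i₀ + 1 := ⟨i - 1, by ring⟩
  have hc0 : relCodim D.Z.scheme Z.scheme = 0 := relCodim_eq_zero g
  exact T.exact_push_pull D M i n (i + 1) n (by rw [hc0]; ring) (by rw [hc0]; ring) b

theorem bijective_pieces {W W' Z : Obj V} (g : W ⟶ Z) (g' : W' ⟶ Z) (h : Set.range g.hom = (Set.range g'.hom)ᶜ)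
    (M : A.Cat) (i n : ℤ) :
    Function.Bijective fun a : T.gp Z M i n => ((T.pull g M i n).hom a, (T.pull g' M i n).hom a) := by
  have h' : Set.range g'.hom = (Set.range g.hom)ᶜ := by rw [h, compl_compl]
  constructor
  · intro a a' e
    obtain ⟨e1, e2⟩ := Prod.ext_iff.1 e
    rw [← sub_eq_zero]
    obtain ⟨c, hc⟩ := (exact_pieces T g g' h M i n (a - a')).1 (by rw [map_sub, sub_eq_zero]; exact e2)
    have hz : (T.pull g M i n).hom (a - a') = 0 := by rw [map_sub, sub_eq_zero]; exact e1
    rw [← hc, pull_pushPiece] at hz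
    rw [← hc, hz, map_zero]
  · rintro ⟨x, y⟩
    refine ⟨(pushPiece T g (h ▸ g'.hom.isOpenEmbedding.isOpen_range.isClosed_compl) M i n).hom x +
      (pushPiece T g' (h' ▸ g.hom.isOpenEmbedding.isOpen_range.isClosed_compl) M i n).hom y, Prod.ext ?_ ?_⟩
    · show (T.pull g M i n).hom (_ + _) = x
      rw [map_add, pull_pushPiece, (exact_pieces T g' g h' M i n _).2 ⟨y, rfl⟩, add_zero]
    · show (T.pull g' M i n).hom (_ + _) = y
      rw [map_add, pull_pushPiece, (exact_pieces T g g' h M i n _).2 ⟨x, rfl⟩, zero_add]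

/-- a class vanishing on every piece of a finite clopen cover vanishes -/
theorem eq_zero_of_pieces {ι : Type u} [Finite ι] [Nonempty ι] {Z : Obj V} (W : ι → Obj V) (g : ∀ s, W s ⟶ Z)
    (hdisj : ∀ s t, s ≠ t → Disjoint (Set.range (g s).hom) (Set.range (g t).hom))
    (hcov : ∀ z : Z.scheme, ∃ s, z ∈ Set.range (g s).hom) (M : A.Cat) (i n : ℤ) (b : T.gp Z M i n)
    (hb : ∀ s, (T.pull (g s) M i n).hom b = 0) : b = 0 := by
  classical
  haveI := Fintype.ofFinite ι
  -- induction on a set of pieces: the class restricted to their union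
  suffices key : ∀ S : Finset ι, S.Nonempty → ∀ (O : Z.scheme.Opens) (hd : dim (O : Scheme.{u}) = dim Z.scheme),
      (O : Set Z.scheme) = ⋃ s ∈ S, Set.range (g s).hom → (T.pull (Z.resι O hd) M i n).hom b = 0 by
    have h0 := key Finset.univ Finset.univ_nonempty ⊤ (dim_top _) (by
      ext z; simpa using hcov z)
    have hinv : ∃ k : Z ⟶ Z.res ⊤, k ≫ Z.resTop = 𝟙 Z :=
      ⟨⟨Z.scheme.topIso.inv, inferInstance, (dim_top _).symm⟩, Hom.ext Z.scheme.topIso.inv_hom_id⟩
    obtain ⟨k, hk⟩ := hinv
    have := pull_comp T k Z.resTop M i n b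
    rw [hk, pull_id] at this
    rw [this]
    exact (congrArg _ h0).trans (map_zero _)
  intro S
  induction S using Finset.induction_on with
  | empty => intro h; exact absurd h Finset.not_nonempty_empty
  | insert s S hs ih =>
    intro _ O hd hO
    have hsO : ∀ w, (g s).hom w ∈ O := fun w => by
      show (g s).hom w ∈ (O : Set Z.scheme)
      rw [hO]; exact Set.mem_biUnion (Finset.mem_insert_self s S) ⟨w, rfl⟩
    let l : W s ⟶ Z.res O := ⟨IsOpenImmersion.lift O.ι (g s).hom (by
        rw [Scheme.Opens.range_ι]; rintro _ ⟨w, rfl⟩; exact hsO w),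
      (inferInstance : IsOpenImmersion _), ((g s).dim_eq.trans hd.symm)⟩
    have hl : l ≫ Z.resι O hd = g s := Hom.ext (IsOpenImmersion.lift_fac _ _ _)
    have hls : (T.pull l M i n).hom ((T.pull (Z.resι O hd) M i n).hom b) = 0 := by
      rw [← pull_comp, hl]; exact hb s
    have hrl : Set.range l.hom = O.ι ⁻¹' Set.range (g s).hom := by
      ext z
      constructor
      · rintro ⟨w, rfl⟩
        exact ⟨w, congrArg (fun m : W s ⟶ Z => m.hom w) hl.symm⟩
      · rintro ⟨w, hw⟩
        refine ⟨w, O.ι.isOpenEmbedding.injective ?_⟩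
        rw [← hw]
        exact congrArg (fun m : W s ⟶ Z => m.hom w) hl
    rcases S.eq_empty_or_nonempty with rfl | hS
    · -- a single piece
      have hiso : IsIso l.hom := by
        haveI : AlgebraicGeometry.Surjective l.hom := ⟨fun z => by
          have hz : O.ι z ∈ (O : Set Z.scheme) := z.2
          rw [hO] at hz
          simp only [insert_empty_eq, Finset.mem_singleton, Set.iUnion_iUnion_eq_left] at hz
          have : z ∈ O.ι ⁻¹' Set.range (g s).hom := hz
          rwa [← hrl] at this⟩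
        haveI : Epi l.hom.base := (TopCat.epi_iff_surjective _).2 l.hom.surjective
        exact IsOpenImmersion.isIso l.hom
      let l' : Z.res O ⟶ W s := ⟨inv l.hom, inferInstance, l.dim_eq.symm⟩
      have hll : l' ≫ l = 𝟙 _ := Hom.ext (IsIso.inv_hom_id l.hom)
      have := pull_comp T l' l M i n ((T.pull (Z.resι O hd) M i n).hom b)
      rw [hll, pull_id, hls, map_zero] at this
      exact this
    · let O' : Z.scheme.Opens := ⟨⋃ t ∈ S, Set.range (g t).hom,
        isOpen_biUnion fun t _ => (g t).hom.isOpenEmbedding.isOpen_range⟩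
      have hO'O : O' ≤ O := fun z hz => by
        show z ∈ (O : Set Z.scheme)
        rw [hO]
        obtain ⟨t, ht, hzt⟩ := Set.mem_iUnion₂.1 hz
        exact Set.mem_biUnion (Finset.mem_insert_of_mem ht) hzt
      have hd' : dim (O' : Scheme.{u}) = dim Z.scheme := by
        refine le_antisymm (natDim_mono O'.ι.isOpenEmbedding.isInducing (finDim Z)) ?_
        obtain ⟨t, ht⟩ := hS
        rw [← (g t).dim_eq]
        refine natDim_mono (f := IsOpenImmersion.lift O'.ι (g t).hom (by
          rw [Scheme.Opens.range_ι]; exact Set.subset_biUnion_of_mem (u := fun t => Set.range (g t).hom) ht))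
          (Scheme.Hom.isOpenEmbedding _).isInducing (finDim (Z.res O'))
      have hrest := ih hS O' hd' rfl
      have hfac : Z.resLE hO'O (hd'.trans hd.symm) ≫ Z.resι O hd = Z.resι O' hd' :=
        Hom.ext (Scheme.homOfLE_ι Z.scheme hO'O)
      rw [← hfac, pull_comp] at hrest
      have hcomp : Set.range l.hom = (Set.range (Z.resLE hO'O (hd'.trans hd.symm)).hom)ᶜ := by
        rw [hrl]
        ext z
        have hr : z ∈ Set.range (Z.resLE hO'O (hd'.trans hd.symm)).hom ↔ O.ι z ∈ (O' : Set Z.scheme) := by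
          constructor
          · rintro ⟨w, rfl⟩
            show O.ι (Z.scheme.homOfLE hO'O w) ∈ (O' : Set Z.scheme)
            rw [← Scheme.Hom.comp_apply, Scheme.homOfLE_ι]; exact w.2
          · intro hz
            refine ⟨⟨O.ι z, hz⟩, O.ι.isOpenEmbedding.injective ?_⟩
            show O.ι (Z.scheme.homOfLE hO'O _) = _
            rw [← Scheme.Hom.comp_apply, Scheme.homOfLE_ι]; rfl
        rw [Set.mem_compl_iff, hr]
        have hz : O.ι z ∈ (O : Set Z.scheme) := z.2
        rw [hO] at hz
        simp only [Finset.set_biUnion_insert, Set.mem_union] at hz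
        constructor
        · intro h1 h2
          obtain ⟨t, ht, hzt⟩ := Set.mem_iUnion₂.1 h2
          exact (hdisj s t (fun e => hs (e ▸ ht))).le_bot ⟨h1, hzt⟩
        · intro h2
          exact hz.resolve_right h2
      refine (bijective_pieces T l (Z.resLE hO'O (hd'.trans hd.symm)) hcomp M i n).1 (a₂ := 0) ?_
      exact Prod.ext (hls.trans (map_zero _).symm) (hrest.trans (map_zero _).symm)

/-- every class is the sum of the push-forwards of its pieces -/
theorem sum_pieces {ι : Type u} [Fintype ι] [Nonempty ι] {Z : Obj V} (W : ι → Obj V) (g : ∀ s, W s ⟶ Z)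
    (hdisj : ∀ s t, s ≠ t → Disjoint (Set.range (g s).hom) (Set.range (g t).hom))
    (hcov : ∀ z : Z.scheme, ∃ s, z ∈ Set.range (g s).hom) (hcl : ∀ s, IsClosed (Set.range (g s).hom))
    (M : A.Cat) (i n : ℤ) :
    (∀ b : T.gp Z M i n, ∑ s, (pushPiece T (g s) (hcl s) M i n).hom ((T.pull (g s) M i n).hom b) = b) ∧
    ∀ (a : ∀ s, T.gp (W s) M i n) (t : ι),
      (T.pull (g t) M i n).hom (∑ s, (pushPiece T (g s) (hcl s) M i n).hom (a s)) = a t := by
  classical
  have hoff : ∀ s t, s ≠ t → ∀ x, (T.pull (g t) M i n).hom ((pushPiece T (g s) (hcl s) M i n).hom x) = 0 := by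
    intro s t hst x
    let O : Z.scheme.Opens := ⟨(Set.range (g s).hom)ᶜ, (hcl s).isOpen_compl⟩
    have htO : ∀ w, (g t).hom w ∈ O := fun w hw => (hdisj s t hst).le_bot ⟨hw, ⟨w, rfl⟩⟩
    let l : (W t).scheme ⟶ (O : Scheme.{u}) := IsOpenImmersion.lift O.ι (g t).hom (by
      rw [Scheme.Opens.range_ι]; rintro _ ⟨w, rfl⟩; exact htO w)
    have hd : dim (O : Scheme.{u}) = dim Z.scheme := by
      refine le_antisymm (natDim_mono O.ι.isOpenEmbedding.isInducing (finDim Z)) ?_
      rw [← (g t).dim_eq]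
      exact natDim_mono (f := l) (Scheme.Hom.isOpenEmbedding _).isInducing (finDim (Z.res O))
    let l' : W t ⟶ Z.res O := ⟨l, (inferInstance : IsOpenImmersion l), (g t).dim_eq.trans hd.symm⟩
    have hl : l' ≫ Z.resι O hd = g t := Hom.ext (IsOpenImmersion.lift_fac _ _ _)
    have hc : Set.range (g s).hom = (Set.range (Z.resι O hd).hom)ᶜ := by
      show _ = (Set.range O.ι)ᶜ
      rw [Scheme.Opens.range_ι]
      exact (compl_compl _).symm
    rw [← hl, pull_comp, (exact_pieces T (g s) (Z.resι O hd) hc M i n _).2 ⟨x, rfl⟩, map_zero]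
  have h2 : ∀ (a : ∀ s, T.gp (W s) M i n) (t : ι),
      (T.pull (g t) M i n).hom (∑ s, (pushPiece T (g s) (hcl s) M i n).hom (a s)) = a t := fun a t => by
    rw [map_sum, Finset.sum_eq_single t (fun s _ hs => hoff s t hs _) (fun h => absurd (Finset.mem_univ t) h),
      pull_pushPiece]
  refine ⟨fun b => sub_eq_zero.1 (eq_zero_of_pieces T W g hdisj hcov M i n _ fun t => ?_), h2⟩
  rw [map_sub, h2 (fun s => (T.pull (g s) M i n).hom b) t, sub_self]

end Groth.Agent.BM97
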