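import Groth.Agent.BM97.Geo
import Mathlib.CategoryTheory.Limits.ConcreteCategory.Filtered
import Mathlib.Algebra.Category.ModuleCat.FilteredColimits
import Mathlib.Algebra.Category.ModuleCat.Limits

/-! Elements of the open-system colimits. -/

set_option autoImplicit false
universe u

noncomputable section

open AlgebraicGeometry CategoryTheory Limits TopologicalSpace WeilCoh BMCoh Opposite

namespace Groth.Agent.BM97

variable {V : ObjectProperty Scheme.{u}} [IsConstructible V] {R : Type u} [CommRing R] {A : Coefs R}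
  (T : PreTheory V R A)

theorem pull_comp {X Y Z : Obj V} (f : X ⟶ Y) (g : Y ⟶ Z) (M : A.Cat) (i n : ℤ) (a : T.gp Z M i n) :
    (T.pull (f ≫ g) M i n).hom a = (T.pull f M i n).hom ((T.pull g M i n).hom a) := by
  show (((T.H i n).map (f ≫ g).op).app M).hom a = _
  rw [op_comp, Functor.map_comp]
  rfl

theorem pull_id (X : Obj V) (M : A.Cat) (i n : ℤ) (a : T.gp X M i n) : (T.pull (𝟙 X) M i n).hom a = a := by
  show (((T.H i n).map (𝟙 X).op).app M).hom a = _
  rw [op_id, CategoryTheory.Functor.map_id]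
  rfl

/-- a directed family of opens -/
class Dir (X : Obj V) (P : X.scheme.Opens → Prop) : Prop where
  top : P ⊤
  inf : ∀ U U' : Idx X P, P (U.1 ⊓ U'.1) ∧ dim (↑(U.1 ⊓ U'.1) : Scheme.{u}) = dim X.scheme

instance dirFj (X : Obj V) (j : ℕ) : Dir X (ContainsFj X j) where
  top _ _ := trivial
  inf U U' := ⟨containsFj_inf X U.2.1 U'.2.1, dim_of_containsFj X (containsFj_inf X U.2.1 U'.2.1)⟩

instance dirPt (X : Obj V) (x : X.scheme) :
    Dir (X.ptSub x) (fun W : (X.ptSub x).scheme.Opens => (W : Set (X.ptSub x).scheme).Nonempty) where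
  top := by
    haveI := irreducible_ptSub X x
    exact Set.univ_nonempty
  inf U U' := by
    haveI := irreducible_ptSub X x
    have h : ((U.1 ⊓ U'.1 : (X.ptSub x).scheme.Opens) : Set (X.ptSub x).scheme).Nonempty :=
      nonempty_preirreducible_inter U.1.isOpen U'.1.isOpen U.2.1 U'.2.1
    exact ⟨h, (dim_open_ptSub X x _ h).trans (dim_ptSub X x).symm⟩

variable (X : Obj V) (P : X.scheme.Opens → Prop) [hP : Dir X P]

instance : IsFiltered (Idx X P)ᵒᵖ := by
  haveI : Nonempty (Idx X P) := ⟨⟨⊤, Dir.top (P := P), dim_top X.scheme⟩⟩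
  haveI : IsCofilteredOrEmpty (Idx X P) :=
    { cone_objs := fun U U' => ⟨⟨U.1 ⊓ U'.1, Dir.inf U U'⟩, homOfLE (show U.1 ⊓ U'.1 ≤ U.1 from inf_le_left),
        homOfLE (show U.1 ⊓ U'.1 ≤ U'.1 from inf_le_right), trivial⟩
      cone_maps := fun U _ _ _ => ⟨U, 𝟙 U, rfl⟩ }
  haveI : IsCofiltered (Idx X P) := {}
  infer_instance

variable (M : A.Cat) (i n : ℤ)

/-- the class of a local section -/
abbrev cls (U : Idx X P) (a : T.gp (X.res U.1) M i n) : (T.ocolim X P i n).obj M :=
  ((T.ocolimι X P i n U).app M).hom a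

def colimCocone : IsColimit (((evaluation A.Cat (ModuleCat.{u} R)).obj M).mapCocone
    (colimit.cocone ((idxDiag X P).op ⋙ T.H i n))) :=
  isColimitOfPreserves _ (colimit.isColimit _)

theorem exists_rep (x : (T.ocolim X P i n).obj M) : ∃ (U : Idx X P) (a : T.gp (X.res U.1) M i n),
    cls T X P M i n U a = x := by
  obtain ⟨U, a, ha⟩ := Concrete.isColimit_exists_rep _ (colimCocone T X P M i n) x
  exact ⟨U.unop, a, ha⟩

omit hP in
theorem cls_res {U U' : Idx X P} (h : U'.1 ≤ U.1) (a : T.gp (X.res U.1) M i n) :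
    cls T X P M i n U' ((T.pull (X.resLE h (U'.2.2.trans U.2.2.symm)) M i n).hom a) = cls T X P M i n U a :=
  congrArg (fun m : ((idxDiag X P).op ⋙ T.H i n).obj (op U) ⟶ T.ocolim X P i n => (m.app M).hom a)
    (colimit.w ((idxDiag X P).op ⋙ T.H i n) (homOfLE (show U' ≤ U from h)).op)

theorem cls_eq_zero {U : Idx X P} {a : T.gp (X.res U.1) M i n} (h : cls T X P M i n U a = 0) :
    ∃ (U' : Idx X P) (h' : U'.1 ≤ U.1), (T.pull (X.resLE h' (U'.2.2.trans U.2.2.symm)) M i n).hom a = 0 := by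
  have h0 : cls T X P M i n U a = cls T X P M i n U 0 := h.trans (map_zero _).symm
  obtain ⟨U', f, g, hfg⟩ := (Concrete.isColimit_rep_eq_iff_exists _ (hD := colimCocone T X P M i n) _ _).1 h0
  refine ⟨U'.unop, (f.unop).le, hfg.trans ?_⟩
  exact map_zero _

omit hP in
theorem ocolimMap_cls {Q : X.scheme.Opens → Prop} (h : ∀ U, P U → Q U) (U : Idx X P)
    (a : T.gp (X.res U.1) M i n) :
    ((T.ocolimMap X h i n).app M).hom (cls T X P M i n U a) = cls T X Q M i n ⟨U.1, h _ U.2.1, U.2.2⟩ a :=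
  congrArg (fun m : ((idxDiag X Q).op ⋙ T.H i n).obj (op ⟨U.1, h _ U.2.1, U.2.2⟩) ⟶ T.ocolim X Q i n => (m.app M).hom a)
    (colimit.ι_pre ((idxDiag X Q).op ⋙ T.H i n) (idxIncl X h).op (op U))

end Groth.Agent.BM97
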