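import Groth.Agent.BM97.Seq

/-! Uniqueness of the induced maps, vanishing criteria, level zero. -/

set_option autoImplicit false
universe u

noncomputable section

open AlgebraicGeometry CategoryTheory Limits TopologicalSpace WeilCoh BMCoh Opposite DirectSum

namespace Groth.Agent.BM97

variable {V : ObjectProperty Scheme.{u}} [IsConstructible V] {R : Type u} [CommRing R] {A : Coefs R}
  {T : PreTheory V R A} {X : Obj V} {C : Closeds X.scheme} {c j : ℕ}

theorem eq_zero_of_isZero {W : ModuleCat.{u} R} (h : IsZero W) (a : W) : a = 0 :=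
  haveI := ModuleCat.subsingleton_of_isZero h
  Subsingleton.elim _ _

/-- shrink so that the pieces lie in given opens of the closures -/
theorem exists_shrink' (hC : Bounded X C c) {Y : X.scheme.Opens} (hY : ContainsFj X c Y)
    (W : ∀ s : Pieces X C c Y, ptIdx X s.1) :
    ∃ (Y' : X.scheme.Opens) (hle : Y' ≤ Y), ContainsFj X c Y' ∧
      ∀ s : Pieces X C c Y', wOpen s ≤ (W (upPiece hle s)).1 := by
  haveI := finite_pieces hC Y
  let B : Closeds X.scheme := ⟨⋃ s : Pieces X C c Y, X.ptSubι s.1 '' ((W s).1 : Set (X.ptSub s.1).scheme)ᶜ,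
    isClosed_iUnion_of_finite fun s => (X.ptSubι s.1).isClosedEmbedding.isClosedMap _ (W s).1.isOpen.isClosed_compl⟩
  have hB : ∀ y ∈ B, pdim X.scheme y + (c + 1) ≤ dim X.scheme := by
    intro y hy
    obtain ⟨s, w, hw, rfl⟩ := Set.mem_iUnion.1 hy
    have hcl : X.ptSubι s.1 w ∈ closure ({s.1} : Set X.scheme) := by rw [← range_ptSubι]; exact ⟨w, rfl⟩
    have hne : X.ptSubι s.1 w ≠ s.1 := fun e => by
      obtain ⟨v, hv⟩ := (W s).2.1
      refine hw ((specializes_iff_mem_closure.2 ?_).mem_open (W s).1.isOpen hv)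
      rw [(X.ptSubι s.1).isClosedEmbedding.isInducing.closure_eq_preimage_closure_image, Set.image_singleton, e,
        ← range_ptSubι]
      exact ⟨v, rfl⟩
    have h1 : pdim X.scheme (X.ptSubι s.1 w) < pdim X.scheme s.1 := pdim_lt X hcl hne
    have h2 := s.2.2.2
    omega
  refine ⟨Y ⊓ B.compl, inf_le_left, containsFj_diff X hY B hB, fun s w hw => ?_⟩
  by_contra hw'
  exact hw.2 (Set.mem_iUnion.2 ⟨upPiece inf_le_left s, w, hw', rfl⟩)

variable (M : A.Cat) {i n i' n' : ℤ}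

/-- push-forward from a piece into an open -/
def pushO {Y : X.scheme.Opens} (hY : ContainsFj X c Y) (hi : i' = i + 2 * (c : ℤ)) (hn : n' = n + (c : ℤ))
    (s : Pieces X C c Y) (x : T.gp ((X.ptSub s.1).res (wOpen s)) M i n) : T.gp (X.res Y) M i' n' :=
  (T.push (X := (X.ptSub s.1).res (wOpen s)) (Y := X.res Y) (fPiece s) M i n i' n'
    (by rw [relCodim_fPiece s (dim_of_containsFj X hY)]; exact hi)
    (by rw [relCodim_fPiece s (dim_of_containsFj X hY)]; exact hn)).hom x

theorem pushO_natural {Y Y' : X.scheme.Opens} (hY : ContainsFj X c Y) (hY' : ContainsFj X c Y') (hle : Y' ≤ Y)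
    (hi : i' = i + 2 * (c : ℤ)) (hn : n' = n + (c : ℤ))
    (s : Pieces X C c Y') (x : T.gp ((X.ptSub s.1).res (wOpen (upPiece hle s))) M i n) :
    (resO T hle (dim_of_containsFj X hY) (dim_of_containsFj X hY') M i' n').hom
        (pushO M hY hi hn (upPiece hle s) x) =
      pushO M hY' hi hn s ((T.pull ((X.ptSub s.1).resLE (wOpen_mono hle s)
        ((dim_wOpen s).trans (dim_wOpen (upPiece hle s)).symm)) M i n).hom x) := by
  let g : X.res Y' ⟶ X.res Y := X.resLE hle ((dim_of_containsFj X hY').trans (dim_of_containsFj X hY).symm)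
  let g' : (X.ptSub s.1).res (wOpen s) ⟶ (X.ptSub s.1).res (wOpen (upPiece hle s)) :=
    (X.ptSub s.1).resLE (wOpen_mono hle s) ((dim_wOpen s).trans (dim_wOpen (upPiece hle s)).symm)
  have hsq : IsPullback g'.hom (fPiece s) (fPiece (upPiece hle s)) g.hom := by
    refine (IsOpenImmersion.isPullback (fPiece s) g'.hom g.hom (fPiece (upPiece hle s)) ?_ ?_).flip
    · show (X.ptSub s.1).scheme.homOfLE (wOpen_mono hle s) ≫ (X.ptSubι s.1 ∣_ Y) =
        (X.ptSubι s.1 ∣_ Y') ≫ X.scheme.homOfLE hle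
      rw [← cancel_mono Y.ι]
      simp only [Category.assoc, morphismRestrict_ι, Scheme.homOfLE_ι, Scheme.homOfLE_ι_assoc]
    · show (X.ptSubι s.1 ∣_ Y) ⁻¹ᵁ (X.scheme.homOfLE hle).opensRange =
        ((X.ptSub s.1).scheme.homOfLE (wOpen_mono hle s)).opensRange
      rw [Scheme.opensRange_homOfLE, Scheme.opensRange_homOfLE, ← Scheme.Hom.comp_preimage, morphismRestrict_ι,
        Scheme.Hom.comp_preimage]
  have key := T.push_pull (fPiece (upPiece hle s)) (fPiece s) g g' hsq M i n i' n'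
    (by rw [relCodim_fPiece (upPiece hle s) (dim_of_containsFj X hY)]; exact hi)
    (by rw [relCodim_fPiece (upPiece hle s) (dim_of_containsFj X hY)]; exact hn)
    (by rw [relCodim_fPiece s (dim_of_containsFj X hY')]; exact hi)
    (by rw [relCodim_fPiece s (dim_of_containsFj X hY')]; exact hn)
  exact congrArg (fun m : T.gp ((X.ptSub s.1).res (wOpen (upPiece hle s))) M i n ⟶ T.gp (X.res Y') M i' n' => m.hom x) key

theorem pushData_open (P : T.PushData X c) (hi : i' = i + 2 * (c : ℤ)) (hn : n' = n + (c : ℤ))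
    {Y : X.scheme.Opens} (hY : ContainsFj X c Y) (s : Pieces X C c Y)
    (x : T.gp ((X.ptSub s.1).res (wOpen s)) M i n) :
    (P.cpt (toCd s) M i n i' n' hi hn).hom (clsP T M i n (wIdx s) x) = clsF T M i' n' hY (pushO M hY hi hn s x) :=
  congrArg (fun m : T.gp ((X.ptSub s.1).res (wOpen s)) M i n ⟶ T.fjGp X c M i' n' => m.hom x)
    (P.cpt_spec (toCd s) M i n i' n' hi hn (idxF hY) (wIdx s) (fPiece s) (morphismRestrict_ι _ _)
      (by rw [relCodim_fPiece s (dim_of_containsFj X hY)]; exact hi)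
      (by rw [relCodim_fPiece s (dim_of_containsFj X hY)]; exact hn))

/-- every class of a point is carried by a small open -/
theorem exists_rep_piece (y : X.cdPt c) (v : T.ptGp X y.1 M i n) :
    ∃ (Y : X.scheme.Opens) (_ : ContainsFj X c Y) (hy : y.1 ∈ Y)
      (x : T.gp ((X.ptSub y.1).res (wOpen (C := cl X y.1) (c := c) (Y := Y)
        ⟨y.1, subset_closure rfl, hy, (codim_eq_iff X y.1 c).1 y.2⟩)) M i n),
      clsP T M i n (wIdx (C := cl X y.1) (c := c) (Y := Y) ⟨y.1, subset_closure rfl, hy, (codim_eq_iff X y.1 c).1 y.2⟩) x = v := by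
  obtain ⟨W, x, rfl⟩ := exists_rep_P T M i n y.1 v
  let s₀ : Pieces X (cl X y.1) c ⊤ := ⟨y.1, subset_closure rfl, trivial, (codim_eq_iff X y.1 c).1 y.2⟩
  have huniq : ∀ s : Pieces X (cl X y.1) c ⊤, s = s₀ := fun s => by
    obtain ⟨t, -, ht⟩ := good_cl y ⊤ s.1 s.2.1 trivial
    exact (ht s (subset_closure rfl)).trans (ht s₀ s.2.1).symm
  obtain ⟨Y, hle, hY, hW⟩ := exists_shrink' (Y := ⊤) (bounded_cl y) (fun _ _ => trivial) fun s => (huniq s).symm ▸ W
  let s : Pieces X (cl X y.1) c Y := ⟨y.1, subset_closure rfl, hY y.1 y.2.le, (codim_eq_iff X y.1 c).1 y.2⟩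
  have hWs : wOpen s ≤ W.1 := hW s
  exact ⟨Y, hY, hY y.1 y.2.le, _, clsP_res T M i n (W := W) (W' := wIdx s) hWs x⟩

variable {M}

theorem pushData_unique (P P' : T.PushData X c) : P = P' := by
  suffices h : P.cpt = P'.cpt by cases P; cases P'; cases h; rfl
  funext y M i n i' n' hi hn
  refine ModuleCat.hom_ext (LinearMap.ext fun v => ?_)
  obtain ⟨Y, hY, hy, x, rfl⟩ := exists_rep_piece M y v
  let s : Pieces X (cl X y.1) c Y := ⟨y.1, subset_closure rfl, hy, (codim_eq_iff X y.1 c).1 y.2⟩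
  exact (pushData_open M P hi hn hY s x).trans (pushData_open M P' hi hn hY s x).symm

theorem resData_unique (Q Q' : T.ResData X j) : Q = Q' := by
  suffices h : Q.cpt = Q'.cpt by cases Q; cases Q'; cases h; rfl
  funext y M i n i' n' hi hn
  refine ModuleCat.hom_ext (LinearMap.ext fun v => ?_)
  obtain ⟨U, hU, a, rfl⟩ := exists_rep_F T M i n v
  have hi₂ : i' = i + 1 - 2 * (((j + 1 : ℕ)) : ℤ) := by push_cast; exact hi
  have hn₂ : n' = n - (((j + 1 : ℕ)) : ℤ) := by push_cast; exact hn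
  by_cases hy : y.1 ∈ U
  · rw [resData_zero M Q hi hn hU y hy a, resData_zero M Q' hi hn hU y hy a]
  · obtain ⟨Y, hY, -, hg⟩ := exists_good_open (Y₀ := ⊤) (bounded_compl hU) fun _ _ => trivial
    obtain h | ⟨s, hs⟩ := mem_piece_or (U := U) hY y
    · exact absurd h hy
    obtain rfl : toCd s = y := Subtype.ext hs
    have hle : Y ⊓ U.compl.compl ≤ U := fun z hz => not_not.1 hz.2
    rw [← clsF_res T M i n hU (fj_compl (bounded_compl hU) (fj_mono (Nat.le_succ j) hY)) hle a,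
      resData_piece M Q hi hn hi₂ hn₂ (bounded_compl hU) (fj_mono (Nat.le_succ j) hY) hg s,
      resData_piece M Q' hi hn hi₂ hn₂ (bounded_compl hU) (fj_mono (Nat.le_succ j) hY) hg s]

variable (M)

/-- restriction is surjective when the residue groups vanish -/
theorem fjRes_surjective (hi : i' = i + 1 - 2 * (((j + 1 : ℕ)) : ℤ)) (hn : n' = n - (((j + 1 : ℕ)) : ℤ))
    (h : ∀ x : X.scheme, codim X.scheme x = j + 1 → IsZero (T.ptGp X x M i' n')) :
    Function.Surjective ((T.fjRes X (Nat.le_succ j) i n).app M).hom := by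
  intro α
  obtain ⟨U, hU, a, rfl⟩ := exists_rep_F T M i n α
  obtain ⟨Y, hY, b, hb⟩ := exists_extend M hi hn hU a fun Y hY hg hle s => by
    have hz : IsZero (T.ptGp X s.1 M i' n') := h s.1 ((codim_eq_iff X s.1 (j + 1)).2 s.2.2.2)
    haveI := ModuleCat.subsingleton_of_isZero hz
    exact Subsingleton.elim (α := T.ptGp X s.1 M i' n') _ _
  exact ⟨_, hb⟩

/-- restriction is injective when the groups pushing forward vanish -/
theorem fjRes_injective (hi : i = i' + 2 * (((j + 1 : ℕ)) : ℤ)) (hn : n = n' + (((j + 1 : ℕ)) : ℤ))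
    (h : ∀ x : X.scheme, codim X.scheme x = j + 1 → IsZero (T.ptGp X x M i' n')) :
    Function.Injective ((T.fjRes X (Nat.le_succ j) i n).app M).hom := by
  rw [injective_iff_map_eq_zero]
  intro β hβ
  obtain ⟨Y₀, hY₀, b, rfl⟩ := exists_rep_F T M i n β
  rw [fjRes_clsF] at hβ
  obtain ⟨U, hU, hUY, hb⟩ := clsF_eq_zero T M i n _ hβ
  have hC := bounded_compl hU
  obtain ⟨Y, hY, hYY₀, hg⟩ := exists_good_open hC hY₀
  haveI := finite_pieces hC Y
  haveI : Fintype (Pieces X U.compl (j + 1) Y) := Fintype.ofFinite _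
  let FY : FullOpens X U.compl := fullY hC (fj_mono (Nat.le_succ j) hY)
  have hle : Y ⊓ U.compl.compl ≤ U := fun y hy => not_not.1 hy.2
  let b₁ := (resO T hYY₀ (dim_of_containsFj X hY₀) FY.2.1 M i n).hom b
  have hb₁ : (resO T inf_le_left FY.2.1 FY.2.2 M i n).hom b₁ = 0 := by
    rw [resO_comp]
    rw [← resO_comp T hUY hle (dim_of_containsFj X (containsFj_mono X (Nat.le_succ j) Y₀ hY₀))
      (dim_of_containsFj X hU) FY.2.2 M i n b, hb, map_zero]
  rw [← clsF_res T M i n hY₀ hY hYY₀ b]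
  rcases isEmpty_or_nonempty (Pieces X U.compl (j + 1) Y) with hE | hN
  · have hYU : Y ≤ U := fun y hy => by
      by_contra hyU
      obtain ⟨s, -⟩ := hg y hyU hy
      exact isEmptyElim s
    have hYU' : Y ≤ Y ⊓ U.compl.compl := le_inf le_rfl fun y hy => not_not.2 (hYU hy)
    have h1 := resO_comp T inf_le_left hYU' FY.2.1 FY.2.2 FY.2.1 M i n b₁
    rw [hb₁, map_zero] at h1
    have h2 := clsF_res T M i n hY hY (le_refl Y) b₁
    rw [show (resO T (le_refl Y) (dim_of_containsFj X hY) (dim_of_containsFj X hY) M i n).hom b₁ = 0 from h1.symm,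
      clsF, cls, map_zero] at h2
    exact h2.symm
  haveI : Nonempty (Pieces X U.compl (j + 1) FY.1) := hN
  obtain ⟨x, hx⟩ := exists_sum_push T M (Y := FY) hi hn hC hg b₁ hb₁
  have hz : ∀ s : Pieces X U.compl (j + 1) Y, ∃ (W' : ptIdx X s.1) (h' : W'.1 ≤ (wIdx s).1),
      (T.pull ((X.ptSub s.1).resLE h' (W'.2.2.trans (wIdx s).2.2.symm)) M i' n').hom (x s) = 0 := fun s => by
    have hz : IsZero (T.ptGp X s.1 M i' n') := h s.1 ((codim_eq_iff X s.1 (j + 1)).2 s.2.2.2)
    haveI := ModuleCat.subsingleton_of_isZero hz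
    exact clsP_eq_zero T M i' n' (W := wIdx s) (a := x s) (Subsingleton.elim (α := T.ptGp X s.1 M i' n') _ _)
  choose W hW hW0 using hz
  obtain ⟨Y', hle', hY', hW'⟩ := exists_shrink hC hY W
  let FY' : FullOpens X U.compl := fullY hC (fj_mono (Nat.le_succ j) hY')
  rw [← clsF_res T M i n hY hY' hle']
  refine (congrArg (clsF T M i n hY') ?_).trans (map_zero _)
  show (resO T hle' FY.2.1 FY'.2.1 M i n).hom b₁ = 0
  rw [← hx, map_sum]
  refine Finset.sum_eq_zero fun s _ => ?_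
  let t : Pieces X U.compl (j + 1) Y' := ⟨s.1, s.2.1, hY' s.1 (toCd s).2.le, s.2.2.2⟩
  refine (pushW_natural T M (Y := FY) (Y' := FY') hle' hi hn t (x s)).trans ?_
  have hd := (dim_wOpen t).trans (dim_ptSub X t.1).symm
  let k : (X.ptSub s.1).res (wOpen t) ⟶ (X.ptSub s.1).res (W s).1 :=
    (X.ptSub s.1).resLE (hW' t) (hd.trans (W s).2.2.symm)
  let l : (X.ptSub s.1).res (W s).1 ⟶ (X.ptSub s.1).res (wOpen (upPiece hle' t)) :=
    (X.ptSub s.1).resLE (hW s) ((W s).2.2.trans (wIdx (upPiece hle' t)).2.2.symm)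
  have e : (X.ptSub t.1).resLE (wOpen_mono hle' t) ((dim_wOpen t).trans (dim_wOpen (upPiece hle' t)).symm) = k ≫ l :=
    Hom.ext (Scheme.homOfLE_homOfLE (X.ptSub s.1).scheme (hW' t) (hW s)).symm
  rw [e, pull_comp]
  have h0 : (T.pull l M i' n').hom (x s) = 0 := hW0 s
  have h1 : (T.pull k M i' n').hom ((T.pull l M i' n').hom (x s)) = 0 := by rw [h0, map_zero]
  unfold pushW
  exact (congrArg _ h1).trans (map_zero _)

/-- the piece of a reduced scheme as a morphism of objects -/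
def topPiece [IsReduced X.scheme] {Y : X.scheme.Opens} (hY : ContainsFj X 0 Y) (hg : Good X ⊤ 0 Y)
    (s : Pieces X ⊤ 0 Y) : (X.ptSub s.1).res (wOpen s) ⟶ X.res Y where
  hom := fPiece s
  isOpenImmersion := by
    classical
    haveI := finite_pieces (X := X) (C := ⊤) (c := 0) (fun z _ => pdim_le X z) Y
    have hopen : IsOpen (Set.range (fPiece s)) := by
      have : Set.range (fPiece s) =
          (⋃ t : {t : Pieces X ⊤ 0 Y // t ≠ s}, Y.ι ⁻¹' closure {t.1.1})ᶜ := by
        ext z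
        obtain ⟨s₀, hs₀, huniq⟩ := hg (Y.ι z) trivial z.2
        simp only [Set.mem_compl_iff, Set.mem_iUnion, Set.mem_preimage, not_exists]
        constructor
        · rintro ⟨w, rfl⟩ t ht
          have hws : Y.ι (fPiece s w) ∈ closure ({s.1} : Set X.scheme) := by
            rw [← Scheme.Hom.comp_apply, morphismRestrict_ι, ← range_ptSubι]; exact ⟨_, rfl⟩
          exact t.2 ((huniq t.1 ht).trans (huniq s hws).symm)
        · intro h
          have hs : s₀ = s := by
            by_contra hne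
            exact h ⟨s₀, hne⟩ hs₀
          subst hs
          rw [← range_ptSubι] at hs₀
          obtain ⟨w, hw⟩ := hs₀
          refine ⟨⟨w, show X.ptSubι _ w ∈ Y by rw [hw]; exact z.2⟩, Y.ι.isOpenEmbedding.injective ?_⟩
          rw [← Scheme.Hom.comp_apply, morphismRestrict_ι]; exact hw
      rw [this]
      exact (isClosed_iUnion_of_finite fun _ => isClosed_closure.preimage (Scheme.Hom.continuous _)).isOpen_compl
    let W : (↑Y : Scheme.{u}).Opens := ⟨_, hopen⟩
    haveI : IsReduced (↑Y : Scheme.{u}) := isReduced_of_isOpenImmersion Y.ι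
    haveI : IsReduced (↑W : Scheme.{u}) := isReduced_of_isOpenImmersion W.ι
    let l : (↑(wOpen s) : Scheme.{u}) ⟶ ↑W := IsOpenImmersion.lift W.ι (fPiece s) (by rw [Scheme.Opens.range_ι]; rfl)
    have hl : l ≫ W.ι = fPiece s := IsOpenImmersion.lift_fac _ _ _
    haveI : IsClosedImmersion (l ≫ W.ι) := by rw [hl]; infer_instance
    haveI : IsClosedImmersion l := IsClosedImmersion.of_comp l W.ι
    haveI : AlgebraicGeometry.Surjective l := ⟨fun z => by
      obtain ⟨w, hw⟩ := z.2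
      refine ⟨w, W.ι.isOpenEmbedding.injective ?_⟩
      rw [← Scheme.Hom.comp_apply, hl]; exact hw⟩
    haveI := isIso_of_isClosedImmersion_of_surjective l
    rw [← hl]
    infer_instance
  dim_eq := by
    have h1 := dim_wOpen s
    have h2 := dim_of_containsFj X hY
    have h3 := s.2.2.2
    show dim (↑(wOpen s) : Scheme.{u}) = dim (↑Y : Scheme.{u})
    omega

theorem pushO_eq_pushPiece [IsReduced X.scheme] {Y : X.scheme.Opens} (hY : ContainsFj X 0 Y) (hg : Good X ⊤ 0 Y)
    (hi : i = i + 2 * ((0 : ℕ) : ℤ)) (hn : n = n + ((0 : ℕ) : ℤ))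
    (s : Pieces X ⊤ 0 Y) (x : T.gp ((X.ptSub s.1).res (wOpen s)) M i n) :
    pushO M hY hi hn s x = (pushPiece T (topPiece hY hg s) (fPiece s).isClosedEmbedding.isClosed_range M i n).hom x :=
  rfl

theorem tot_bijective_zero [IsReduced X.scheme] [Nonempty X.scheme] (P : T.PushData X 0)
    (hi : i = i + 2 * ((0 : ℕ) : ℤ)) (hn : n = n + ((0 : ℕ) : ℤ)) :
    Function.Bijective (P.tot M i n i n hi hn).hom := by
  classical
  have hC : Bounded X (⊤ : Closeds X.scheme) 0 := fun z _ => pdim_le X z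
  obtain ⟨B, hB, hgood⟩ := exists_good hC
  let Y₁ : X.scheme.Opens := ⊤ ⊓ B.compl
  have hY₁ : ContainsFj X 0 Y₁ := containsFj_diff X (U := ⊤) (fun _ _ => trivial) B hB
  have hg₁ : Good X ⊤ 0 Y₁ := hgood _ fun y hy => hy.2
  have hne : ∀ Y, ContainsFj X 0 Y → Nonempty (Pieces X ⊤ 0 Y) := fun Y hY => by
    obtain ⟨x, hx⟩ := exists_pd_top (finDim X)
    change pdim X.scheme x = dim X.scheme at hx
    exact ⟨⟨x, trivial, hY x (by unfold codim; omega), by omega⟩⟩
  have hpiece : ∀ {Y : X.scheme.Opens} (hY : ContainsFj X 0 Y) (y : X.cdPt 0),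
      ∃ s : Pieces X ⊤ 0 Y, toCd s = y :=
    fun hY y => ⟨⟨y.1, trivial, hY y.1 y.2.le, (codim_eq_iff X y.1 0).1 y.2⟩, rfl⟩
  constructor
  · rw [injective_iff_map_eq_zero]
    intro ξ hξ
    have hrep := fun s : Pieces X ⊤ 0 Y₁ => exists_rep_P T M i n s.1 (ξ (toCd s))
    choose W x hx using hrep
    obtain ⟨Y₂, hle₂, hY₂, hW₂⟩ := exists_shrink' hC hY₁ W
    haveI := finite_pieces hC Y₂
    haveI : Fintype (Pieces X ⊤ 0 Y₂) := Fintype.ofFinite _
    haveI := hne Y₂ hY₂
    let x₂ : ∀ s : Pieces X ⊤ 0 Y₂, T.gp ((X.ptSub s.1).res (wOpen s)) M i n := fun s =>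
      (T.pull ((X.ptSub s.1).resLE (hW₂ s) ((wIdx s).2.2.trans (W (upPiece hle₂ s)).2.2.symm)) M i n).hom
        (x (upPiece hle₂ s))
    have hx₂ : ∀ s : Pieces X ⊤ 0 Y₂, clsP T M i n (wIdx s) (x₂ s) = ξ (toCd s) :=
      fun s => (clsP_res T M i n (W := W (upPiece hle₂ s)) (W' := wIdx s) (hW₂ s) _).trans (hx _)
    have hinj : Function.Injective fun s : Pieces X ⊤ 0 Y₂ => toCd s := fun s t h =>
      Subtype.ext (congrArg (fun y : X.cdPt 0 => y.1) h)
    have hξ' : ξ = ∑ s : Pieces X ⊤ 0 Y₂,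
        DirectSum.lof R (X.cdPt 0) (fun y => T.ptGp X y.1 M i n) (toCd s) (ξ (toCd s)) := by
      refine DFinsupp.ext fun y => ?_
      rw [DFinsupp.finset_sum_apply]
      obtain ⟨s, rfl⟩ := hpiece hY₂ y
      rw [Finset.sum_eq_single s (fun t _ hts => DFinsupp.single_eq_of_ne fun e => hts (hinj e.symm))
        (fun h => absurd (Finset.mem_univ s) h)]
      exact (DirectSum.lof_apply (R := R) (ι := X.cdPt 0) (M := fun y => T.ptGp X y.1 M i n) (toCd s) _).symm
    have hsum : clsF T M i n hY₂ (∑ s, pushO M hY₂ hi hn s (x₂ s)) = 0 := by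
      rw [clsF, cls, map_sum]
      refine (Finset.sum_congr rfl fun s _ => ?_).trans ((map_sum (P.tot M i n i n hi hn).hom _ _).symm.trans
        ((congrArg (P.tot M i n i n hi hn).hom hξ').symm.trans hξ))
      rw [P.tot_lof, ← hx₂ s]
      exact (pushData_open M P hi hn hY₂ s (x₂ s)).symm
    obtain ⟨Y₃, hY₃, hle₃, h0⟩ := clsF_eq_zero T M i n hY₂ hsum
    have hg₂ : Good X ⊤ 0 Y₂ := good_mono hle₂ hg₁
    have hg₃ : Good X ⊤ 0 Y₃ := good_mono hle₃ hg₂
    refine DFinsupp.ext fun y => ?_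
    obtain ⟨t, rfl⟩ := hpiece hY₃ y
    have h1 : (T.pull (topPiece hY₂ hg₂ (upPiece hle₃ t)) M i n).hom (∑ s, pushO M hY₂ hi hn s (x₂ s)) =
        x₂ (upPiece hle₃ t) := by
      have := (sum_pieces T _ (fun s : Pieces X ⊤ 0 Y₂ => topPiece hY₂ hg₂ s)
        (fun s t hst => Set.disjoint_left.2 fun z ⟨w, hw⟩ ⟨w', hw'⟩ => by
          obtain ⟨s₀, -, hu⟩ := hg₂ (Y₂.ι z) trivial z.2
          have hmem : ∀ (r : Pieces X ⊤ 0 Y₂) v, (topPiece hY₂ hg₂ r).hom v = z →
              Y₂.ι z ∈ closure ({r.1} : Set X.scheme) := fun r v e => by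
            rw [← e]
            show Y₂.ι (fPiece r v) ∈ _
            rw [← Scheme.Hom.comp_apply, morphismRestrict_ι, ← range_ptSubι]; exact ⟨_, rfl⟩
          exact hst ((hu s (hmem s w hw)).trans (hu t (hmem t w' hw')).symm))
        (fun z => by
          obtain ⟨s₀, hs₀, -⟩ := hg₂ (Y₂.ι z) trivial z.2
          rw [← range_ptSubι] at hs₀
          obtain ⟨w, hw⟩ := hs₀
          refine ⟨s₀, ⟨w, show X.ptSubι _ w ∈ Y₂ by rw [hw]; exact z.2⟩, Y₂.ι.isOpenEmbedding.injective ?_⟩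
          show Y₂.ι (fPiece s₀ _) = _
          rw [← Scheme.Hom.comp_apply, morphismRestrict_ι]; exact hw)
        (fun s => (fPiece s).isClosedEmbedding.isClosed_range) M i n).2 x₂ (upPiece hle₃ t)
      exact this
    let k : (X.ptSub t.1).res (wOpen t) ⟶ (X.ptSub t.1).res (wOpen (upPiece hle₃ t)) :=
      (X.ptSub t.1).resLE (wOpen_mono hle₃ t) ((dim_wOpen t).trans (dim_wOpen (upPiece hle₃ t)).symm)
    have hsq : k ≫ topPiece hY₂ hg₂ (upPiece hle₃ t) =
        topPiece hY₃ hg₃ t ≫ X.resLE hle₃ ((dim_of_containsFj X hY₃).trans (dim_of_containsFj X hY₂).symm) := by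
      refine Hom.ext ?_
      show (X.ptSub t.1).scheme.homOfLE (wOpen_mono hle₃ t) ≫ (X.ptSubι t.1 ∣_ Y₂) =
        (X.ptSubι t.1 ∣_ Y₃) ≫ X.scheme.homOfLE hle₃
      rw [← cancel_mono Y₂.ι]
      simp only [Category.assoc, morphismRestrict_ι, Scheme.homOfLE_ι, Scheme.homOfLE_ι_assoc]
    have h2 : (T.pull k M i n).hom (x₂ (upPiece hle₃ t)) = 0 := by
      rw [← h1, ← pull_comp, hsq, pull_comp]
      exact (congrArg _ h0).trans (map_zero _)
    show ξ (toCd (upPiece hle₃ t)) = 0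
    rw [← hx₂, ← clsP_res T M i n (W := wIdx (upPiece hle₃ t)) (W' := wIdx t) (wOpen_mono hle₃ t)]
    exact (congrArg (clsP T M i n (wIdx t)) h2).trans (map_zero _)
  · intro β
    obtain ⟨Y₀, hY₀, b, rfl⟩ := exists_rep_F T M i n β
    let Y : X.scheme.Opens := Y₀ ⊓ B.compl
    have hY : ContainsFj X 0 Y := containsFj_diff X hY₀ B hB
    have hg : Good X ⊤ 0 Y := hgood _ fun y hy => hy.2
    haveI := finite_pieces hC Y
    haveI : Fintype (Pieces X ⊤ 0 Y) := Fintype.ofFinite _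
    haveI := hne Y hY
    rw [← clsF_res T M i n hY₀ hY inf_le_left b]
    let b₁ := (resO T (inf_le_left : Y ≤ Y₀) (dim_of_containsFj X hY₀) (dim_of_containsFj X hY) M i n).hom b
    have hsum := (sum_pieces T _ (fun s : Pieces X ⊤ 0 Y => topPiece hY hg s)
        (fun s t hst => Set.disjoint_left.2 fun z ⟨w, hw⟩ ⟨w', hw'⟩ => by
          obtain ⟨s₀, -, hu⟩ := hg (Y.ι z) trivial z.2
          have hmem : ∀ (r : Pieces X ⊤ 0 Y) v, (topPiece hY hg r).hom v = z →
              Y.ι z ∈ closure ({r.1} : Set X.scheme) := fun r v e => by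
            rw [← e]
            show Y.ι (fPiece r v) ∈ _
            rw [← Scheme.Hom.comp_apply, morphismRestrict_ι, ← range_ptSubι]; exact ⟨_, rfl⟩
          exact hst ((hu s (hmem s w hw)).trans (hu t (hmem t w' hw')).symm))
        (fun z => by
          obtain ⟨s₀, hs₀, -⟩ := hg (Y.ι z) trivial z.2
          rw [← range_ptSubι] at hs₀
          obtain ⟨w, hw⟩ := hs₀
          refine ⟨s₀, ⟨w, show X.ptSubι _ w ∈ Y by rw [hw]; exact z.2⟩, Y.ι.isOpenEmbedding.injective ?_⟩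
          show Y.ι (fPiece s₀ _) = _
          rw [← Scheme.Hom.comp_apply, morphismRestrict_ι]; exact hw)
        (fun s => (fPiece s).isClosedEmbedding.isClosed_range) M i n).1 b₁
    refine ⟨∑ s : Pieces X ⊤ 0 Y, DirectSum.lof R (X.cdPt 0) (fun y => T.ptGp X y.1 M i n)
      (toCd s) (clsP T M i n (wIdx s) ((T.pull (topPiece hY hg s) M i n).hom b₁)), ?_⟩
    rw [map_sum]
    refine (Finset.sum_congr rfl fun s _ => (P.tot_lof M i n i n hi hn (toCd s) _).trans
      (pushData_open M P hi hn hY s _)).trans ?_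
    exact (map_sum _ _ _).symm.trans (congrArg _ hsum)

theorem gp_empty (Z : Obj V) [IsEmpty Z.scheme] (b : T.gp Z M i n) : b = 0 := by
  let D : Decomp Z := { Z := Z, U := Z, i := 𝟙 Z.scheme, closedImm := inferInstance, j := 𝟙 Z,
                        range_eq := Set.ext fun z => isEmptyElim z }
  obtain ⟨i, rfl⟩ : ∃ i₀ : ℤ, i = i₀ + 1 := ⟨i - 1, by ring⟩
  have h0 : relCodim D.Z.scheme Z.scheme = 0 := by show (_ : ℤ) - _ = 0; exact sub_self _
  have h := (T.exact_push_pull D M i n (i + 1) n (by rw [h0]; ring) (by rw [h0]; ring) b).2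
    ⟨b, by
      show (T.push (𝟙 Z.scheme) M (i + 1) n (i + 1) n _ _).hom b = b
      rw [T.push_id Z M (i + 1) n]; rfl⟩
  rw [← pull_id T Z M (i + 1) n b]
  exact h

theorem tot_bijective_zero' [IsReduced X.scheme] (P : T.PushData X 0)
    (hi : i = i + 2 * ((0 : ℕ) : ℤ)) (hn : n = n + ((0 : ℕ) : ℤ)) :
    Function.Bijective (P.tot M i n i n hi hn).hom := by
  rcases isEmpty_or_nonempty X.scheme with hE | hN
  · haveI : IsEmpty (X.cdPt 0) := ⟨fun y => isEmptyElim (α := X.scheme) y.1⟩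
    refine ⟨fun ξ ξ' _ => Subsingleton.elim _ _, fun β => ⟨0, ?_⟩⟩
    obtain ⟨Y, hY, b, rfl⟩ := exists_rep_F T M i n β
    haveI : IsEmpty (X.res Y).scheme := ⟨fun z => isEmptyElim (Y.ι z)⟩
    rw [gp_empty M (X.res Y) b, map_zero, clsF, cls, map_zero]
  · exact tot_bijective_zero M P hi hn

end Groth.Agent.BM97
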