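import Groth.Agent.BM97.Deg

/-! Restriction to the loci is bijective when the groups of the closed subschemes vanish. -/

set_option autoImplicit false
universe u

noncomputable section

open AlgebraicGeometry CategoryTheory Limits TopologicalSpace WeilCoh BMCoh Opposite

namespace Groth.Agent.BM97

variable {V : ObjectProperty Scheme.{u}} [IsConstructible V] {R : Type u} [CommRing R] {A : Coefs R}
  (T : PreTheory V R A) {X : Obj V}

/-- a closed set can be enlarged to one of exact dimension -/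
theorem exists_enlarge {C : Closeds X.scheme} {e : ℕ} (hC : Bounded X C e) (hne : ∃ y, y ∈ C) :
    ∃ C' : Closeds X.scheme, C ≤ C' ∧ Bounded X C' e ∧ dim (subObj X C').scheme + e = dim X.scheme := by
  obtain ⟨y, hy⟩ := hne
  have hye := hC y hy
  haveI : Nonempty X.scheme := ⟨y⟩
  obtain ⟨x₀, hx₀⟩ : ∃ x₀ : X.scheme, pdim X.scheme x₀ = dim X.scheme - e :=
    exists_pd_eq (finDim X) (m := dim X.scheme - e) (Nat.sub_le _ _)
  have hb : Bounded X (C ⊔ cl X x₀) e := fun z hz => by
    rcases hz with hz | hz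
    · exact hC z hz
    · have h1 : pdim X.scheme z ≤ pdim X.scheme x₀ := pdim_mono X hz
      omega
  refine ⟨C ⊔ cl X x₀, le_sup_left, hb, ?_⟩
  have hlow : pdim X.scheme x₀ ≤ dim (subObj X (C ⊔ cl X x₀)).scheme := by
    have hmem : x₀ ∈ Set.range (subι X (C ⊔ cl X x₀)) := by
      rw [range_subι]; exact Or.inr (subset_closure rfl)
    obtain ⟨z, hz⟩ := hmem
    have h1 : pdim (subObj X (C ⊔ cl X x₀)).scheme z = pdim X.scheme (subι X _ z) := pdim_sub X _ z
    have h2 := pdim_le (subObj X (C ⊔ cl X x₀)) z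
    rw [hz] at h1
    omega
  have hhigh : dim (subObj X (C ⊔ cl X x₀)).scheme ≤ dim X.scheme - e := by
    show natDim _ ≤ _
    rw [natDim_range (subι X (C ⊔ cl X x₀)).isClosedEmbedding.isEmbedding, range_subι]
    exact natDim_le_of_pd (finDim X) (C ⊔ cl X x₀).isClosed fun x hx => by
      have := hb x hx; change pdim X.scheme x ≤ _; omega
  omega

section patch

variable {C : Closeds X.scheme} {j m m' : ℕ}

theorem fullY' (hb : Bounded X C (j + 1)) (hm : j + 1 + m = m') {Y : X.scheme.Opens}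
    (hY : ContainsFj X m' Y) : ContainsFj X j (Y ⊓ C.compl) :=
  fj_compl hb (fj_mono (show j ≤ m' by omega) hY)

theorem zOpen_contains (hdim : dim (subObj X C).scheme + (j + 1) = dim X.scheme) (hm : j + 1 + m = m')
    {Y : X.scheme.Opens} (hY : ContainsFj X m' Y) : ContainsFj (subObj X C) m (zOpen X C Y) := by
  intro z hz
  show subι X C z ∈ Y
  refine hY _ ?_
  have h1 : pdim (subObj X C).scheme z = pdim X.scheme (subι X C z) := pdim_sub X C z
  have h2 := pdim_le (subObj X C) z
  unfold codim at hz ⊢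
  omega

theorem exists_open (hdim : dim (subObj X C).scheme + (j + 1) = dim X.scheme) (hm : j + 1 + m = m')
    {Y : X.scheme.Opens} (hY : ContainsFj X m' Y) {W : (subObj X C).scheme.Opens}
    (hW : ContainsFj (subObj X C) m W) :
    ∃ Y' : X.scheme.Opens, Y' ≤ Y ∧ ContainsFj X m' Y' ∧ zOpen X C Y' ≤ W := by
  let B : Closeds X.scheme := ⟨subι X C '' (W : Set (subObj X C).scheme)ᶜ,
    (subι X C).isClosedEmbedding.isClosedMap _ W.isOpen.isClosed_compl⟩
  have hB : ∀ y ∈ B, pdim X.scheme y + (m' + 1) ≤ dim X.scheme := by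
    rintro y ⟨z, hz, rfl⟩
    have h1 : pdim (subObj X C).scheme z = pdim X.scheme (subι X C z) := pdim_sub X C z
    have h2 := mem_of_containsFj (subObj X C) hW hz
    omega
  refine ⟨Y ⊓ B.compl, inf_le_left, containsFj_diff X hY B hB, fun z hz => ?_⟩
  by_contra hzW
  exact hz.2 ⟨z, hzW, rfl⟩

variable (hb : Bounded X C (j + 1)) (hdim : dim (subObj X C).scheme + (j + 1) = dim X.scheme) (hm : j + 1 + m = m')

include hdim hm in
theorem codim_dec' {Y : FullOpens X C} (hY : ContainsFj X m' Y.1) : (dec X C Y).codim = ((j + 1 : ℕ) : ℤ) := by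
  have h1 := dim_of_containsFj (subObj X C) (zOpen_contains hdim hm hY)
  have h2 := Y.2.1
  show ((dim (↑Y.1 : Scheme.{u}) : ℤ) - (dim (↑(zOpen X C Y.1) : Scheme.{u}) : ℤ)) = ((j + 1 : ℕ) : ℤ)
  omega

/-- an open as a patch -/
abbrev fullM {Y : X.scheme.Opens} (hY : ContainsFj X m' Y) : FullOpens X C :=
  ⟨Y, full_of_fj (fj_mono (show j ≤ m' by omega) hY) (fullY' hb hm hY)⟩

variable (M : A.Cat) {i n i' n' : ℤ}

include hdim in
theorem exists_lift_dec (hi : i' = i + 1 - 2 * ((j + 1 : ℕ) : ℤ)) (hn : n' = n - ((j + 1 : ℕ) : ℤ))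
    (hz : IsZero (T.fjGp (subObj X C) m M i' n'))
    (a : T.gp (X.res (⊤ ⊓ C.compl)) M i n) :
    ∃ (Y : X.scheme.Opens) (hY : ContainsFj X m' Y) (b : T.gp (X.res Y) M i n),
      (resO T inf_le_left (fullM hb hm hY).2.1 (fullM hb hm hY).2.2 M i n).hom b =
        (resO T (inf_le_inf_right C.compl le_top) (fullM hb hm (containsFj_top X m')).2.2
          (fullM hb hm hY).2.2 M i n).hom a := by
  let F : FullOpens X C := fullM hb hm (containsFj_top X m')
  have hcF : (dec X C F).codim = ((j + 1 : ℕ) : ℤ) := codim_dec' hdim hm (containsFj_top X m')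
  have hci : i' = i + 1 - 2 * (dec X C F).codim := by rw [hcF]; exact hi
  have hcn : n' = n - (dec X C F).codim := by rw [hcF]; exact hn
  have hZ : ContainsFj (subObj X C) m (zOpen X C F.1) := zOpen_contains hdim hm (containsFj_top X m')
  obtain ⟨W, hW, hle, h0⟩ := clsF_eq_zero T M i' n' hZ
    (eq_zero_of_isZero hz (clsF T M i' n' hZ ((T.res (dec X C F) M i n i' n' hci hcn).hom a)))
  obtain ⟨Y, -, hY, hYW⟩ := exists_open hdim hm (containsFj_top X m') hW
  let F' : FullOpens X C := fullM hb hm hY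
  have hcF' : (dec X C F').codim = ((j + 1 : ℕ) : ℤ) := codim_dec' hdim hm hY
  have hci' : i' = i + 1 - 2 * (dec X C F').codim := by rw [hcF']; exact hi
  have hcn' : n' = n - (dec X C F').codim := by rw [hcF']; exact hn
  have hdz : dim (↑(zOpen X C Y) : Scheme.{u}) = dim (↑(zOpen X C F.1) : Scheme.{u}) :=
    (dim_of_containsFj _ (zOpen_contains hdim hm hY)).trans (dim_of_containsFj _ hZ).symm
  have hzle : zOpen X C Y ≤ zOpen X C F.1 := hYW.trans hle
  let gY : X.res F'.1 ⟶ X.res F.1 := X.resLE le_top (F'.2.1.trans F.2.1.symm)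
  let gZ : (dec X C F').Z ⟶ (dec X C F).Z := (subObj X C).resLE hzle hdz
  let gU : (dec X C F').U ⟶ (dec X C F).U :=
    X.resLE (inf_le_inf_right C.compl le_top) (F'.2.2.trans F.2.2.symm)
  have e1 : gZ.hom ≫ (dec X C F).i = (dec X C F').i ≫ gY.hom := by
    show (subObj X C).scheme.homOfLE (show zOpen X C Y ≤ zOpen X C ⊤ from hzle) ≫ (subι X C ∣_ ⊤) =
      (subι X C ∣_ Y) ≫ X.scheme.homOfLE (le_top : Y ≤ ⊤)
    rw [← cancel_mono (⊤ : X.scheme.Opens).ι]
    simp only [Category.assoc, morphismRestrict_ι, Scheme.homOfLE_ι, Scheme.homOfLE_ι_assoc]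
  have e2 : gU ≫ (dec X C F).j = (dec X C F').j ≫ gY :=
    Hom.ext ((Scheme.homOfLE_homOfLE X.scheme (inf_le_inf_right C.compl le_top) inf_le_left).trans
      (Scheme.homOfLE_homOfLE X.scheme inf_le_left le_top).symm)
  have key := congrArg (fun f : T.gp (dec X C F).U M i n ⟶ T.gp (dec X C F').Z M i' n' => f.hom a)
    (T.res_pull (dec X C F) (dec X C F') gY gZ gU e1 e2 M i n i' n' hci hcn hci' hcn')
  have hzero : (T.res (dec X C F') M i n i' n' hci' hcn').hom ((T.pull gU M i n).hom a) = 0 := by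
    refine key.symm.trans ?_
    show (T.pull gZ M i' n').hom _ = 0
    have h1 := resO_comp T hle hYW (dim_of_containsFj _ hZ) (dim_of_containsFj _ hW)
      (dim_of_containsFj _ (zOpen_contains hdim hm hY)) M i' n' ((T.res (dec X C F) M i n i' n' hci hcn).hom a)
    rw [h0, map_zero] at h1
    exact h1.symm
  obtain ⟨b, hb'⟩ := (T.exact_pull_res (dec X C F') M i n i' n' hci' hcn' _).1 hzero
  exact ⟨Y, hY, b, hb'⟩

include hdim in
theorem exists_kill_dec (hi : i = i' + 2 * ((j + 1 : ℕ) : ℤ)) (hn : n = n' + ((j + 1 : ℕ) : ℤ))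
    (hz : IsZero (T.fjGp (subObj X C) m M i' n'))
    {Y : X.scheme.Opens} (hY : ContainsFj X m' Y) (b : T.gp (X.res Y) M i n)
    (h : (resO T inf_le_left (fullM hb hm hY).2.1 (fullM hb hm hY).2.2 M i n).hom b = 0) :
    ∃ (Y' : X.scheme.Opens) (hY' : ContainsFj X m' Y') (hle : Y' ≤ Y),
      (resO T hle (dim_of_containsFj X hY) (dim_of_containsFj X hY') M i n).hom b = 0 := by
  obtain ⟨i₀, rfl⟩ : ∃ i₀ : ℤ, i = i₀ + 1 := ⟨i - 1, by ring⟩
  let F : FullOpens X C := fullM hb hm hY
  have hcF : relCodim (dec X C F).Z.scheme (X.res F.1).scheme = ((j + 1 : ℕ) : ℤ) := codim_dec' hdim hm hY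
  have hci : i₀ + 1 = i' + 2 * relCodim (dec X C F).Z.scheme (X.res F.1).scheme := by rw [hcF]; exact hi
  have hcn : n = n' + relCodim (dec X C F).Z.scheme (X.res F.1).scheme := by rw [hcF]; exact hn
  obtain ⟨c, hc⟩ := (T.exact_push_pull (dec X C F) M i₀ n i' n' hci hcn b).1 h
  have hZ : ContainsFj (subObj X C) m (zOpen X C Y) := zOpen_contains hdim hm hY
  obtain ⟨W, hW, hle, h0⟩ := clsF_eq_zero T M i' n' hZ (eq_zero_of_isZero hz (clsF T M i' n' hZ c))
  obtain ⟨Y', hYY, hY', hYW⟩ := exists_open hdim hm hY hW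
  let F' : FullOpens X C := fullM hb hm hY'
  have hcF' : relCodim (dec X C F').Z.scheme (X.res F'.1).scheme = ((j + 1 : ℕ) : ℤ) := codim_dec' hdim hm hY'
  have hci' : i₀ + 1 = i' + 2 * relCodim (dec X C F').Z.scheme (X.res F'.1).scheme := by rw [hcF']; exact hi
  have hcn' : n = n' + relCodim (dec X C F').Z.scheme (X.res F'.1).scheme := by rw [hcF']; exact hn
  have hdz : dim (↑(zOpen X C Y') : Scheme.{u}) = dim (↑(zOpen X C Y) : Scheme.{u}) :=
    (dim_of_containsFj _ (zOpen_contains hdim hm hY')).trans (dim_of_containsFj _ hZ).symm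
  let g : X.res Y' ⟶ X.res Y := X.resLE hYY ((dim_of_containsFj X hY').trans (dim_of_containsFj X hY).symm)
  let g' : (dec X C F').Z ⟶ (dec X C F).Z := (subObj X C).resLE (hYW.trans hle) hdz
  have hsq : IsPullback g'.hom (dec X C F').i (dec X C F).i g.hom := by
    refine (IsOpenImmersion.isPullback (dec X C F').i g'.hom g.hom (dec X C F).i ?_ ?_).flip
    · show (subObj X C).scheme.homOfLE (hYW.trans hle) ≫ (subι X C ∣_ Y) =
        (subι X C ∣_ Y') ≫ X.scheme.homOfLE hYY
      rw [← cancel_mono Y.ι]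
      simp only [Category.assoc, morphismRestrict_ι, Scheme.homOfLE_ι, Scheme.homOfLE_ι_assoc]
    · show (subι X C ∣_ Y) ⁻¹ᵁ (X.scheme.homOfLE hYY).opensRange =
        ((subObj X C).scheme.homOfLE (hYW.trans hle)).opensRange
      rw [Scheme.opensRange_homOfLE, Scheme.opensRange_homOfLE, ← Scheme.Hom.comp_preimage, morphismRestrict_ι,
        Scheme.Hom.comp_preimage]
  have key := congrArg (fun f : T.gp (dec X C F).Z M i' n' ⟶ T.gp (X.res Y') M (i₀ + 1) n => f.hom c)
    (T.push_pull (dec X C F).i (dec X C F').i g g' hsq M i' n' (i₀ + 1) n hci hcn hci' hcn')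
  refine ⟨Y', hY', hYY, ?_⟩
  show (T.pull g M (i₀ + 1) n).hom b = 0
  rw [← hc]
  refine key.trans ?_
  have h1 := resO_comp T hle hYW (dim_of_containsFj _ hZ) (dim_of_containsFj _ hW)
    (dim_of_containsFj _ (zOpen_contains hdim hm hY')) M i' n' c
  rw [h0, map_zero] at h1
  exact (congrArg (T.push (dec X C F').i M i' n' (i₀ + 1) n hci' hcn').hom h1.symm).trans (map_zero _)

end patch

/-- restriction to the loci is bijective when the groups of the closed subschemes of codimension j+1 vanish -/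
theorem fjRes_bijective_of_closed (M : A.Cat) (i n : ℤ) {j m m' : ℕ} (hjm : j ≤ m') (hm : j + 1 + m = m')
    (hZ : ∀ C : Closeds X.scheme, dim (subObj X C).scheme + (j + 1) = dim X.scheme →
      IsZero (T.fjGp (subObj X C) m M (i + 1 - 2 * ((j + 1 : ℕ) : ℤ)) (n - ((j + 1 : ℕ) : ℤ))) ∧
      IsZero (T.fjGp (subObj X C) m M (i - 2 * ((j + 1 : ℕ) : ℤ)) (n - ((j + 1 : ℕ) : ℤ)))) :
    Function.Bijective ((T.fjRes X hjm i n).app M).hom := by
  constructor
  · rw [injective_iff_map_eq_zero]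
    intro β hβ
    obtain ⟨Y, hY, b, rfl⟩ := exists_rep_F T M i n β
    rw [fjRes_clsF] at hβ
    obtain ⟨U, hU, hUY, h0⟩ := clsF_eq_zero T M i n _ hβ
    by_cases hne : ∃ y, y ∈ U.compl
    · obtain ⟨C, hle, hb, hdim⟩ := exists_enlarge (bounded_compl hU) hne
      have hle' : Y ⊓ C.compl ≤ U := fun y hy => by_contra fun h => hy.2 (hle h)
      have h' : (resO T inf_le_left (fullM hb hm hY).2.1 (fullM hb hm hY).2.2 M i n).hom b = 0 := by
        rw [← resO_comp T hUY hle' (dim_of_containsFj X (containsFj_mono X hjm Y hY))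
          (dim_of_containsFj X hU) (fullM hb hm hY).2.2 M i n b, h0, map_zero]
      obtain ⟨Y', hY', hYY, e⟩ := exists_kill_dec T hb hdim hm M (i := i) (n := n)
        (i' := i - 2 * ((j + 1 : ℕ) : ℤ)) (n' := n - ((j + 1 : ℕ) : ℤ)) (by ring) (by ring) (hZ C hdim).2 hY b h'
      rw [← clsF_res T M i n hY hY' hYY b, e, clsF, cls, map_zero]
    · have hUtop : ∀ y, y ∈ U := fun y => by_contra fun h => hne ⟨y, h⟩
      have hYU : Y ≤ U := fun y _ => hUtop y
      have e : Y = U := le_antisymm hYU hUY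
      subst e
      have hid : X.resLE hUY ((dim_of_containsFj X hU).trans
          (dim_of_containsFj X (containsFj_mono X hjm Y hY)).symm) = 𝟙 _ := Hom.ext (Scheme.homOfLE_rfl _ _)
      change (T.pull (X.resLE hUY _) M i n).hom b = 0 at h0
      rw [hid, pull_id] at h0
      rw [h0, clsF, cls, map_zero]
  · intro α
    obtain ⟨U, hU, a, rfl⟩ := exists_rep_F T M i n α
    by_cases hne : ∃ y, y ∈ U.compl
    · obtain ⟨C, hle, hb, hdim⟩ := exists_enlarge (bounded_compl hU) hne
      have hle' : (⊤ : X.scheme.Opens) ⊓ C.compl ≤ U := fun y hy => by_contra fun h => hy.2 (hle h)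
      have hT : ContainsFj X j (⊤ ⊓ C.compl) := fj_compl hb (containsFj_top X j)
      obtain ⟨Y, hY, b, e⟩ := exists_lift_dec T hb hdim hm M rfl rfl (hZ C hdim).1
        ((resO T hle' (dim_of_containsFj X hU) (dim_of_containsFj X hT) M i n).hom a)
      refine ⟨clsF T M i n hY b, ?_⟩
      rw [fjRes_clsF, ← clsF_res T M i n (containsFj_mono X hjm Y hY) (fullY' hb hm hY) inf_le_left b,
        ← clsF_res T M i n hU hT hle' a,
        ← clsF_res T M i n hT (fullY' hb hm hY) (inf_le_inf_right C.compl le_top)]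
      exact congrArg _ e
    · have hUtop : ∀ y, y ∈ U := fun y => by_contra fun h => hne ⟨y, h⟩
      have hU' : ContainsFj X m' U := fun y _ => hUtop y
      exact ⟨clsF T M i n hU' a, fjRes_clsF T hjm M i n hU' a⟩

end Groth.Agent.BM97
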