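import Groth.Agent.BM97.Data

/-! Restriction from the whole object and between the loci, degree bounds, vanishing. -/

set_option autoImplicit false
universe u

noncomputable section

open AlgebraicGeometry CategoryTheory Limits TopologicalSpace WeilCoh BMCoh Opposite

namespace Groth.Agent.BM97

variable {V : ObjectProperty Scheme.{u}} [IsConstructible V] {R : Type u} [CommRing R] {A : Coefs R}
  (T : PreTheory V R A) {X : Obj V} {j : ℕ}

theorem fjRes_self (M : A.Cat) (i n : ℤ) (x : T.fjGp X j M i n) :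
    ((T.fjRes X (le_refl j) i n).app M).hom x = x := by
  obtain ⟨Y, hY, a, rfl⟩ := exists_rep_F T M i n x
  exact fjRes_clsF T (le_refl j) M i n hY a

theorem fjRes_fjRes {m l : ℕ} (h : j ≤ m) (h' : m ≤ l) (M : A.Cat) (i n : ℤ) (x : T.fjGp X l M i n) :
    ((T.fjRes X h i n).app M).hom (((T.fjRes X h' i n).app M).hom x) =
      ((T.fjRes X (h.trans h') i n).app M).hom x := by
  obtain ⟨Y, hY, a, rfl⟩ := exists_rep_F T M i n x
  rw [fjRes_clsF T h' M i n hY a, fjRes_clsF T h M i n (containsFj_mono X h' Y hY) a,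
    fjRes_clsF T (h.trans h') M i n hY a]

theorem containsFj_top (X : Obj V) (j : ℕ) : ContainsFj X j ⊤ := fun _ _ => trivial

theorem toFj_apply (M : A.Cat) (i n : ℤ) (a : T.gp X M i n) :
    ((T.toFj X j i n).app M).hom a = clsF T M i n (containsFj_top X j) ((T.pull X.resTop M i n).hom a) := rfl

theorem fjRes_toFj {m : ℕ} (h : j ≤ m) (M : A.Cat) (i n : ℤ) (a : T.gp X M i n) :
    ((T.fjRes X h i n).app M).hom (((T.toFj X m i n).app M).hom a) = ((T.toFj X j i n).app M).hom a := by
  rw [toFj_apply, toFj_apply]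
  exact fjRes_clsF T h M i n (containsFj_top X m) _

/-- the whole object as an open of itself, inverse direction -/
def topInv (X : Obj V) : X ⟶ X.res ⊤ :=
  ⟨X.scheme.topIso.inv, (inferInstance : IsOpenImmersion X.scheme.topIso.inv), (dim_top _).symm⟩

theorem topInv_resTop (X : Obj V) : topInv X ≫ X.resTop = 𝟙 X := Hom.ext X.scheme.topIso.inv_hom_id

theorem resTop_topInv (X : Obj V) : X.resTop ≫ topInv X = 𝟙 (X.res ⊤) := Hom.ext X.scheme.topIso.hom_inv_id

theorem pull_resTop_bijective (M : A.Cat) (i n : ℤ) : Function.Bijective (T.pull X.resTop M i n).hom :=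
  Function.bijective_iff_has_inverse.2 ⟨(T.pull (topInv X) M i n).hom,
    fun a => by rw [← pull_comp, topInv_resTop, pull_id],
    fun a => by rw [← pull_comp, resTop_topInv, pull_id]⟩

theorem eq_top_of_fj (hj : dim X.scheme ≤ j) {Y : X.scheme.Opens} (hY : ContainsFj X j Y) : Y = ⊤ :=
  eq_top_iff.2 fun y _ => hY y (by unfold codim; omega)

theorem toFj_bijective_top (hj : dim X.scheme ≤ j) (M : A.Cat) (i n : ℤ) :
    Function.Bijective ((T.toFj X j i n).app M).hom := by
  have hb := pull_resTop_bijective T (X := X) M i n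
  constructor
  · rw [injective_iff_map_eq_zero]
    intro a ha
    rw [toFj_apply] at ha
    obtain ⟨Y', hY', h', e⟩ := clsF_eq_zero T M i n _ ha
    obtain rfl := eq_top_of_fj hj hY'
    have : X.resLE h' ((dim_of_containsFj X hY').trans (dim_of_containsFj X (containsFj_top X j)).symm) = 𝟙 _ :=
      Hom.ext (Scheme.homOfLE_rfl _ _)
    refine hb.1 ?_
    rw [map_zero]
    change (T.pull (X.resLE h' _) M i n).hom _ = 0 at e
    rw [this, pull_id] at e
    exact e
  · intro x
    obtain ⟨Y, hY, b, rfl⟩ := exists_rep_F T M i n x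
    obtain rfl := eq_top_of_fj hj hY
    obtain ⟨a, rfl⟩ := hb.2 b
    exact ⟨a, toFj_apply T M i n a⟩

/-- restriction between loci is bijective when all the groups in between vanish -/
theorem fjRes_bijective (M : A.Cat) (i n : ℤ) {m : ℕ} (h : j ≤ m)
    (hv : ∀ (c : ℕ) (x : X.scheme), j < c → c ≤ m → codim X.scheme x = c →
      IsZero (T.ptGp X x M (i + 1 - 2 * (c : ℤ)) (n - (c : ℤ))) ∧
      IsZero (T.ptGp X x M (i - 2 * (c : ℤ)) (n - (c : ℤ)))) :
    Function.Bijective ((T.fjRes X h i n).app M).hom := by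
  induction m, h using Nat.le_induction with
  | base =>
    have : ((T.fjRes X (le_refl j) i n).app M).hom = LinearMap.id := LinearMap.ext fun x => fjRes_self T M i n x
    rw [this]; exact Function.bijective_id
  | succ m h ih =>
    have e : ⇑((T.fjRes X (Nat.le_succ_of_le h) i n).app M).hom =
        ⇑((T.fjRes X h i n).app M).hom ∘ ⇑((T.fjRes X (Nat.le_succ m) i n).app M).hom :=
      funext fun x => (fjRes_fjRes T h (Nat.le_succ m) M i n x).symm
    rw [e]
    refine (ih fun c x h1 h2 hc => hv c x h1 (Nat.le_succ_of_le h2) hc).comp ⟨?_, ?_⟩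
    · exact fjRes_injective M (i' := i - 2 * ((m + 1 : ℕ) : ℤ)) (n' := n - ((m + 1 : ℕ) : ℤ)) (by ring) (by ring)
        fun x hx => (hv (m + 1) x (Nat.lt_succ_of_le h) le_rfl hx).2
    · exact fjRes_surjective M rfl rfl fun x hx => (hv (m + 1) x (Nat.lt_succ_of_le h) le_rfl hx).1

theorem toFj_bijective (M : A.Cat) (i n : ℤ)
    (hv : ∀ (c : ℕ) (x : X.scheme), j < c → codim X.scheme x = c →
      IsZero (T.ptGp X x M (i + 1 - 2 * (c : ℤ)) (n - (c : ℤ))) ∧
      IsZero (T.ptGp X x M (i - 2 * (c : ℤ)) (n - (c : ℤ)))) :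
    Function.Bijective ((T.toFj X j i n).app M).hom := by
  have hle : j ≤ max j (dim X.scheme) := le_max_left _ _
  have e : ⇑((T.toFj X j i n).app M).hom =
      ⇑((T.fjRes X hle i n).app M).hom ∘ ⇑((T.toFj X (max j (dim X.scheme)) i n).app M).hom :=
    funext fun x => (fjRes_toFj T hle M i n x).symm
  rw [e]
  exact (fjRes_bijective T M i n hle fun c x h1 _ hc => hv c x h1 hc).comp
    (toFj_bijective_top T (le_max_right _ _) M i n)

/-- the group of the generic points vanishes with the groups of these points -/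
theorem fjGp_zero_isZero [IsReduced X.scheme] (M : A.Cat) (i n : ℤ)
    (h : ∀ x : X.scheme, codim X.scheme x = 0 → IsZero (T.ptGp X x M i n)) : IsZero (T.fjGp X 0 M i n) := by
  classical
  refine @ModuleCat.isZero_of_subsingleton _ _ _ ⟨fun a b => ?_⟩
  suffices key : ∀ β : T.fjGp X 0 M i n, β = 0 by rw [key a, key b]
  intro β
  rcases isEmpty_or_nonempty X.scheme with hE | hN
  · obtain ⟨Y, hY, b, rfl⟩ := exists_rep_F T M i n β
    haveI : IsEmpty (X.res Y).scheme := ⟨fun z => isEmptyElim (Y.ι z)⟩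
    rw [gp_empty M (X.res Y) b, clsF, cls, map_zero]
  have hC : Bounded X (⊤ : Closeds X.scheme) 0 := fun z _ => pdim_le X z
  obtain ⟨B, hB, hgood⟩ := exists_good hC
  have hne : ∀ Y, ContainsFj X 0 Y → Nonempty (Pieces X ⊤ 0 Y) := fun Y hY => by
    obtain ⟨x, hx⟩ := exists_pd_top (finDim X)
    change pdim X.scheme x = dim X.scheme at hx
    exact ⟨⟨x, trivial, hY x (by unfold codim; omega), by omega⟩⟩
  obtain ⟨Y₀, hY₀, b, rfl⟩ := exists_rep_F T M i n β
  let Y : X.scheme.Opens := Y₀ ⊓ B.compl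
  have hY : ContainsFj X 0 Y := containsFj_diff X hY₀ B hB
  have hg : Good X ⊤ 0 Y := hgood _ fun y hy => hy.2
  rw [← clsF_res T M i n hY₀ hY inf_le_left b]
  let b₁ := (resO T (inf_le_left : Y ≤ Y₀) (dim_of_containsFj X hY₀) (dim_of_containsFj X hY) M i n).hom b
  have hz : ∀ s : Pieces X ⊤ 0 Y, ∃ (W' : ptIdx X s.1) (h' : W'.1 ≤ (wIdx s).1),
      (T.pull ((X.ptSub s.1).resLE h' (W'.2.2.trans (wIdx s).2.2.symm)) M i n).hom
        ((T.pull (topPiece hY hg s) M i n).hom b₁) = 0 := fun s => by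
    have hz : IsZero (T.ptGp X s.1 M i n) := h s.1 ((codim_eq_iff X s.1 0).2 s.2.2.2)
    haveI := ModuleCat.subsingleton_of_isZero hz
    exact clsP_eq_zero T M i n (W := wIdx s) (a := (T.pull (topPiece hY hg s) M i n).hom b₁)
      (Subsingleton.elim (α := T.ptGp X s.1 M i n) _ _)
  choose W hW hW0 using hz
  obtain ⟨Y₂, hle, hY₂, hW₂⟩ := exists_shrink' hC hY W
  have hg₂ : Good X ⊤ 0 Y₂ := good_mono hle hg
  haveI := finite_pieces hC Y₂
  haveI : Fintype (Pieces X ⊤ 0 Y₂) := Fintype.ofFinite _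
  haveI := hne Y₂ hY₂
  rw [← clsF_res T M i n hY hY₂ hle]
  let b₂ := (resO T hle (dim_of_containsFj X hY) (dim_of_containsFj X hY₂) M i n).hom b₁
  have hpull : ∀ t : Pieces X ⊤ 0 Y₂, (T.pull (topPiece hY₂ hg₂ t) M i n).hom b₂ = 0 := fun t => by
    let l : (X.ptSub t.1).res (W (upPiece hle t)).1 ⟶ (X.ptSub t.1).res (wOpen (upPiece hle t)) :=
      (X.ptSub t.1).resLE (hW (upPiece hle t)) ((W (upPiece hle t)).2.2.trans (wIdx (upPiece hle t)).2.2.symm)
    let k : (X.ptSub t.1).res (wOpen t) ⟶ (X.ptSub t.1).res (W (upPiece hle t)).1 :=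
      (X.ptSub t.1).resLE (hW₂ t) ((dim_wOpen t).trans ((dim_ptSub X t.1).symm.trans (W (upPiece hle t)).2.2.symm))
    have hsq : topPiece hY₂ hg₂ t ≫ X.resLE hle ((dim_of_containsFj X hY₂).trans (dim_of_containsFj X hY).symm) =
        k ≫ l ≫ topPiece hY hg (upPiece hle t) := by
      refine Hom.ext ?_
      show (X.ptSubι t.1 ∣_ Y₂) ≫ X.scheme.homOfLE hle =
        (X.ptSub t.1).scheme.homOfLE (hW₂ t) ≫ (X.ptSub t.1).scheme.homOfLE (hW (upPiece hle t)) ≫
          (X.ptSubι t.1 ∣_ Y)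
      rw [← cancel_mono Y.ι]
      simp only [Category.assoc, morphismRestrict_ι, Scheme.homOfLE_ι, Scheme.homOfLE_ι_assoc]
    show (T.pull _ M i n).hom ((T.pull _ M i n).hom b₁) = 0
    rw [← pull_comp, hsq, pull_comp, pull_comp]
    exact (congrArg _ (hW0 (upPiece hle t))).trans (map_zero _)
  have hsum := (sum_pieces T _ (fun s : Pieces X ⊤ 0 Y₂ => topPiece hY₂ hg₂ s)
      (fun s t hst => Set.disjoint_left.2 fun z ⟨w, hw⟩ ⟨w', hw'⟩ => by
        obtain ⟨s₀, -, hu⟩ := hg₂ (Y₂.ι z) trivial z.2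
        have hmem : ∀ (r : Pieces X ⊤ 0 Y₂) v, (topPiece hY₂ hg₂ r).hom v = z →
            Y₂.ι z ∈ closure ({r.1} : Set X.scheme) := fun r v e => by
          rw [← e]
          show Y₂.ι (fPiece r v) ∈ _
          rw [← Scheme.Hom.comp_apply, morphismRestrict_ι, ← range_ptSubι]; exact ⟨_, rfl⟩
        exact hst ((hu s (hmem s w hw)).trans (hu t (hmem t w' hw')).symm))
      (fun z => by
        obtain ⟨s₀, hs₀, -⟩ := hg₂ (Y₂.ι z) trivial z.2
        rw [← range_ptSubι] at hs₀
        obtain ⟨w, hw⟩ := hs₀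
        refine ⟨s₀, ⟨w, show X.ptSubι _ w ∈ Y₂ by rw [hw]; exact z.2⟩, Y₂.ι.isOpenEmbedding.injective ?_⟩
        show Y₂.ι (fPiece s₀ _) = _
        rw [← Scheme.Hom.comp_apply, morphismRestrict_ι]; exact hw)
      (fun s => (fPiece s).isClosedEmbedding.isClosed_range) M i n).1 b₂
  refine (congrArg (clsF T M i n hY₂) (show b₂ = 0 from ?_)).trans (map_zero _)
  rw [← hsum]
  exact Finset.sum_eq_zero fun s _ => (congrArg _ (hpull s)).trans (map_zero _)

/-- vanishing in high degrees of the groups of the loci -/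
theorem fjGp_isZero [IsReduced X.scheme] (M : A.Cat) (c : ℕ)
    (hc : ∀ (y : X.scheme) (i n : ℤ), (pdim X.scheme y : ℤ) + c < i → IsZero (T.ptGp X y M i n)) (j : ℕ) :
    ∀ i n : ℤ, (dim X.scheme : ℤ) + j + c < i → IsZero (T.fjGp X j M i n) := by
  induction j with
  | zero =>
    intro i n hi
    exact fjGp_zero_isZero T M i n fun x hx => hc x i n (by have := (codim_eq_iff X x 0).1 hx; omega)
  | succ j ih =>
    intro i n hi
    haveI : Subsingleton (T.fjGp X j M i n) := ModuleCat.subsingleton_of_isZero (ih i n (by omega))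
    have hinj := fjRes_injective (T := T) (X := X) (j := j) M (i := i) (n := n)
      (i' := i - 2 * ((j + 1 : ℕ) : ℤ)) (n' := n - ((j + 1 : ℕ) : ℤ)) (by ring) (by ring)
      fun x hx => hc x _ _ (by have := (codim_eq_iff X x (j + 1)).1 hx; omega)
    haveI := hinj.subsingleton
    exact ModuleCat.isZero_of_subsingleton _

/-- the groups of a reduced object vanish in negative degree -/
theorem gp_neg_zero (T' : TheoryOn V R A) (Z : Obj V) [IsReduced Z.scheme] (M : A.Cat) (i n : ℤ) (hi : i < 0)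
    (a : T'.gp Z M i n) : a = 0 := by
  refine (toFj_bijective (j := 0) T'.toPreTheory M i n fun c x hc _ =>
    ⟨T'.pt_vanish Z x M _ _ (by omega), T'.pt_vanish Z x M _ _ (by omega)⟩).1 ?_
  rw [map_zero]
  exact eq_zero_of_isZero (fjGp_zero_isZero T'.toPreTheory M i n fun x _ => T'.pt_vanish Z x M i n hi) _

/-- restriction to a big open is bijective in degrees below three -/
theorem pull_bijective_big (T' : TheoryOn V R A) {U X : Obj V} (f : U ⟶ X)
    (hbig : ∀ x : X.scheme, x ∉ Set.range f.hom → 2 ≤ codim X.scheme x) (M : A.Cat) (i n : ℤ) (hi : i ≤ 2) :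
    Function.Bijective (T'.pull f M i n).hom := by
  let C : Closeds X.scheme := ⟨(Set.range f.hom)ᶜ, f.hom.isOpenEmbedding.isOpen_range.isClosed_compl⟩
  let D : Decomp X :=
    { Z := subObj X C, U := U, i := subι X C, closedImm := inferInstance, j := f
      range_eq := by rw [range_subι]; exact (compl_compl _).symm }
  haveI : IsReduced D.Z.scheme := inferInstanceAs (IsReduced (subObj X C).scheme)
  have hz : ∀ (k l : ℤ), k ≤ 3 - 2 * relCodim D.Z.scheme X.scheme → ∀ a : T'.gp D.Z M k l, a = 0 := by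
    intro k l hk a
    rcases isEmpty_or_nonempty D.Z.scheme with hE | hN
    · exact gp_empty M D.Z a
    · refine gp_neg_zero T' D.Z M k l ?_ a
      obtain ⟨z, hz⟩ := exists_pd_top (finDim D.Z)
      change pdim D.Z.scheme z = dim D.Z.scheme at hz
      have h1 : pdim D.Z.scheme z = pdim X.scheme (subι X C z) := pdim_sub X C z
      have hmem : subι X C z ∈ C := by rw [← SetLike.mem_coe, ← range_subι X C]; exact ⟨z, rfl⟩
      have h2 := (le_codim_iff X _ 2).1 (hbig _ hmem)
      unfold relCodim at hk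
      omega
  obtain ⟨i, rfl⟩ : ∃ i₀ : ℤ, i = i₀ + 1 := ⟨i - 1, by ring⟩
  constructor
  · rw [injective_iff_map_eq_zero]
    intro a ha
    obtain ⟨b, rfl⟩ := (T'.exact_push_pull D M i n (i + 1 - 2 * D.codim) (n - D.codim) (by ring) (by ring) a).1 ha
    rw [hz _ _ (by unfold Decomp.codim; omega) b, map_zero]
  · intro b
    exact (T'.exact_pull_res D M (i + 1) n (i + 1 + 1 - 2 * D.codim) (n - D.codim) rfl rfl b).1
      (hz _ _ (by unfold Decomp.codim; omega) _)

end Groth.Agent.BM97
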