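import Groth.Agent.BM97.Norm

/-! The residue of a push-forward is the push-forward of the residues. -/

set_option autoImplicit false
universe u

noncomputable section

open AlgebraicGeometry CategoryTheory Limits TopologicalSpace WeilCoh BMCoh Opposite DirectSum Topology

namespace Groth.Agent.BM97

variable {V : ObjectProperty Scheme.{u}} [IsConstructible V] {R : Type u} [CommRing R] {A : Coefs R}
  {T : PreTheory V R A}

open Classical in
/-- residues of a class defined off a good closed set -/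
theorem resTot_eq_sum {X : Obj V} {C : Closeds X.scheme} {j : ℕ} (M : A.Cat) {i n i' n' : ℤ} (Q : T.ResData X j)
    (hi : i' = i + 1 - 2 * ((j : ℤ) + 1)) (hn : n' = n - ((j : ℤ) + 1))
    (hi₂ : i' = i + 1 - 2 * (((j + 1 : ℕ)) : ℤ)) (hn₂ : n' = n - (((j + 1 : ℕ)) : ℤ))
    (hC : Bounded X C (j + 1)) {Y : X.scheme.Opens} (hY : ContainsFj X (j + 1) Y) (hg : Good X C (j + 1) Y)
    [Fintype (Pieces X C (j + 1) Y)] (hU : ContainsFj X j C.compl) (a : T.gp (X.res C.compl) M i n) :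
    (Q.tot M i n i' n' hi hn).hom (clsF T M i n hU a) = ∑ s : Pieces X C (j + 1) Y,
      DirectSum.lof R (X.cdPt (j + 1)) (fun y => T.ptGp X y.1 M i' n') (toCd s)
        (resPt T M (hC := hC) (Y := fullY hC (fj_mono (Nat.le_succ j) hY)) (hg := hg) hi₂ hn₂ s
          ((resO T inf_le_right (dim_of_containsFj X hU)
            (dim_of_containsFj X (fj_compl hC (fj_mono (Nat.le_succ j) hY))) M i n).hom a)) := by
  classical
  refine DFinsupp.ext fun y => ?_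
  rw [PreTheory.ResData.tot_apply, DFinsupp.finset_sum_apply]
  by_cases hy : y.1 ∈ C
  · obtain ⟨s, rfl⟩ : ∃ s : Pieces X C (j + 1) Y, toCd s = y :=
      ⟨⟨y.1, hy, hY y.1 y.2.le, (codim_eq_iff X y.1 (j + 1)).1 y.2⟩, rfl⟩
    rw [Finset.sum_eq_single s (fun t _ hts => DFinsupp.single_eq_of_ne fun e =>
        hts (Subtype.ext (congrArg (fun y : X.cdPt (j + 1) => y.1) e).symm))
      (fun h => absurd (Finset.mem_univ s) h)]
    refine Eq.trans ?_ (DirectSum.lof_apply (R := R) (ι := X.cdPt (j + 1))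
      (M := fun y => T.ptGp X y.1 M i' n') (toCd s) _).symm
    rw [← clsF_res T M i n hU (fj_compl hC (fj_mono (Nat.le_succ j) hY)) inf_le_right a]
    exact resData_piece M Q hi hn hi₂ hn₂ hC (fj_mono (Nat.le_succ j) hY) hg s _
  · rw [resData_zero M Q hi hn hU y hy a]
    refine (Finset.sum_eq_zero fun s _ => DFinsupp.single_eq_of_ne fun e => hy ?_).symm
    rw [show y.1 = s.1 from congrArg Subtype.val e]
    exact s.2.1

theorem range_iY {X : Obj V} (C : Closeds X.scheme) (Y : X.scheme.Opens) :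
    Set.range (iY X C Y) = Y.ι ⁻¹' (C : Set X.scheme) := by
  ext z
  show z ∈ Set.range (subι X C ∣_ Y) ↔ Y.ι z ∈ (C : Set X.scheme)
  rw [← range_subι X C]
  constructor
  · rintro ⟨w, rfl⟩
    exact ⟨(zOpen X C Y).ι w, by rw [← Scheme.Hom.comp_apply, ← morphismRestrict_ι]; rfl⟩
  · rintro ⟨w, hw⟩
    refine ⟨⟨w, show subι X C w ∈ Y by rw [hw]; exact z.2⟩, Y.ι.isOpenEmbedding.injective ?_⟩
    rw [← Scheme.Hom.comp_apply, morphismRestrict_ι]; exact hw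

theorem exists_lift_range {S Z Z' : Scheme.{u}} [IsReduced Z] [IsReduced Z'] (i : Z ⟶ S) [IsClosedImmersion i]
    (g : Z' ⟶ S) (h : Set.range g ⊆ Set.range i) : ∃ l : Z' ⟶ Z, l ≫ i = g := by
  have hle : i.ker ≤ g.ker := by
    rw [ker_eq_vanishingIdeal', ker_eq_vanishingIdeal']
    exact Scheme.IdealSheafData.vanishingIdeal_antimono (closure_mono h)
  exact ⟨IsClosedImmersion.lift i g hle, IsClosedImmersion.lift_fac _ _ hle⟩

variable {X Y : Obj V}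

theorem push_trans {X₁ X₂ X₃ : Obj V} (f : X₁.scheme ⟶ X₂.scheme) (g : X₂.scheme ⟶ X₃.scheme) (h : X₁.scheme ⟶ X₃.scheme)
    [IsProper f] [IsProper g] [IsProper h] (e : f ≫ g = h) (M : A.Cat) {i n i' n' i'' n'' : ℤ}
    (hi : i' = i + 2 * relCodim X₁.scheme X₂.scheme) (hn : n' = n + relCodim X₁.scheme X₂.scheme)
    (hi' : i'' = i' + 2 * relCodim X₂.scheme X₃.scheme) (hn' : n'' = n' + relCodim X₂.scheme X₃.scheme)
    (hi'' : i'' = i + 2 * relCodim X₁.scheme X₃.scheme) (hn'' : n'' = n + relCodim X₁.scheme X₃.scheme)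
    (a : T.gp X₁ M i n) :
    (T.push g M i' n' i'' n'' hi' hn').hom ((T.push f M i n i' n' hi hn).hom a) =
      (T.push h M i n i'' n'' hi'' hn'').hom a := by
  subst e
  exact congrArg (fun m : T.gp X₁ M i n ⟶ T.gp X₃ M i'' n'' => m.hom a)
    (T.push_comp f g M i n i' n' i'' n'' hi hn hi' hn' hi'' hn'')

/-- push-forward between pieces -/
theorem exists_pieceMap {φ : Y.scheme ⟶ X.scheme} [IsProper φ] {C : Closeds X.scheme} {C' : Closeds Y.scheme}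
    {c c' : ℕ} {U : X.scheme.Opens} {U' : Y.scheme.Opens} (h : U' = φ ⁻¹ᵁ U) (s : Pieces Y C' c' U')
    (u : Pieces X C c U) (F : T.PtPush φ s.1 u.1) :
    ∃ (f : ((Y.ptSub s.1).res (wOpen s)).scheme ⟶ ((X.ptSub u.1).res (wOpen u)).scheme) (_ : IsProper f),
      f ≫ fPiece u ≫ U.ι = fPiece s ≫ U'.ι ≫ φ ∧
      ∃ hf : relCodim ((Y.ptSub s.1).res (wOpen s)).scheme ((X.ptSub u.1).res (wOpen u)).scheme = 0,
        ∀ (M : A.Cat) (i n : ℤ) (a : T.gp ((Y.ptSub s.1).res (wOpen s)) M i n),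
          (F.cpt M i n).hom (clsP T M i n (wIdx s) a) =
            clsP T M i n (wIdx u) ((T.push f M i n i n (by rw [hf]; ring) (by rw [hf]; ring)).hom a) := by
  subst h
  obtain ⟨ψ, hp, hψ⟩ := exists_ptMap φ s.1 u.1 F.maps_pt
  have hle : wOpen s ≤ ψ ⁻¹ᵁ wOpen u := fun w hw => by
    show X.ptSubι u.1 (ψ w) ∈ U
    rw [← Scheme.Hom.comp_apply, hψ]; exact hw
  let f : ((Y.ptSub s.1).res (wOpen s)).scheme ⟶ ((X.ptSub u.1).res (wOpen u)).scheme :=
    ψ.resLE (wOpen u) (wOpen s) hle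
  have e : f ≫ fPiece u = fPiece s ≫ (φ ∣_ U) := by
    show ψ.resLE (wOpen u) (wOpen s) hle ≫ (X.ptSubι u.1 ∣_ U) = (Y.ptSubι s.1 ∣_ φ ⁻¹ᵁ U) ≫ (φ ∣_ U)
    rw [← cancel_mono U.ι]
    simp only [Category.assoc, morphismRestrict_ι]
    rw [Scheme.Hom.resLE_comp_ι_assoc, morphismRestrict_ι_assoc, hψ]
  haveI : IsProper (f ≫ fPiece u) := by rw [e]; infer_instance
  haveI : IsProper f := IsProper.of_comp f (fPiece u)
  have hrel : relCodim ((Y.ptSub s.1).res (wOpen s)).scheme ((X.ptSub u.1).res (wOpen u)).scheme = 0 :=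
    relCodim_ptIdx F.codim_eq (wIdx s) (wIdx u)
  refine ⟨f, inferInstance, by rw [reassoc_of% e, morphismRestrict_ι], hrel, fun M i n a => ?_⟩
  have e' : f ≫ (wIdx u).1.ι ≫ X.ptSubι u.1 = (wIdx s).1.ι ≫ Y.ptSubι s.1 ≫ φ := by
    show ψ.resLE (wOpen u) (wOpen s) hle ≫ (wOpen u).ι ≫ X.ptSubι u.1 = (wOpen s).ι ≫ Y.ptSubι s.1 ≫ φ
    rw [Scheme.Hom.resLE_comp_ι_assoc, hψ]
  exact congrArg (fun m : T.gp ((Y.ptSub s.1).res (wOpen s)) M i n ⟶ T.ptGp X u.1 M i n => m.hom a)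
    (F.cpt_spec M i n (wIdx s) (wIdx u) f e' (by rw [hrel]; ring) (by rw [hrel]; ring))

section core

variable (φ : Y.scheme ⟶ X.scheme) [IsProper φ] (C : Closeds X.scheme)

/-- the preimage of a closed set -/
abbrev preC : Closeds Y.scheme := ⟨φ ⁻¹' (C : Set X.scheme), C.isClosed.preimage φ.continuous⟩

theorem bounded_preC [IrreducibleSpace Y.scheme] (hη : φ (genericPoint Y.scheme) ∉ C) :
    Bounded Y (preC φ C) 1 := fun z hz => by
  have hne : z ≠ genericPoint Y.scheme := fun e => hη (e ▸ hz)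
  have h1 : pdim Y.scheme z < pdim Y.scheme (genericPoint Y.scheme) :=
    pdim_lt Y (by rw [(genericPoint_spec Y.scheme).def]; trivial) hne
  have h2 := pdim_le Y (genericPoint Y.scheme)
  omega

variable {q : ℕ}

/-- small bad sets: a common good open -/
theorem exists_common_good [IrreducibleSpace Y.scheme] (hdim : dim Y.scheme + q = dim X.scheme)
    (hpη : pdim X.scheme (φ (genericPoint Y.scheme)) + q = dim X.scheme)
    (hC : Bounded X C (q + 1)) (hη : φ (genericPoint Y.scheme) ∉ C) :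
    ∃ Y₀ : X.scheme.Opens, ContainsFj X (q + 1) Y₀ ∧ Good X C (q + 1) Y₀ ∧
      ContainsFj Y 0 (φ ⁻¹ᵁ Y₀) ∧ Good Y (preC φ C) 1 (φ ⁻¹ᵁ Y₀) := by
  obtain ⟨B, hB, hgB⟩ := exists_good hC
  obtain ⟨B', hB', hgB'⟩ := exists_good (bounded_preC φ C hη)
  let D : Closeds X.scheme := B ⊔ ⟨φ '' (B' : Set Y.scheme), φ.isClosedMap _ B'.isClosed⟩
  have hD : ∀ z ∈ D, pdim X.scheme z + (q + 1 + 1) ≤ dim X.scheme := by
    rintro z (hz | ⟨w, hw, rfl⟩)
    · exact hB z hz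
    · have h1 : pdim X.scheme (φ w) ≤ pdim Y.scheme w :=
        pd_image_le (finDim Y) (finDim X) φ.isClosedMap φ.continuous _
      have h2 := hB' w hw
      omega
  refine ⟨⊤ ⊓ D.compl, containsFj_diff X (U := ⊤) (containsFj_top X _) D hD,
    hgB _ fun z hz hzB => hz.2 (Or.inl hzB), ?_, hgB' _ fun w hw hwB => hw.2 (Or.inr ⟨w, hwB, rfl⟩)⟩
  intro z hz
  refine ⟨trivial, fun hzD => ?_⟩
  have h1 := (codim_eq_iff Y z 0).1 (Nat.le_zero.1 hz)
  have h2 := hD _ hzD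
  have hne : z = genericPoint Y.scheme := by
    by_contra hne
    have h3 : pdim Y.scheme z < pdim Y.scheme (genericPoint Y.scheme) :=
      pdim_lt Y (by rw [(genericPoint_spec Y.scheme).def]; trivial) hne
    have h4 := pdim_le Y (genericPoint Y.scheme)
    omega
  subst hne
  omega

theorem range_dec_i {X : Obj V} {C : Closeds X.scheme} (Y₀ : FullOpens X C) :
    Set.range (dec X C Y₀).i = Y₀.1.ι ⁻¹' (C : Set X.scheme) := range_iY C Y₀.1

/-- the inclusion of a piece into the closed part commutes with the maps -/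
theorem gPiece_natural {C : Closeds X.scheme} {C' : Closeds Y.scheme} {φ : Y.scheme ⟶ X.scheme} {c c' : ℕ}
    {U : X.scheme.Opens} {U' : Y.scheme.Opens} (hC : Bounded X C c) (hC' : Bounded Y C' c')
    (hg : Good X C c U) (hg' : Good Y C' c' U') (s : Pieces Y C' c' U') (u : Pieces X C c U)
    (f : ((Y.ptSub s.1).res (wOpen s)).scheme ⟶ ((X.ptSub u.1).res (wOpen u)).scheme)
    (hf : f ≫ fPiece u ≫ U.ι = fPiece s ≫ U'.ι ≫ φ)
    (F : ((subObj Y C').res (zOpen Y C' U')).scheme ⟶ ((subObj X C).res (zOpen X C U)).scheme)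
    (hF : F ≫ iY X C U ≫ U.ι = iY Y C' U' ≫ U'.ι ≫ φ) :
    (gPiece s hC' hg').hom ≫ F = f ≫ (gPiece u hC hg).hom := by
  haveI : IsClosedImmersion (iY X C U) :=
    IsZariskiLocalAtTarget.restrict (inferInstance : IsClosedImmersion (subι X C)) U
  rw [← cancel_mono (iY X C U ≫ U.ι)]
  show (gHom s ≫ F) ≫ _ = (f ≫ gHom u) ≫ _
  simp only [Category.assoc]
  rw [hF, reassoc_of% gHom_iY s, reassoc_of% gHom_iY u]
  exact hf.symm

variable (M : A.Cat) {i n i₁ n₁ i₂ n₂ : ℤ}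

open Classical in
/-- the residue of a push-forward is the push-forward of the residues -/
theorem resTot_push
    (hred : ∀ (S : Obj V) (D D'' : Decomp S) (gU : D''.U ⟶ D.U)
      (k : D''.Z.scheme ⟶ D.Z.scheme) [IsClosedImmersion k] [AlgebraicGeometry.Surjective k],
      gU ≫ D.j = D''.j → k ≫ D.i = D''.i →
      ∀ (M : A.Cat) (i n i' n' : ℤ) (hi : i' = i + 1 - 2 * D.codim) (hn : n' = n - D.codim)
        (hi'' : i' = i + 1 - 2 * D''.codim) (hn'' : n' = n - D''.codim)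
        (hk : i' = i' + 2 * relCodim D''.Z.scheme D.Z.scheme)
        (hk' : n' = n' + relCodim D''.Z.scheme D.Z.scheme),
      T.pull gU M i n ≫ T.res D'' M i n i' n' hi'' hn'' ≫ T.push k M i' n' i' n' hk hk' =
        T.res D M i n i' n' hi hn)
    [IrreducibleSpace Y.scheme]
    (hdim : dim Y.scheme + q = dim X.scheme)
    (hpη : pdim X.scheme (φ (genericPoint Y.scheme)) + q = dim X.scheme)
    (hC : Bounded X C (q + 1)) (hη : φ (genericPoint Y.scheme) ∉ C)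
    (hU : ContainsFj X q C.compl) (hU' : ContainsFj Y 0 (φ ⁻¹ᵁ C.compl))
    (Q : T.ResData X q) (Q' : T.ResData Y 0) (t : Y.cdPt 1 → X.cdPt (q + 1))
    (F : ∀ y : Y.cdPt 1, T.PtPush φ y.1 (t y).1)
    (h1 : i₁ = i + 2 * (q : ℤ)) (h1' : n₁ = n + (q : ℤ))
    (h2 : i₂ = i₁ + 1 - 2 * ((q : ℤ) + 1)) (h2' : n₂ = n₁ - ((q : ℤ) + 1))
    (h4 : i₂ = i + 1 - 2 * (((0 : ℕ) : ℤ) + 1)) (h4' : n₂ = n - (((0 : ℕ) : ℤ) + 1))
    (hrel : relCodim (Y.res (φ ⁻¹ᵁ C.compl)).scheme (X.res C.compl).scheme = (q : ℤ))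
    (b : T.gp (Y.res (φ ⁻¹ᵁ C.compl)) M i n) :
    (Q.tot M i₁ n₁ i₂ n₂ h2 h2').hom (clsF T M i₁ n₁ hU
        ((T.push (X := Y.res (φ ⁻¹ᵁ C.compl)) (Y := X.res C.compl) (φ ∣_ C.compl) M i n i₁ n₁
          (by rw [hrel]; exact h1) (by rw [hrel]; exact h1')).hom b)) =
      (PreTheory.PtPush.famTot t F M i₂ n₂).hom
        ((Q'.tot M i n i₂ n₂ h4 h4').hom (clsF T M i n hU' b)) := by
  obtain ⟨Y₀, hY₀, hg, hY₁', hg'⟩ := exists_common_good φ C hdim hpη hC hη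
  have hC' : Bounded Y (preC φ C) 1 := bounded_preC φ C hη
  have hY₁ : ContainsFj Y (0 + 1) (φ ⁻¹ᵁ Y₀) := fun y hy => by
    by_cases h0 : codim Y.scheme y = 0
    · exact hY₁' y (le_of_eq h0)
    · have h1 : codim Y.scheme y = 1 := by omega
      show φ y ∈ Y₀
      rw [(F ⟨y, h1⟩).maps_pt]
      exact hY₀ _ (t ⟨y, h1⟩).2.le
  haveI := finite_pieces hC Y₀
  haveI := Fintype.ofFinite (Pieces X C (q + 1) Y₀)
  haveI := finite_pieces hC' (φ ⁻¹ᵁ Y₀)
  haveI : Fintype (Pieces Y (preC φ C) (0 + 1) (φ ⁻¹ᵁ Y₀)) := Fintype.ofFinite _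
  have hi2 : i₂ = i₁ + 1 - 2 * ((q + 1 : ℕ) : ℤ) := by push_cast; exact h2
  have hn2 : n₂ = n₁ - ((q + 1 : ℕ) : ℤ) := by push_cast; exact h2'
  have hi4 : i₂ = i + 1 - 2 * ((0 + 1 : ℕ) : ℤ) := by push_cast; exact h4
  have hn4 : n₂ = n - ((0 + 1 : ℕ) : ℤ) := by push_cast; exact h4'
  rw [resTot_eq_sum M Q h2 h2' hi2 hn2 hC hY₀ hg hU]
  rw [show (Q'.tot M i n i₂ n₂ h4 h4').hom (clsF T M i n hU' b) = _ from
    resTot_eq_sum (C := preC φ C) M Q' h4 h4' hi4 hn4 hC' hY₁ hg' hU' b]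
  rw [map_sum]
  -- the two patches
  let FX : FullOpens X C := fullY hC (fj_mono (Nat.le_succ q) hY₀)
  let FY : FullOpens Y (preC φ C) := fullY hC' (fj_mono (Nat.le_succ 0) hY₁)
  let Y₁ : Y.scheme.Opens := φ ⁻¹ᵁ Y₀
  haveI : IsClosedImmersion (dec X C FX).i := (dec X C FX).closedImm
  haveI : IsClosedImmersion (dec Y (preC φ C) FY).i := (dec Y (preC φ C) FY).closedImm
  let Zp : Obj V := ⟨pullback (φ ∣_ Y₀) (dec X C FX).i,
    IsConstructible.of_isClosedImmersion (pullback.fst (φ ∣_ Y₀) (dec X C FX).i)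
      (h := (inferInstance : IsClosedImmersion (pullback.fst (φ ∣_ Y₀) (dec X C FX).i))) (Y.res Y₁).mem⟩
  have hrange : Set.range (pullback.fst (φ ∣_ Y₀) (dec X C FX).i) = Set.range (dec Y (preC φ C) FY).i := by
    rw [Scheme.Pullback.range_fst, range_dec_i, range_dec_i]
    ext z
    show Y₀.ι ((φ ∣_ Y₀) z) ∈ C ↔ φ (Y₁.ι z) ∈ C
    rw [← Scheme.Hom.comp_apply, morphismRestrict_ι, Scheme.Hom.comp_apply]
  let D' : Decomp (Y.res Y₁) :=
    { Z := Zp, U := (dec Y (preC φ C) FY).U, i := pullback.fst (φ ∣_ Y₀) (dec X C FX).i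
      closedImm := inferInstance, j := (dec Y (preC φ C) FY).j
      range_eq := by rw [hrange]; exact (dec Y (preC φ C) FY).range_eq }
  haveI : IsReduced (dec Y (preC φ C) FY).Z.scheme :=
    isReduced_of_isOpenImmersion (zOpen Y (preC φ C) Y₁).ι
  haveI : IsReduced (dec X C FX).Z.scheme := isReduced_of_isOpenImmersion (zOpen X C Y₀).ι
  obtain ⟨fZ'', hfZ''⟩ := exists_lift_range (dec X C FX).i ((dec Y (preC φ C) FY).i ≫ (φ ∣_ Y₀)) (by
    rintro _ ⟨w, rfl⟩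
    rw [range_dec_i]
    show Y₀.ι ((φ ∣_ Y₀) ((dec Y (preC φ C) FY).i w)) ∈ C
    rw [← Scheme.Hom.comp_apply, morphismRestrict_ι, Scheme.Hom.comp_apply]
    exact (range_dec_i FY).le ⟨w, rfl⟩)
  let k : (dec Y (preC φ C) FY).Z.scheme ⟶ Zp.scheme :=
    pullback.lift (dec Y (preC φ C) FY).i fZ'' hfZ''.symm
  have hk : k ≫ D'.i = (dec Y (preC φ C) FY).i := pullback.lift_fst _ _ _
  haveI : IsClosedImmersion (k ≫ D'.i) := by rw [hk]; infer_instance
  haveI : IsClosedImmersion k := IsClosedImmersion.of_comp k D'.i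
  haveI : AlgebraicGeometry.Surjective k := ⟨fun z => by
    obtain ⟨w, hw⟩ : D'.i z ∈ Set.range (dec Y (preC φ C) FY).i := hrange.le ⟨z, rfl⟩
    exact ⟨w, D'.i.isClosedEmbedding.injective (by rw [← Scheme.Hom.comp_apply, hk]; exact hw)⟩⟩
  have hdk : dim (dec Y (preC φ C) FY).Z.scheme = dim Zp.scheme :=
    natDim_eq_of_range (k ≫ D'.i).isClosedEmbedding.isEmbedding D'.i.isClosedEmbedding.isEmbedding
      (by rw [hk, ← hrange])
  have hk0 : relCodim (dec Y (preC φ C) FY).Z.scheme Zp.scheme = 0 := by unfold relCodim; omega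
  -- the maps over the opens
  let fU : D'.U.scheme ⟶ (dec X C FX).U.scheme := φ ∣_ (Y₀ ⊓ C.compl)
  haveI : IsProper fU := inferInstanceAs (IsProper (φ ∣_ (Y₀ ⊓ C.compl)))
  let fZ : Zp.scheme ⟶ (dec X C FX).Z.scheme := pullback.snd (φ ∣_ Y₀) (dec X C FX).i
  have hsqU : IsPullback D'.j.hom fU (φ ∣_ Y₀) (dec X C FX).j.hom := by
    refine (IsOpenImmersion.isPullback fU D'.j.hom (dec X C FX).j.hom (φ ∣_ Y₀) ?_ ?_).flip
    · show Y.scheme.homOfLE (show φ ⁻¹ᵁ (Y₀ ⊓ C.compl) ≤ Y₁ from fun _ hz => hz.1) ≫ (φ ∣_ Y₀) =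
        (φ ∣_ (Y₀ ⊓ C.compl)) ≫ X.scheme.homOfLE (inf_le_left : Y₀ ⊓ C.compl ≤ Y₀)
      rw [← cancel_mono Y₀.ι]
      simp only [Category.assoc, morphismRestrict_ι, Scheme.homOfLE_ι, Scheme.homOfLE_ι_assoc, Y₁]
    · show (φ ∣_ Y₀) ⁻¹ᵁ (X.scheme.homOfLE (inf_le_left : Y₀ ⊓ C.compl ≤ Y₀)).opensRange =
        (Y.scheme.homOfLE (show φ ⁻¹ᵁ (Y₀ ⊓ C.compl) ≤ Y₁ from fun _ hz => hz.1)).opensRange
      rw [Scheme.opensRange_homOfLE, Scheme.opensRange_homOfLE, ← Scheme.Hom.comp_preimage, morphismRestrict_ι,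
        Scheme.Hom.comp_preimage]
  have hdY : dim (↑(Y₁ ⊓ (preC φ C).compl) : Scheme.{u}) = dim Y.scheme := FY.2.2
  have hdX : dim (↑(Y₀ ⊓ C.compl) : Scheme.{u}) = dim X.scheme := FX.2.2
  have hdY1 : dim (↑Y₁ : Scheme.{u}) = dim Y.scheme := FY.2.1
  have hdX1 : dim (↑Y₀ : Scheme.{u}) = dim X.scheme := FX.2.1
  have hrU : relCodim D'.U.scheme (dec X C FX).U.scheme = (q : ℤ) := by
    show ((dim (↑(Y₀ ⊓ C.compl) : Scheme.{u}) : ℤ) - (dim (↑(Y₁ ⊓ (preC φ C).compl) : Scheme.{u}) : ℤ)) = (q : ℤ)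
    omega
  let b₁ : T.gp D'.U M i n := (resO T (U := φ ⁻¹ᵁ C.compl) (U' := Y₁ ⊓ (preC φ C).compl) inf_le_right
    (dim_of_containsFj Y hU') hdY M i n).hom b
  have hpushb : (resO T (inf_le_right : Y₀ ⊓ C.compl ≤ C.compl) (dim_of_containsFj X hU) hdX M i₁ n₁).hom
      ((T.push (X := Y.res (φ ⁻¹ᵁ C.compl)) (Y := X.res C.compl) (φ ∣_ C.compl) M i n i₁ n₁
          (by rw [hrel]; exact h1) (by rw [hrel]; exact h1')).hom b) =
      (T.push fU M i n i₁ n₁ (by rw [hrU]; exact h1) (by rw [hrU]; exact h1')).hom b₁ := by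
    let g : X.res (Y₀ ⊓ C.compl) ⟶ X.res C.compl :=
      X.resLE inf_le_right (hdX.trans (dim_of_containsFj X hU).symm)
    let g' : Y.res (Y₁ ⊓ (preC φ C).compl) ⟶ Y.res (φ ⁻¹ᵁ C.compl) :=
      Y.resLE (inf_le_right : Y₁ ⊓ (preC φ C).compl ≤ φ ⁻¹ᵁ C.compl) (hdY.trans (dim_of_containsFj Y hU').symm)
    have hsq : IsPullback g'.hom fU (φ ∣_ C.compl) g.hom := by
      refine (IsOpenImmersion.isPullback fU g'.hom g.hom (φ ∣_ C.compl) ?_ ?_).flip
      · show Y.scheme.homOfLE (show φ ⁻¹ᵁ (Y₀ ⊓ C.compl) ≤ φ ⁻¹ᵁ C.compl from fun _ hz => hz.2) ≫ (φ ∣_ C.compl) =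
          (φ ∣_ (Y₀ ⊓ C.compl)) ≫ X.scheme.homOfLE (inf_le_right : Y₀ ⊓ C.compl ≤ C.compl)
        rw [← cancel_mono (Scheme.Opens.ι (X := X.scheme) C.compl)]
        simp only [Category.assoc, morphismRestrict_ι, Scheme.homOfLE_ι, Scheme.homOfLE_ι_assoc, Y₁]
      · show (φ ∣_ C.compl) ⁻¹ᵁ (X.scheme.homOfLE (inf_le_right : Y₀ ⊓ C.compl ≤ C.compl)).opensRange =
          (Y.scheme.homOfLE (show φ ⁻¹ᵁ (Y₀ ⊓ C.compl) ≤ φ ⁻¹ᵁ C.compl from fun _ hz => hz.2)).opensRange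
        rw [Scheme.opensRange_homOfLE, Scheme.opensRange_homOfLE, ← Scheme.Hom.comp_preimage, morphismRestrict_ι,
          Scheme.Hom.comp_preimage]
    exact congrArg (fun m : T.gp (Y.res (φ ⁻¹ᵁ C.compl)) M i n ⟶ T.gp (X.res (Y₀ ⊓ C.compl)) M i₁ n₁ => m.hom b)
      (T.push_pull (φ ∣_ C.compl) fU g g' hsq M i n i₁ n₁ (by rw [hrel]; exact h1) (by rw [hrel]; exact h1')
        (by rw [hrU]; exact h1) (by rw [hrU]; exact h1'))
  -- residue and push-forward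
  have hid : (⟨(X.res Y₀).scheme, (X.res Y₀).mem⟩ : Obj V) = X.res Y₀ := rfl
  have hcD : D'.codim = (dec Y (preC φ C) FY).codim := by
    show ((dim (↑Y₁ : Scheme.{u}) : ℤ) - (dim Zp.scheme : ℤ)) = _
    rw [← hdk]; rfl
  have hresX : ∀ (hci : i₂ = i₁ + 1 - 2 * (dec X C FX).codim) (hcn : n₂ = n₁ - (dec X C FX).codim)
      (a a' : ℤ) (ha : a = i + 1 - 2 * D'.codim) (ha' : a' = n - D'.codim),
      ∃ (he : i₂ = a + 2 * relCodim Zp.scheme (dec X C FX).Z.scheme)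
        (hk' : n₂ = a' + relCodim Zp.scheme (dec X C FX).Z.scheme),
      (T.res (dec X C FX) M i₁ n₁ i₂ n₂ hci hcn).hom
          ((T.push fU M i n i₁ n₁ (by rw [hrU]; exact h1) (by rw [hrU]; exact h1')).hom b₁) =
        (T.push fZ M a a' i₂ n₂ he hk').hom ((T.res D' M i n a a' ha ha').hom b₁) := by
    intro hci hcn a a' ha ha'
    have he : i₂ = a + 2 * relCodim Zp.scheme (dec X C FX).Z.scheme := by
      simp only [ha, hci, h1, Decomp.codim, relCodim]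
      show _ = i + 1 - 2 * ((dim (↑Y₁ : Scheme.{u}) : ℤ) - (dim Zp.scheme : ℤ)) + _
      omega
    have hk' : n₂ = a' + relCodim Zp.scheme (dec X C FX).Z.scheme := by
      simp only [ha', hcn, h1', Decomp.codim, relCodim]
      show _ = n - ((dim (↑Y₁ : Scheme.{u}) : ℤ) - (dim Zp.scheme : ℤ)) + _
      omega
    refine ⟨he, hk', (congrArg (fun m : T.gp D'.U M i n ⟶ T.gp (dec X C FX).Z M i₂ n₂ => m.hom b₁)
      (T.res_push (dec X C FX) D' (φ ∣_ Y₀) fZ fU (IsPullback.of_hasPullback _ _) hsqU M i n a a'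
        i₁ n₁ i₂ n₂ ha ha' (by rw [hrU]; exact h1) (by rw [hrU]; exact h1') he hk' hci hcn)).symm⟩
  rcases isEmpty_or_nonempty (Pieces Y (preC φ C) (0 + 1) (φ ⁻¹ᵁ Y₀)) with hE | hN
  · rw [Finset.univ_eq_empty (α := Pieces Y (preC φ C) (0 + 1) (φ ⁻¹ᵁ Y₀)), Finset.sum_empty]
    refine Finset.sum_eq_zero fun u _ => ?_
    haveI : Nonempty (Pieces X C (q + 1) Y₀) := ⟨u⟩
    haveI : Nonempty (Pieces X C (q + 1) FX.1) := ⟨u⟩
    obtain ⟨he, hk', hr⟩ := hresX (by rw [codim_dec hC FX]; exact hi2) (by rw [codim_dec hC FX]; exact hn2) _ _ rfl rfl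
    haveI : IsEmpty Zp.scheme := ⟨fun z => by
      have hz : D'.i z ∈ Set.range (dec Y (preC φ C) FY).i := hrange.le ⟨z, rfl⟩
      rw [range_dec_i] at hz
      obtain ⟨s, -⟩ := hg' _ hz (D'.i z).2
      exact isEmptyElim s⟩
    show DirectSum.lof R (X.cdPt (q + 1)) (fun y => T.ptGp X y.1 M i₂ n₂) (toCd u)
      (clsP T M i₂ n₂ (wIdx u) ((T.pull (gPiece u hC hg) M i₂ n₂).hom ((T.res (dec X C FX) M i₁ n₁ i₂ n₂ _ _).hom _))) = 0
    rw [hpushb, hr, gp_empty M Zp ((T.res D' M i n _ _ rfl rfl).hom b₁), map_zero, map_zero]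
    simp [clsP, cls]
  let π : Pieces Y (preC φ C) (0 + 1) Y₁ → Pieces X C (q + 1) Y₀ := fun s =>
    ⟨(t (toCd s)).1, (F (toCd s)).maps_pt ▸ s.2.1, hY₀ _ (t (toCd s)).2.le,
      (codim_eq_iff X _ (q + 1)).1 (t (toCd s)).2⟩
  haveI : Nonempty (Pieces X C (q + 1) FX.1) := hN.map π
  haveI : Nonempty (Pieces Y (preC φ C) (0 + 1) FY.1) := hN
  have hcX : (dec X C FX).codim = ((q + 1 : ℕ) : ℤ) := codim_dec hC FX
  have hcY : (dec Y (preC φ C) FY).codim = ((0 + 1 : ℕ) : ℤ) := codim_dec hC' FY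
  have hdeg' : i₂ = i + 1 - 2 * D'.codim := by rw [hcD, hcY]; exact hi4
  have hdeg'' : n₂ = n - D'.codim := by rw [hcD, hcY]; exact hn4
  obtain ⟨he, hk', hr⟩ := hresX (by rw [hcX]; exact hi2) (by rw [hcX]; exact hn2) i₂ n₂ hdeg' hdeg''
  let r : T.gp (dec Y (preC φ C) FY).Z M i₂ n₂ :=
    (T.res (dec Y (preC φ C) FY) M i n i₂ n₂ (by rw [hcY]; exact hi4) (by rw [hcY]; exact hn4)).hom b₁
  have hfZ0 : relCodim Zp.scheme (dec X C FX).Z.scheme = 0 := by omega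
  let Φ : (dec Y (preC φ C) FY).Z.scheme ⟶ (dec X C FX).Z.scheme := k ≫ fZ
  haveI : IsProper Φ := inferInstanceAs (IsProper (k ≫ fZ))
  have hΦ0 : relCodim (dec Y (preC φ C) FY).Z.scheme (dec X C FX).Z.scheme = 0 := by
    unfold relCodim at hfZ0 hk0 ⊢; omega
  have hmain : (T.res (dec X C FX) M i₁ n₁ i₂ n₂ (by rw [hcX]; exact hi2) (by rw [hcX]; exact hn2)).hom
      ((T.push fU M i n i₁ n₁ (by rw [hrU]; exact h1) (by rw [hrU]; exact h1')).hom b₁) =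
      (T.push Φ M i₂ n₂ i₂ n₂ (by rw [hΦ0]; ring) (by rw [hΦ0]; ring)).hom r := by
    rw [hr]
    have h := congrArg (fun m : T.gp D'.U M i n ⟶ T.gp Zp M i₂ n₂ => m.hom b₁)
      (hred (Y.res Y₁) D' (dec Y (preC φ C) FY) (𝟙 _) k (Category.id_comp _) hk M i n i₂ n₂ hdeg' hdeg''
        (by rw [hcY]; exact hi4) (by rw [hcY]; exact hn4) (by rw [hk0]; ring) (by rw [hk0]; ring))
    rw [← h]
    show (T.push fZ M _ _ i₂ n₂ he hk').hom ((T.push k M _ _ _ _ _ _).hom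
      ((T.res (dec Y (preC φ C) FY) M i n _ _ _ _).hom ((T.pull (𝟙 _) M i n).hom b₁))) = _
    rw [pull_id]
    exact push_trans k fZ Φ rfl M _ _ _ _ _ _ _
  have hFi : Φ ≫ iY X C Y₀ ≫ Y₀.ι = iY Y (preC φ C) Y₁ ≫ Y₁.ι ≫ φ := by
    have e1 : Φ = fZ'' := pullback.lift_snd _ _ _
    rw [e1]
    show fZ'' ≫ (dec X C FX).i ≫ Y₀.ι = _
    rw [reassoc_of% hfZ'', morphismRestrict_ι]
  -- the pieces
  have hsum := (sum_pieces T _ (fun s : Pieces Y (preC φ C) (0 + 1) Y₁ => gPiece s hC' hg')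
    (fun s s' hst => disjoint_pieces s hg' s' hst) (cover_pieces hg') closed_range_gHom M i₂ n₂).1 r
  have hval : ∀ s : Pieces Y (preC φ C) (0 + 1) Y₁, ∃ v : T.gp ((X.ptSub (π s).1).res (wOpen (π s))) M i₂ n₂,
      ((F (toCd s)).cpt M i₂ n₂).hom
          (clsP T M i₂ n₂ (wIdx s) ((T.pull (gPiece s hC' hg') M i₂ n₂).hom r)) =
        clsP T M i₂ n₂ (wIdx (π s)) v ∧
      (T.push Φ M i₂ n₂ i₂ n₂ (by rw [hΦ0]; ring) (by rw [hΦ0]; ring)).hom
          ((pushPiece T (gPiece s hC' hg') (closed_range_gHom s) M i₂ n₂).hom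
            ((T.pull (gPiece s hC' hg') M i₂ n₂).hom r)) =
        (pushPiece T (gPiece (π s) hC hg) (closed_range_gHom (π s)) M i₂ n₂).hom v := by
    intro s
    obtain ⟨f, hfp, hf, hf0, hcls⟩ := exists_pieceMap (φ := φ) (U := Y₀) (U' := Y₁) rfl s (π s) (F (toCd s))
    refine ⟨_, hcls M i₂ n₂ _, ?_⟩
    haveI : IsClosedImmersion (gPiece s hC' hg').hom := closedImm_gHom s
    haveI : IsClosedImmersion (gPiece (π s) hC hg).hom := closedImm_gHom (π s)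
    have enat := gPiece_natural hC hC' hg hg' s (π s) f hf Φ hFi
    have h0 : relCodim ((Y.ptSub s.1).res (wOpen s)).scheme ((subObj X C).res (zOpen X C Y₀)).scheme = 0 := by
      have e1 := relCodim_eq_zero (gPiece s hC' hg')
      unfold relCodim at e1 hΦ0 ⊢
      change (dim (↑(zOpen X C Y₀) : Scheme.{u}) : ℤ) - (dim (↑(zOpen Y (preC φ C) Y₁) : Scheme.{u}) : ℤ) = 0 at hΦ0
      change (dim (↑(zOpen Y (preC φ C) Y₁) : Scheme.{u}) : ℤ) - (dim (↑(wOpen s) : Scheme.{u}) : ℤ) = 0 at e1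
      show (dim (↑(zOpen X C Y₀) : Scheme.{u}) : ℤ) - (dim (↑(wOpen s) : Scheme.{u}) : ℤ) = 0
      omega
    haveI : IsProper ((gPiece s hC' hg').hom ≫ Φ) := inferInstance
    unfold pushPiece
    refine (push_trans (X₁ := (Y.ptSub s.1).res (wOpen s)) (X₂ := (dec Y (preC φ C) FY).Z) (X₃ := (dec X C FX).Z)
      (gPiece s hC' hg').hom Φ ((gPiece s hC' hg').hom ≫ Φ) rfl M _ _ _ _ (by rw [h0]; ring) (by rw [h0]; ring) _).trans ?_
    exact (push_trans (X₁ := (Y.ptSub s.1).res (wOpen s)) (X₂ := (X.ptSub (π s).1).res (wOpen (π s)))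
      (X₃ := (dec X C FX).Z) f (gPiece (π s) hC hg).hom ((gPiece s hC' hg').hom ≫ Φ) enat.symm M _ _ _ _
      (by rw [h0]; ring) (by rw [h0]; ring) _).symm
  choose v hv1 hv2 using hval
  have hrhs : ∀ s : Pieces Y (preC φ C) (0 + 1) Y₁,
      (PreTheory.PtPush.famTot t F M i₂ n₂).hom (DirectSum.lof R (Y.cdPt (0 + 1)) (fun y => T.ptGp Y y.1 M i₂ n₂)
        (toCd s) (clsP T M i₂ n₂ (wIdx s) ((T.pull (gPiece s hC' hg') M i₂ n₂).hom r))) =
      DirectSum.lof R (X.cdPt (q + 1)) (fun y => T.ptGp X y.1 M i₂ n₂) (toCd (π s))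
        (clsP T M i₂ n₂ (wIdx (π s)) (v s)) :=
    fun s => (PreTheory.PtPush.famTot_lof t F M i₂ n₂ (toCd s) _).trans (congrArg _ (hv1 s))
  refine Eq.trans ?_ (Finset.sum_congr rfl fun s _ => hrhs s).symm
  have hlhs : ∀ u : Pieces X C (q + 1) Y₀, (T.pull (gPiece u hC hg) M i₂ n₂).hom
      ((T.res (dec X C FX) M i₁ n₁ i₂ n₂ (by rw [hcX]; exact hi2) (by rw [hcX]; exact hn2)).hom
        ((resO T (inf_le_right : Y₀ ⊓ C.compl ≤ C.compl) (dim_of_containsFj X hU) hdX M i₁ n₁).hom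
          ((T.push (X := Y.res (φ ⁻¹ᵁ C.compl)) (Y := X.res C.compl) (φ ∣_ C.compl) M i n i₁ n₁
            (by rw [hrel]; exact h1) (by rw [hrel]; exact h1')).hom b))) =
      ∑ s, (T.pull (gPiece u hC hg) M i₂ n₂).hom
        ((pushPiece T (gPiece (π s) hC hg) (closed_range_gHom (π s)) M i₂ n₂).hom (v s)) := by
    intro u
    rw [hpushb, hmain, ← hsum, map_sum, map_sum]
    exact Finset.sum_congr rfl fun s _ => congrArg _ (hv2 s)
  refine (Finset.sum_congr rfl fun u _ => congrArg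
    (fun z => DirectSum.lof R (X.cdPt (q + 1)) (fun y => T.ptGp X y.1 M i₂ n₂) (toCd u)
      (clsP T M i₂ n₂ (wIdx u) z)) (hlhs u)).trans ?_
  simp only [clsP, cls, map_sum]
  rw [Finset.sum_comm]
  refine Finset.sum_congr rfl fun s _ => ?_
  rw [Finset.sum_eq_single (π s) (fun u _ hu => ?_) (fun h => absurd (Finset.mem_univ _) h), pull_pushPiece]
  have hP := (sum_pieces T _ (fun s : Pieces X C (q + 1) Y₀ => gPiece s hC hg)
    (fun s s' hst => disjoint_pieces s hg s' hst) (cover_pieces hg) closed_range_gHom M i₂ n₂).2 (Pi.single (π s) (v s)) u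
  rw [Finset.sum_eq_single (π s) (fun w _ hw => by rw [Pi.single_eq_of_ne hw, map_zero])
    (fun h => absurd (Finset.mem_univ _) h), Pi.single_eq_same, Pi.single_eq_of_ne hu] at hP
  rw [hP, map_zero, map_zero]

end core

/-- the class of a generic point, pushed forward and then its residues -/
theorem resTot_generic
    (hred : ∀ (S : Obj V) (D D'' : Decomp S) (gU : D''.U ⟶ D.U)
      (k : D''.Z.scheme ⟶ D.Z.scheme) [IsClosedImmersion k] [AlgebraicGeometry.Surjective k],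
      gU ≫ D.j = D''.j → k ≫ D.i = D''.i →
      ∀ (M : A.Cat) (i n i' n' : ℤ) (hi : i' = i + 1 - 2 * D.codim) (hn : n' = n - D.codim)
        (hi'' : i' = i + 1 - 2 * D''.codim) (hn'' : n' = n - D''.codim)
        (hk : i' = i' + 2 * relCodim D''.Z.scheme D.Z.scheme)
        (hk' : n' = n' + relCodim D''.Z.scheme D.Z.scheme),
      T.pull gU M i n ≫ T.res D'' M i n i' n' hi'' hn'' ≫ T.push k M i' n' i' n' hk hk' =
        T.res D M i n i' n' hi hn)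
    {q : ℕ} (w : X.cdPt q) [IrreducibleSpace Y.scheme] (φ : Y.scheme ⟶ X.scheme) [IsProper φ]
    (hη : codim Y.scheme (genericPoint Y.scheme) = 0)
    (P : T.PushData X q) (Q : T.ResData X q) (L : T.PtPush φ (genericPoint Y.scheme) w.1)
    (P' : T.PushData Y 0) (Q' : T.ResData Y 0) (t : Y.cdPt 1 → X.cdPt (q + 1))
    (F : ∀ y : Y.cdPt 1, T.PtPush φ y.1 (t y).1)
    (M : A.Cat) {i n i₁ n₁ i₂ n₂ : ℤ}
    (h1 : i₁ = i + 2 * (q : ℤ)) (h1' : n₁ = n + (q : ℤ))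
    (h2 : i₂ = i₁ + 1 - 2 * ((q : ℤ) + 1)) (h2' : n₂ = n₁ - ((q : ℤ) + 1))
    (h3 : i = i + 2 * ((0 : ℕ) : ℤ)) (h3' : n = n + ((0 : ℕ) : ℤ))
    (h4 : i₂ = i + 1 - 2 * (((0 : ℕ) : ℤ) + 1)) (h4' : n₂ = n - (((0 : ℕ) : ℤ) + 1))
    (a : T.ptGp Y (genericPoint Y.scheme) M i n) :
    (Q.tot M i₁ n₁ i₂ n₂ h2 h2').hom ((P.cpt w M i n i₁ n₁ h1 h1').hom ((L.cpt M i n).hom a)) =
      (PreTheory.PtPush.famTot t F M i₂ n₂).hom
        ((Q'.tot M i n i₂ n₂ h4 h4').hom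
          ((P'.cpt ⟨genericPoint Y.scheme, hη⟩ M i n i n h3 h3').hom a)) := by
  have hpd := (codim_eq_iff Y (genericPoint Y.scheme) 0).1 hη
  have hw := (codim_eq_iff X w.1 q).1 w.2
  have hd := L.codim_eq
  rw [relCodim, sub_eq_zero, dim_ptSub, dim_ptSub] at hd
  have hmap : φ (genericPoint Y.scheme) = w.1 := L.maps_pt
  obtain ⟨W, a₀, rfl⟩ := exists_rep_P T M i n (genericPoint Y.scheme) a
  obtain ⟨ψ, hp, hψ⟩ := exists_ptMap φ (genericPoint Y.scheme) w.1 L.maps_pt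
  obtain ⟨W', W'', eW, hle⟩ := exists_small_preimage L ψ hψ W
  let C : Closeds X.scheme := ⟨X.ptSubι w.1 '' (W'.1 : Set (X.ptSub w.1).scheme)ᶜ,
    (X.ptSubι w.1).isClosedEmbedding.isClosedMap _ W'.1.isOpen.isClosed_compl⟩
  have hCw : w.1 ∉ C := by
    rintro ⟨v, hv, hve⟩
    obtain ⟨v₀, hv₀⟩ := W'.2.1
    refine hv ((specializes_iff_mem_closure.2 ?_).mem_open W'.1.isOpen hv₀)
    rw [(X.ptSubι w.1).isClosedEmbedding.isInducing.closure_eq_preimage_closure_image, Set.image_singleton, hve,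
      ← range_ptSubι]
    exact ⟨v₀, rfl⟩
  have hC : Bounded X C (q + 1) := by
    rintro z ⟨v, hv, rfl⟩
    have hcl : X.ptSubι w.1 v ∈ closure ({w.1} : Set X.scheme) := by rw [← range_ptSubι]; exact ⟨v, rfl⟩
    have h := pdim_lt X hcl fun e => hCw ⟨v, hv, e⟩
    omega
  have hηC : φ (genericPoint Y.scheme) ∉ C := by rw [hmap]; exact hCw
  have hU : ContainsFj X q C.compl := fun y hy hyC => by
    have := (le_codim_iff X y (q + 1)).2 (hC y hyC)
    omega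
  have hU' : ContainsFj Y 0 (φ ⁻¹ᵁ C.compl) := fun z hz hzC => by
    have h1 := (codim_eq_iff Y z 0).1 (Nat.le_zero.1 hz)
    have h2 := bounded_preC φ C hηC z hzC
    omega
  have hrel : relCodim (Y.res (φ ⁻¹ᵁ C.compl)).scheme (X.res C.compl).scheme = (q : ℤ) := by
    have e1 := dim_of_containsFj Y hU'
    have e2 := dim_of_containsFj X hU
    show ((dim (↑C.compl : Scheme.{u}) : ℤ) - (dim (↑(φ ⁻¹ᵁ C.compl) : Scheme.{u}) : ℤ)) = q
    omega
  let s₀ : Pieces Y (cl Y (genericPoint Y.scheme)) 0 (φ ⁻¹ᵁ C.compl) :=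
    ⟨genericPoint Y.scheme, subset_closure rfl, hU' _ (le_of_eq hη), by omega⟩
  let u₀ : Pieces X (cl X w.1) q C.compl := ⟨w.1, subset_closure rfl, hU _ (le_of_eq w.2), hw⟩
  have hsW : wOpen s₀ ≤ W.1 := fun v hv => hle (eW.ge (show ψ v ∈ W'.1 by
    by_contra h
    refine hv ⟨ψ v, h, ?_⟩
    rw [← Scheme.Hom.comp_apply, hψ]; rfl))
  rw [← clsP_res T M i n (W := W) (W' := wIdx s₀) hsW a₀]
  generalize (T.pull _ M i n).hom a₀ = a₁
  obtain ⟨f, hfp, hf, hf0, hcls⟩ :=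
    exists_pieceMap (φ := φ) (U := C.compl) (U' := φ ⁻¹ᵁ C.compl) rfl s₀ u₀ L
  rw [hcls M i n a₁]
  have hX := pushData_open M P h1 h1' hU u₀ ((T.push f M i n i n (by rw [hf0]; ring) (by rw [hf0]; ring)).hom a₁)
  have hY := pushData_open M P' h3 h3' hU' s₀ a₁
  refine (congrArg (Q.tot M i₁ n₁ i₂ n₂ h2 h2').hom hX).trans ?_
  refine Eq.trans ?_ (congrArg (fun z => (PreTheory.PtPush.famTot t F M i₂ n₂).hom
    ((Q'.tot M i n i₂ n₂ h4 h4').hom z)) hY).symm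
  refine Eq.trans ?_ (resTot_push φ C M hred (by omega) (by rw [hmap]; omega) hC hηC hU hU' Q Q' t F h1 h1' h2 h2'
    h4 h4' hrel (pushO M hU' h3 h3' s₀ a₁))
  refine congrArg (fun z => (Q.tot M i₁ n₁ i₂ n₂ h2 h2').hom (clsF T M i₁ n₁ hU z)) ?_
  have e : f ≫ fPiece u₀ = fPiece s₀ ≫ (φ ∣_ C.compl) := by
    rw [← cancel_mono (Scheme.Opens.ι (X := X.scheme) C.compl)]
    rw [Category.assoc, Category.assoc, morphismRestrict_ι φ C.compl]
    exact hf
  have h0 : relCodim ((Y.ptSub s₀.1).res (wOpen s₀)).scheme (X.res C.compl).scheme = (q : ℤ) := by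
    have e1 := relCodim_fPiece u₀ (dim_of_containsFj X hU)
    unfold relCodim at e1 hf0 ⊢
    omega
  haveI : IsProper (fPiece s₀ ≫ (φ ∣_ C.compl)) := inferInstance
  unfold pushO
  exact (push_trans (X₁ := (Y.ptSub s₀.1).res (wOpen s₀)) (X₂ := (X.ptSub u₀.1).res (wOpen u₀))
      (X₃ := X.res C.compl) f (fPiece u₀) (fPiece s₀ ≫ (φ ∣_ C.compl)) e M _ _ _ _
      (by rw [h0]; exact h1) (by rw [h0]; exact h1') _).trans
    (push_trans (X₁ := (Y.ptSub s₀.1).res (wOpen s₀)) (X₂ := Y.res (φ ⁻¹ᵁ C.compl)) (X₃ := X.res C.compl)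
      (fPiece s₀) (φ ∣_ C.compl) (fPiece s₀ ≫ (φ ∣_ C.compl)) rfl M _ _ _ _
      (by rw [h0]; exact h1) (by rw [h0]; exact h1') _).symm

end Groth.Agent.BM97
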