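import Groth.Agent.BM97.Gysin

/-! Patches adapted to the groups of the loci of bounded codimension. -/

set_option autoImplicit false
universe u

noncomputable section

open AlgebraicGeometry CategoryTheory Limits TopologicalSpace WeilCoh BMCoh Opposite

namespace Groth.Agent.BM97

variable {V : ObjectProperty Scheme.{u}} [IsConstructible V] {R : Type u} [CommRing R] {A : Coefs R}
  (T : PreTheory V R A) {X : Obj V} {C : Closeds X.scheme} {c j : ℕ}

/-- an open as an index -/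
abbrev idxF {Y : X.scheme.Opens} (hY : ContainsFj X j Y) : Idx X (ContainsFj X j) :=
  ⟨Y, hY, dim_of_containsFj X hY⟩

/-- a class in H(F_jX) -/
abbrev clsF (M : A.Cat) (i n : ℤ) {Y : X.scheme.Opens} (hY : ContainsFj X j Y) (a : T.gp (X.res Y) M i n) :
    T.fjGp X j M i n := cls T X (ContainsFj X j) M i n (idxF hY) a

theorem clsF_res (M : A.Cat) (i n : ℤ) {Y Y' : X.scheme.Opens} (hY : ContainsFj X j Y) (hY' : ContainsFj X j Y')
    (h : Y' ≤ Y) (a : T.gp (X.res Y) M i n) :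
    clsF T M i n hY' ((resO T h (dim_of_containsFj X hY) (dim_of_containsFj X hY') M i n).hom a) = clsF T M i n hY a :=
  cls_res T X _ M i n (U := idxF hY) (U' := idxF hY') h a

theorem exists_rep_F (M : A.Cat) (i n : ℤ) (x : T.fjGp X j M i n) :
    ∃ (Y : X.scheme.Opens) (hY : ContainsFj X j Y) (a : T.gp (X.res Y) M i n), clsF T M i n hY a = x := by
  obtain ⟨⟨Y, hY, hd⟩, a, ha⟩ := exists_rep T X (ContainsFj X j) M i n x
  exact ⟨Y, hY, a, ha⟩

theorem clsF_eq_zero (M : A.Cat) (i n : ℤ) {Y : X.scheme.Opens} (hY : ContainsFj X j Y) {a : T.gp (X.res Y) M i n}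
    (h : clsF T M i n hY a = 0) :
    ∃ (Y' : X.scheme.Opens) (hY' : ContainsFj X j Y') (h' : Y' ≤ Y),
      (resO T h' (dim_of_containsFj X hY) (dim_of_containsFj X hY') M i n).hom a = 0 := by
  obtain ⟨⟨Y', hY', hd⟩, h', e⟩ := cls_eq_zero T X (ContainsFj X j) M i n h
  exact ⟨Y', hY', h', e⟩

theorem fjRes_clsF {m : ℕ} (hjm : j ≤ m) (M : A.Cat) (i n : ℤ) {Y : X.scheme.Opens} (hY : ContainsFj X m Y)
    (a : T.gp (X.res Y) M i n) :
    ((T.fjRes X hjm i n).app M).hom (clsF T M i n hY a) = clsF T M i n (containsFj_mono X hjm Y hY) a := by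
  have h : ∀ U : X.scheme.Opens, ContainsFj X m U → ContainsFj X j U := fun U hU => containsFj_mono X hjm U hU
  have := ocolimMap_cls T X (ContainsFj X m) M i n (Q := ContainsFj X j) h (idxF hY) a
  exact this

/-- the index predicate of the groups of a point -/
abbrev PtP (X : Obj V) (x : X.scheme) : (X.ptSub x).scheme.Opens → Prop :=
  fun U => (U : Set (X.ptSub x).scheme).Nonempty

/-- a class in the group of a point -/
abbrev clsP (M : A.Cat) (i n : ℤ) {x : X.scheme} (W : ptIdx X x) (a : T.gp ((X.ptSub x).res W.1) M i n) :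
    T.ptGp X x M i n := cls T (X.ptSub x) (PtP X x) M i n W a

theorem clsP_eq_zero (M : A.Cat) (i n : ℤ) {x : X.scheme} {W : ptIdx X x} {a : T.gp ((X.ptSub x).res W.1) M i n}
    (h : clsP T M i n W a = 0) :
    ∃ (W' : ptIdx X x) (h' : W'.1 ≤ W.1),
      (T.pull ((X.ptSub x).resLE h' (W'.2.2.trans W.2.2.symm)) M i n).hom a = 0 :=
  cls_eq_zero T (X.ptSub x) (PtP X x) M i n (U := W) h

theorem clsP_res (M : A.Cat) (i n : ℤ) {x : X.scheme} {W W' : ptIdx X x} (h : W'.1 ≤ W.1)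
    (a : T.gp ((X.ptSub x).res W.1) M i n) :
    clsP T M i n W' ((T.pull ((X.ptSub x).resLE h (W'.2.2.trans W.2.2.symm)) M i n).hom a) = clsP T M i n W a :=
  cls_res T (X.ptSub x) (PtP X x) M i n (U := W) (U' := W') h a

theorem exists_rep_P (M : A.Cat) (i n : ℤ) (x : X.scheme) (v : T.ptGp X x M i n) :
    ∃ (W : ptIdx X x) (a : T.gp ((X.ptSub x).res W.1) M i n), clsP T M i n W a = v :=
  exists_rep T (X.ptSub x) (PtP X x) M i n v

theorem bounded_compl {U : X.scheme.Opens} (hU : ContainsFj X j U) : Bounded X U.compl (j + 1) :=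
  fun _ hy => mem_of_containsFj X hU hy

theorem fj_compl (hC : Bounded X C (j + 1)) {Y : X.scheme.Opens} (hY : ContainsFj X j Y) :
    ContainsFj X j (Y ⊓ C.compl) := containsFj_diff X hY C hC

/-- an open as a patch -/
abbrev fullY (hC : Bounded X C (j + 1)) {Y : X.scheme.Opens} (hY : ContainsFj X j Y) : FullOpens X C :=
  ⟨Y, full_of_fj hY (fj_compl hC hY)⟩

theorem fj_mono {m : ℕ} (h : j ≤ m) {Y : X.scheme.Opens} (hY : ContainsFj X m Y) : ContainsFj X j Y :=
  containsFj_mono X h Y hY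

theorem exists_good_open (hC : Bounded X C (j + 1)) {Y₀ : X.scheme.Opens} (h : ContainsFj X (j + 1) Y₀) :
    ∃ Y : X.scheme.Opens, ContainsFj X (j + 1) Y ∧ Y ≤ Y₀ ∧ Good X C (j + 1) Y := by
  obtain ⟨B, hB, hg⟩ := exists_good hC
  exact ⟨Y₀ ⊓ B.compl, containsFj_diff X h B hB, inf_le_left, hg _ fun y hy => hy.2⟩

/-- shrink so that the pieces lie in given opens of the closures -/
theorem exists_shrink (hC : Bounded X C (j + 1)) {Y : X.scheme.Opens} (hY : ContainsFj X (j + 1) Y)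
    (W : ∀ s : Pieces X C (j + 1) Y, ptIdx X s.1) :
    ∃ (Y' : X.scheme.Opens) (hle : Y' ≤ Y), ContainsFj X (j + 1) Y' ∧
      ∀ s : Pieces X C (j + 1) Y', wOpen s ≤ (W (upPiece hle s)).1 := by
  haveI := finite_pieces hC Y
  let B : Closeds X.scheme := ⟨⋃ s : Pieces X C (j + 1) Y, X.ptSubι s.1 '' ((W s).1 : Set (X.ptSub s.1).scheme)ᶜ,
    isClosed_iUnion_of_finite fun s => (X.ptSubι s.1).isClosedEmbedding.isClosedMap _ (W s).1.isOpen.isClosed_compl⟩
  have hB : ∀ y ∈ B, pdim X.scheme y + (j + 1 + 1) ≤ dim X.scheme := by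
    intro y hy
    obtain ⟨s, w, hw, rfl⟩ := Set.mem_iUnion.1 hy
    have hcl : X.ptSubι s.1 w ∈ closure ({s.1} : Set X.scheme) := by rw [← range_ptSubι]; exact ⟨w, rfl⟩
    have hne : X.ptSubι s.1 w ≠ s.1 := fun e => by
      obtain ⟨v, hv⟩ := (W s).2.1
      refine hw ((specializes_iff_mem_closure.2 ?_).mem_open (W s).1.isOpen hv)
      rw [(X.ptSubι s.1).isClosedEmbedding.isInducing.closure_eq_preimage_closure_image, Set.image_singleton, e,
        ← range_ptSubι]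
      exact ⟨v, rfl⟩
    have h1 : pdim X.scheme (X.ptSubι s.1 w) < pdim X.scheme s.1 := pdim_lt X hcl hne
    have h2 := s.2.2.2
    omega
  refine ⟨Y ⊓ B.compl, inf_le_left, containsFj_diff X hY B hB, fun s w hw => ?_⟩
  by_contra hw'
  exact hw.2 (Set.mem_iUnion.2 ⟨upPiece inf_le_left s, w, hw', rfl⟩)

theorem mem_piece_or {U : X.scheme.Opens} {Y : X.scheme.Opens} (hY : ContainsFj X (j + 1) Y)
    (x : X.cdPt (j + 1)) : x.1 ∈ U ∨ ∃ s : Pieces X U.compl (j + 1) Y, s.1 = x.1 := by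
  by_cases h : x.1 ∈ U
  · exact Or.inl h
  · exact Or.inr ⟨⟨x.1, h, hY x.1 x.2.le, (codim_eq_iff X x.1 (j + 1)).1 x.2⟩, rfl⟩

/-- a piece as a point of given codimension -/
abbrev toCd {Y : X.scheme.Opens} (s : Pieces X C c Y) : X.cdPt c := ⟨s.1, (codim_eq_iff X s.1 c).2 s.2.2.2⟩

theorem bounded_cl (x : X.cdPt c) : Bounded X (cl X x.1) c := fun z hz => by
  have h1 : pdim X.scheme z ≤ pdim X.scheme x.1 := pdim_mono X hz
  have h2 := (codim_eq_iff X x.1 c).1 x.2
  omega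

theorem good_cl (x : X.cdPt c) (Y : X.scheme.Opens) : Good X (cl X x.1) c Y := by
  intro z hz hzY
  refine ⟨⟨x.1, subset_closure rfl, (specializes_iff_mem_closure.2 hz).mem_open Y.isOpen hzY,
    (codim_eq_iff X x.1 c).1 x.2⟩, hz, fun t _ => Subtype.ext ?_⟩
  by_contra hne
  have h1 : pdim X.scheme t.1 < pdim X.scheme x.1 := pdim_lt X t.2.1 hne
  have h2 := t.2.2.2
  have h3 := (codim_eq_iff X x.1 c).1 x.2
  omega

section data

variable {T} (M : A.Cat) {i n i' n' : ℤ}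

/-- residue data on a patch is the residue of the decomposition -/
theorem resData_piece (Q : T.ResData X j) (hi : i' = i + 1 - 2 * ((j : ℤ) + 1)) (hn : n' = n - ((j : ℤ) + 1))
    (hi₂ : i' = i + 1 - 2 * (((j + 1 : ℕ)) : ℤ)) (hn₂ : n' = n - (((j + 1 : ℕ)) : ℤ))
    (hC : Bounded X C (j + 1)) {Y : X.scheme.Opens} (hY : ContainsFj X j Y) (hg : Good X C (j + 1) Y)
    (s : Pieces X C (j + 1) Y) (a : T.gp (X.res (Y ⊓ C.compl)) M i n) :
    (Q.cpt (toCd s) M i n i' n' hi hn).hom (clsF T M i n (fj_compl hC hY) a) =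
      resPt T M (hC := hC) (Y := fullY hC hY) (hg := hg) hi₂ hn₂ s a := by
  haveI : Nonempty (Pieces X C (j + 1) Y) := ⟨s⟩
  let FY : FullOpens X C := fullY hC hY
  have e1 : (gPiece s hC hg).hom ≫ (dec X C FY).i ≫ (X.resι Y FY.2.1).hom = (wIdx s).1.ι ≫ X.ptSubι s.1 := by
    show gHom s ≫ iY X C Y ≫ Y.ι = _
    rw [← Category.assoc, gHom_iY, morphismRestrict_ι]
  have e2 : BMCoh.Hom.hom (𝟙 (X.res (Y ⊓ C.compl))) ≫ (dec X C FY).j.hom ≫ (X.resι Y FY.2.1).hom = (Y ⊓ C.compl).ι := by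
    show 𝟙 _ ≫ X.scheme.homOfLE (inf_le_left : Y ⊓ C.compl ≤ Y) ≫ Y.ι = _
    rw [Category.id_comp, Scheme.homOfLE_ι]
  have key := Q.cpt_spec (toCd s) M i n i' n' hi hn (X.resι Y FY.2.1) (dec X C FY) (wIdx s) (gPiece s hC hg) e1
    (idxF (fj_compl hC hY)) (𝟙 _) e2
    (by rw [codim_dec hC FY]; exact hi₂) (by rw [codim_dec hC FY]; exact hn₂)
  have h1 := congrArg (fun m : T.gp (X.res (Y ⊓ C.compl)) M i n ⟶ T.ptGp X s.1 M i' n' => m.hom a) key
  refine Eq.trans ?_ h1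
  show _ = (Q.cpt (toCd s) M i n i' n' hi hn).hom
    (clsF T M i n (fj_compl hC hY) ((T.pull (𝟙 _) M i n).hom a))
  rw [pull_id]

/-- residue data vanish on classes defined at the point -/
theorem resData_zero (Q : T.ResData X j) (hi : i' = i + 1 - 2 * ((j : ℤ) + 1)) (hn : n' = n - ((j : ℤ) + 1))
    {U : X.scheme.Opens} (hU : ContainsFj X j U) (x : X.cdPt (j + 1)) (hx : x.1 ∈ U) (a : T.gp (X.res U) M i n) :
    (Q.cpt x M i n i' n' hi hn).hom (clsF T M i n hU a) = 0 := by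
  let s : Pieces X (cl X x.1) (j + 1) U := ⟨x.1, subset_closure rfl, hx, (codim_eq_iff X x.1 (j + 1)).1 x.2⟩
  rw [← clsF_res T M i n hU (fj_compl (bounded_cl x) hU) inf_le_left a]
  have hi₂ : i' = i + 1 - 2 * (((j + 1 : ℕ)) : ℤ) := by push_cast; exact hi
  have hn₂ : n' = n - (((j + 1 : ℕ)) : ℤ) := by push_cast; exact hn
  refine (resData_piece M Q hi hn hi₂ hn₂ (bounded_cl x) hU (good_cl x U) s _).trans ?_
  show cls T _ _ M i' n' _ _ = 0
  rw [resW_restrict T M (Y := fullY (bounded_cl x) hU) (hg := good_cl x U) hi₂ hn₂ s a, cls, map_zero]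

/-- push-forward data on a patch is push-forward -/
theorem pushData_piece (P : T.PushData X c) (hi : i' = i + 2 * (c : ℤ)) (hn : n' = n + (c : ℤ))
    {Y : FullOpens X C} (hY : ContainsFj X c Y.1) (s : Pieces X C c Y.1)
    (x : T.gp ((X.ptSub s.1).res (wOpen s)) M i n) :
    (P.cpt (toCd s) M i n i' n' hi hn).hom (cls T (X.ptSub s.1) _ M i n (wIdx s) x) =
      clsF T M i' n' hY (pushW T M hi hn s x) :=
  congrArg (fun m : T.gp ((X.ptSub s.1).res (wOpen s)) M i n ⟶ T.fjGp X c M i' n' => m.hom x)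
    (P.cpt_spec (toCd s) M i n i' n' hi hn (idxF hY) (wIdx s) (fPiece s) (morphismRestrict_ι _ _)
      (by rw [relCodim_fPiece s Y.2.1]; exact hi) (by rw [relCodim_fPiece s Y.2.1]; exact hn))

end data

end Groth.Agent.BM97
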