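import Groth.Agent.BM97.Top
import Groth.Agent.SchBasics.Reduced
import Mathlib.AlgebraicGeometry.Morphisms.ClosedImmersion

/-! Objects of a constructible class: reduced closed subobjects, codimension of points. -/

set_option autoImplicit false
universe u

noncomputable section

open AlgebraicGeometry CategoryTheory Limits TopologicalSpace Topology WeilCoh BMCoh Set

namespace Groth.Agent.BM97

theorem natDim_range {A T : Type u} [TopologicalSpace A] [TopologicalSpace T] {f : A → T} (hf : IsEmbedding f) :
    natDim A = natDim ↥(Set.range f) :=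
  natDim_homeo hf.toHomeomorph

theorem natDim_eq_of_range {A B T : Type u} [TopologicalSpace A] [TopologicalSpace B] [TopologicalSpace T]
    {f : A → T} {g : B → T} (hf : IsEmbedding f) (hg : IsEmbedding g) (h : Set.range f = Set.range g) :
    natDim A = natDim B := by
  rw [natDim_range hf, natDim_range hg]; exact natDim_homeo (Homeomorph.setCongr h)

variable {V : ObjectProperty Scheme.{u}} [IsConstructible V]

theorem finDim (X : Obj V) : topologicalKrullDim X.scheme < ⊤ := IsConstructible.finiteDim X.mem

theorem noeth (X : Obj V) : NoetherianSpace X.scheme :=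
  haveI := IsConstructible.isNoetherian X.mem
  inferInstance

theorem pdim_le (X : Obj V) (x : X.scheme) : pdim X.scheme x ≤ dim X.scheme := pd_le (finDim X) x

theorem codim_eq_iff (X : Obj V) (x : X.scheme) (j : ℕ) :
    codim X.scheme x = j ↔ pdim X.scheme x + j = dim X.scheme := by
  have := pdim_le X x; unfold codim; omega

theorem le_codim_iff (X : Obj V) (x : X.scheme) (j : ℕ) :
    j ≤ codim X.scheme x ↔ pdim X.scheme x + j ≤ dim X.scheme := by
  have := pdim_le X x; unfold codim; omega

/-- the reduced closed subscheme on a closed set, as an object -/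
abbrev subObj (X : Obj V) (C : Closeds X.scheme) : Obj V :=
  ⟨(Scheme.IdealSheafData.vanishingIdeal C).subscheme,
    IsConstructible.of_isClosedImmersion (Scheme.IdealSheafData.vanishingIdeal C).subschemeι
      (h := (inferInstance : IsClosedImmersion (Scheme.IdealSheafData.vanishingIdeal C).subschemeι)) X.mem⟩

abbrev subι (X : Obj V) (C : Closeds X.scheme) : (subObj X C).scheme ⟶ X.scheme :=
  (Scheme.IdealSheafData.vanishingIdeal C).subschemeι

theorem range_subι (X : Obj V) (C : Closeds X.scheme) : Set.range (subι X C) = C :=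
  SchBasics.range_vanishingIdeal_subschemeι C

instance (X : Obj V) (C : Closeds X.scheme) : IsReduced (subObj X C).scheme :=
  SchBasics.isReduced_vanishingIdeal_subscheme C

/-- the closure of a point as a closed set -/
abbrev cl (X : Obj V) (x : X.scheme) : Closeds X.scheme := ⟨closure {x}, isClosed_closure⟩

theorem ptSub_eq (X : Obj V) (x : X.scheme) : X.ptSub x = subObj X (cl X x) := rfl

theorem ptSubι_eq (X : Obj V) (x : X.scheme) : X.ptSubι x = subι X (cl X x) := rfl

instance (X : Obj V) (x : X.scheme) : IsReduced (X.ptSub x).scheme :=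
  SchBasics.isReduced_vanishingIdeal_subscheme _

theorem range_ptSubι (X : Obj V) (x : X.scheme) : Set.range (X.ptSubι x) = closure {x} :=
  range_subι X (cl X x)

instance irreducible_ptSub (X : Obj V) (x : X.scheme) : IrreducibleSpace (X.ptSub x).scheme := by
  have he := (X.ptSubι x).isClosedEmbedding
  have : IrreducibleSpace ↥(Set.range (X.ptSubι x)) := by
    rw [range_ptSubι]
    exact Subtype.irreducibleSpace isIrreducible_singleton.closure
  exact he.isEmbedding.toHomeomorph.symm.surjective.irreducibleSpace
    he.isEmbedding.toHomeomorph.symm.continuous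

theorem dim_ptSub (X : Obj V) (x : X.scheme) : dim (X.ptSub x).scheme = pdim X.scheme x := by
  refine natDim_eq_of_range (X.ptSubι x).isClosedEmbedding.isEmbedding IsEmbedding.subtypeVal ?_
  rw [range_ptSubι, Subtype.range_coe]

theorem dim_open_ptSub (X : Obj V) (x : X.scheme) (W : (X.ptSub x).scheme.Opens)
    (hW : (W : Set (X.ptSub x).scheme).Nonempty) : dim (W : Scheme.{u}) = pdim X.scheme x :=
  (IsConstructible.dim_open (X.ptSub x).mem (irreducible_ptSub X x) W hW).trans (dim_ptSub X x)

/-- the part of the closure of a point in an open -/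
theorem pdim_open (X : Obj V) (U : X.scheme.Opens) (y : (U : Scheme.{u})) :
    pdim (U : Scheme.{u}) y = pdim X.scheme (U.ι y) := by
  let W : (X.ptSub (U.ι y)).scheme.Opens := X.ptSubι (U.ι y) ⁻¹ᵁ U
  obtain ⟨w, hw⟩ : U.ι y ∈ Set.range (X.ptSubι (U.ι y)) := by rw [range_ptSubι]; exact subset_closure rfl
  have hW : (W : Set (X.ptSub (U.ι y)).scheme).Nonempty := ⟨w, show X.ptSubι (U.ι y) w ∈ U by rw [hw]; exact y.2⟩
  rw [← dim_open_ptSub X (U.ι y) W hW]
  refine natDim_eq_of_range (U.ι.isOpenEmbedding.isEmbedding.comp IsEmbedding.subtypeVal)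
    ((X.ptSubι (U.ι y)).isClosedEmbedding.isEmbedding.comp W.ι.isOpenEmbedding.isEmbedding) ?_
  rw [Set.range_comp, Subtype.range_coe, U.ι.isOpenEmbedding.isInducing.closure_eq_preimage_closure_image,
    Set.image_singleton, Set.image_preimage_eq_inter_range, Scheme.Opens.range_ι, Set.range_comp,
    Scheme.Opens.range_ι]
  show _ = X.ptSubι (U.ι y) '' (X.ptSubι (U.ι y) ⁻¹' (U : Set X.scheme))
  rw [Set.image_preimage_eq_inter_range, range_ptSubι, Set.inter_comm]

theorem pdim_sub (X : Obj V) (C : Closeds X.scheme) (z : (subObj X C).scheme) :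
    pdim (subObj X C).scheme z = pdim X.scheme (subι X C z) := by
  refine natDim_eq_of_range ((subι X C).isClosedEmbedding.isEmbedding.comp IsEmbedding.subtypeVal)
    IsEmbedding.subtypeVal ?_
  rw [Set.range_comp, Subtype.range_coe, Subtype.range_coe, ← (subι X C).isClosedEmbedding.closure_image_eq,
    Set.image_singleton]

theorem pdim_lt (X : Obj V) {x y : X.scheme} (hxy : x ∈ closure ({y} : Set X.scheme)) (hne : x ≠ y) :
    pdim X.scheme x < pdim X.scheme y := pd_lt (finDim X) hxy hne

theorem pdim_mono (X : Obj V) {x y : X.scheme} (hxy : x ∈ closure ({y} : Set X.scheme)) :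
    pdim X.scheme x ≤ pdim X.scheme y := pd_mono (finDim X) hxy

/-- an open containing the points of codimension 0 has full dimension -/
theorem dim_of_containsFj (X : Obj V) {j : ℕ} {U : X.scheme.Opens} (hU : ContainsFj X j U) :
    dim (U : Scheme.{u}) = dim X.scheme := by
  refine le_antisymm (natDim_mono U.ι.isOpenEmbedding.isInducing (finDim X)) ?_
  rcases isEmpty_or_nonempty X.scheme with hE | hN
  · simp [dim, natDim_empty]
  · obtain ⟨x, hx⟩ := exists_pd_top (finDim X)
    change pdim X.scheme x = dim X.scheme at hx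
    have hxU : x ∈ U := hU x (by unfold codim; omega)
    rw [← hx]
    calc pdim X.scheme x = pdim (U : Scheme.{u}) ⟨x, hxU⟩ := (pdim_open X U ⟨x, hxU⟩).symm
      _ ≤ _ := pdim_le (X.res U) ⟨x, hxU⟩

theorem containsFj_inf (X : Obj V) {j : ℕ} {U U' : X.scheme.Opens} (h : ContainsFj X j U)
    (h' : ContainsFj X j U') : ContainsFj X j (U ⊓ U') := fun y hy => ⟨h y hy, h' y hy⟩

theorem mem_of_containsFj (X : Obj V) {j : ℕ} {U : X.scheme.Opens} (h : ContainsFj X j U) {y : X.scheme}
    (hy : y ∉ U) : pdim X.scheme y + (j + 1) ≤ dim X.scheme := by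
  have h1 : ¬ codim X.scheme y ≤ j := fun hc => hy (h y hc)
  exact (le_codim_iff X y (j + 1)).1 (by omega)

/-- removing a small closed set -/
theorem containsFj_diff (X : Obj V) {j : ℕ} {U : X.scheme.Opens} (hU : ContainsFj X j U) (B : Closeds X.scheme)
    (hB : ∀ y ∈ B, pdim X.scheme y + (j + 1) ≤ dim X.scheme) : ContainsFj X j (U ⊓ B.compl) :=
  fun y hy => ⟨hU y hy, fun hyB => by have := (le_codim_iff X y (j + 1)).2 (hB y hyB); omega⟩

end Groth.Agent.BM97
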