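import Groth.Agent.BM97.Patch

/-! Core lemmas on the Gysin sequences of good patches. -/

set_option autoImplicit false
universe u

noncomputable section

open AlgebraicGeometry CategoryTheory Limits TopologicalSpace WeilCoh BMCoh Opposite

namespace Groth.Agent.BM97

variable {V : ObjectProperty Scheme.{u}} [IsConstructible V] {R : Type u} [CommRing R] {A : Coefs R}
  (T : PreTheory V R A) {X : Obj V} {C : Closeds X.scheme} {c : ℕ}

/-- restriction between opens of full dimension -/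
abbrev resO {U U' : X.scheme.Opens} (h : U' ≤ U) (hU : dim (↑U : Scheme.{u}) = dim X.scheme)
    (hU' : dim (↑U' : Scheme.{u}) = dim X.scheme) (M : A.Cat) (i n : ℤ) :
    T.gp (X.res U) M i n ⟶ T.gp (X.res U') M i n :=
  T.pull (X.resLE h (hU'.trans hU.symm)) M i n

theorem resO_comp {U U' U'' : X.scheme.Opens} (h : U' ≤ U) (h' : U'' ≤ U')
    (hU : dim (↑U : Scheme.{u}) = dim X.scheme) (hU' : dim (↑U' : Scheme.{u}) = dim X.scheme)
    (hU'' : dim (↑U'' : Scheme.{u}) = dim X.scheme) (M : A.Cat) (i n : ℤ) (a : T.gp (X.res U) M i n) :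
    (resO T h' hU' hU'' M i n).hom ((resO T h hU hU' M i n).hom a) = (resO T (h'.trans h) hU hU'' M i n).hom a := by
  rw [← pull_comp]
  have e : X.resLE h' (hU''.trans hU'.symm) ≫ X.resLE h (hU'.trans hU.symm) =
      X.resLE (h'.trans h) (hU''.trans hU.symm) := Hom.ext (Scheme.homOfLE_homOfLE X.scheme h' h)
  rw [e]

variable (M : A.Cat) {i n i' n' : ℤ}

section residue

variable (hC : Bounded X C c) (Y : FullOpens X C) (hg : Good X C c Y.1)

/-- the residue of a class to a piece, on the piece -/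
def resW (hi : i' = i + 1 - 2 * (c : ℤ)) (hn : n' = n - (c : ℤ)) (s : Pieces X C c Y.1)
    (a : T.gp (X.res (Y.1 ⊓ C.compl)) M i n) : T.gp ((X.ptSub s.1).res (wOpen s)) M i' n' :=
  haveI : Nonempty (Pieces X C c Y.1) := ⟨s⟩
  (T.pull (gPiece s hC hg) M i' n').hom ((T.res (dec X C Y) M i n i' n'
    (by rw [codim_dec hC Y]; exact hi) (by rw [codim_dec hC Y]; exact hn)).hom a)

variable {hC Y hg}

theorem res_eq_zero (hi : i' = i + 1 - 2 * (c : ℤ)) (hn : n' = n - (c : ℤ)) [Nonempty (Pieces X C c Y.1)]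
    (a : T.gp (X.res (Y.1 ⊓ C.compl)) M i n) (h : ∀ s, resW T M hC Y hg hi hn s a = 0) :
    (T.res (dec X C Y) M i n i' n' (by rw [codim_dec hC Y]; exact hi) (by rw [codim_dec hC Y]; exact hn)).hom a = 0 :=
  haveI := finite_pieces hC Y.1
  eq_zero_of_pieces T _ (fun s : Pieces X C c Y.1 => gPiece s hC hg)
    (fun s t hst => disjoint_pieces s hg t hst) (cover_pieces hg) M i' n' _ h

/-- a class with vanishing residues extends -/
theorem exists_lift (hi : i' = i + 1 - 2 * (c : ℤ)) (hn : n' = n - (c : ℤ)) [Nonempty (Pieces X C c Y.1)]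
    (a : T.gp (X.res (Y.1 ⊓ C.compl)) M i n) (h : ∀ s, resW T M hC Y hg hi hn s a = 0) :
    ∃ b : T.gp (X.res Y.1) M i n, (resO T inf_le_left Y.2.1 Y.2.2 M i n).hom b = a :=
  (T.exact_pull_res (dec X C Y) M i n i' n' (by rw [codim_dec hC Y]; exact hi)
    (by rw [codim_dec hC Y]; exact hn) a).1 (res_eq_zero T M hi hn a h)

/-- residues of a restriction from the whole vanish -/
theorem resW_restrict (hi : i' = i + 1 - 2 * (c : ℤ)) (hn : n' = n - (c : ℤ)) (s : Pieces X C c Y.1)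
    (b : T.gp (X.res Y.1) M i n) :
    resW T M hC Y hg hi hn s ((resO T inf_le_left Y.2.1 Y.2.2 M i n).hom b) = 0 := by
  haveI : Nonempty (Pieces X C c Y.1) := ⟨s⟩
  show (T.pull (gPiece s hC hg) M i' n').hom _ = 0
  rw [(T.exact_pull_res (dec X C Y) M i n i' n' (by rw [codim_dec hC Y]; exact hi)
    (by rw [codim_dec hC Y]; exact hn) _).2 ⟨b, rfl⟩, map_zero]

/-- the class of the residue in the group of the point -/
abbrev resPt (hi : i' = i + 1 - 2 * (c : ℤ)) (hn : n' = n - (c : ℤ)) (s : Pieces X C c Y.1)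
    (a : T.gp (X.res (Y.1 ⊓ C.compl)) M i n) : T.ptGp X s.1 M i' n' :=
  cls T (X.ptSub s.1) _ M i' n' (wIdx s) (resW T M hC Y hg hi hn s a)

end residue

/-- a piece of a smaller open seen in a bigger one -/
abbrev upPiece {Y Y' : X.scheme.Opens} (hle : Y' ≤ Y) (s : Pieces X C c Y') : Pieces X C c Y :=
  ⟨s.1, s.2.1, hle s.2.2.1, s.2.2.2⟩

theorem wOpen_mono {Y Y' : X.scheme.Opens} (hle : Y' ≤ Y) (s : Pieces X C c Y') :
    wOpen s ≤ wOpen (upPiece hle s) :=
  fun _ hw => hle hw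

section natural

variable {hC : Bounded X C c} {Y Y' : FullOpens X C} {hg : Good X C c Y.1} (hle : Y'.1 ≤ Y.1)

/-- the residues are compatible with restriction -/
theorem resW_natural (hi : i' = i + 1 - 2 * (c : ℤ)) (hn : n' = n - (c : ℤ)) (s : Pieces X C c Y'.1)
    (a : T.gp (X.res (Y.1 ⊓ C.compl)) M i n) :
    resW T M hC Y' (good_mono hle hg) hi hn s ((resO T (inf_le_inf_right _ hle) Y.2.2 Y'.2.2 M i n).hom a) =
      (T.pull ((X.ptSub s.1).resLE (wOpen_mono hle s)
        ((dim_wOpen s).trans (dim_wOpen (upPiece hle s)).symm)) M i' n').hom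
        (resW T M hC Y hg hi hn (upPiece hle s) a) := by
  haveI : Nonempty (Pieces X C c Y'.1) := ⟨s⟩
  haveI : Nonempty (Pieces X C c Y.1) := ⟨upPiece hle s⟩
  have hz : zOpen X C Y'.1 ≤ zOpen X C Y.1 := fun _ hz => hle hz
  have hdz : dim (↑(zOpen X C Y'.1) : Scheme.{u}) = dim (↑(zOpen X C Y.1) : Scheme.{u}) := by
    have h1 := dim_zOpen (Y := Y'.1) hC
    have h2 := dim_zOpen (Y := Y.1) hC
    omega
  let gY : X.res Y'.1 ⟶ X.res Y.1 := X.resLE hle (Y'.2.1.trans Y.2.1.symm)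
  let gZ : (dec X C Y').Z ⟶ (dec X C Y).Z := (subObj X C).resLE hz hdz
  let gU : (dec X C Y').U ⟶ (dec X C Y).U :=
    X.resLE (inf_le_inf_right _ hle) (Y'.2.2.trans Y.2.2.symm)
  have e1 : gZ.hom ≫ (dec X C Y).i = (dec X C Y').i ≫ gY.hom := by
    show (subObj X C).scheme.homOfLE hz ≫ (subι X C ∣_ Y.1) = (subι X C ∣_ Y'.1) ≫ X.scheme.homOfLE hle
    rw [← cancel_mono Y.1.ι]
    simp only [Category.assoc, morphismRestrict_ι, Scheme.homOfLE_ι, Scheme.homOfLE_ι_assoc]
  have e2 : gU ≫ (dec X C Y).j = (dec X C Y').j ≫ gY :=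
    Hom.ext ((Scheme.homOfLE_homOfLE X.scheme (inf_le_inf_right _ hle) inf_le_left).trans
      (Scheme.homOfLE_homOfLE X.scheme inf_le_left hle).symm)
  have hci : i' = i + 1 - 2 * (dec X C Y).codim := by rw [codim_dec hC Y]; exact hi
  have hcn : n' = n - (dec X C Y).codim := by rw [codim_dec hC Y]; exact hn
  have hci' : i' = i + 1 - 2 * (dec X C Y').codim := by rw [codim_dec hC Y']; exact hi
  have hcn' : n' = n - (dec X C Y').codim := by rw [codim_dec hC Y']; exact hn
  have key := congrArg (fun m : T.gp (dec X C Y).U M i n ⟶ T.gp (dec X C Y').Z M i' n' => m.hom a)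
    (T.res_pull (dec X C Y) (dec X C Y') gY gZ gU e1 e2 M i n i' n' hci hcn hci' hcn')
  have hcomm : (X.ptSub s.1).resLE (wOpen_mono hle s) ((dim_wOpen s).trans (dim_wOpen (upPiece hle s)).symm) ≫
      gPiece (upPiece hle s) hC hg = gPiece s hC (good_mono hle hg) ≫ gZ := by
    refine Hom.ext ?_
    show (X.ptSub s.1).scheme.homOfLE (wOpen_mono hle s) ≫ gHom (upPiece hle s) =
      gHom s ≫ (subObj X C).scheme.homOfLE hz
    rw [← cancel_mono (zOpen X C Y.1).ι]
    simp only [Category.assoc, Scheme.Hom.resLE_comp_ι, Scheme.homOfLE_ι, Scheme.homOfLE_ι_assoc]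
  show (T.pull (gPiece s hC (good_mono hle hg)) M i' n').hom _ = (T.pull _ M i' n').hom ((T.pull _ M i' n').hom _)
  rw [← pull_comp, hcomm, pull_comp]
  exact congrArg _ key.symm

/-- the class of the residue does not change under restriction -/
theorem resPt_natural (hi : i' = i + 1 - 2 * (c : ℤ)) (hn : n' = n - (c : ℤ)) (s : Pieces X C c Y'.1)
    (a : T.gp (X.res (Y.1 ⊓ C.compl)) M i n) :
    resPt T M (hC := hC) (hg := good_mono hle hg) hi hn s ((resO T (inf_le_inf_right _ hle) Y.2.2 Y'.2.2 M i n).hom a) =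
      resPt T M (hC := hC) (hg := hg) hi hn (upPiece hle s) a := by
  show cls T (X.ptSub s.1) _ M i' n' (wIdx s) _ = _
  rw [resW_natural T M hle hi hn s a]
  exact cls_res T (X.ptSub s.1) _ M i' n' (U := wIdx (upPiece hle s)) (U' := wIdx s) (wOpen_mono hle s) _

end natural

section push

variable {Y : FullOpens X C}

/-- push-forward from a piece -/
def pushW (hi : i' = i + 2 * (c : ℤ)) (hn : n' = n + (c : ℤ)) (s : Pieces X C c Y.1)
    (x : T.gp ((X.ptSub s.1).res (wOpen s)) M i n) : T.gp (X.res Y.1) M i' n' :=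
  (T.push (X := (X.ptSub s.1).res (wOpen s)) (Y := X.res Y.1) (fPiece s) M i n i' n'
    (by rw [relCodim_fPiece s Y.2.1]; exact hi) (by rw [relCodim_fPiece s Y.2.1]; exact hn)).hom x

theorem pushW_add (hi : i' = i + 2 * (c : ℤ)) (hn : n' = n + (c : ℤ)) (s : Pieces X C c Y.1)
    (x y : T.gp ((X.ptSub s.1).res (wOpen s)) M i n) :
    pushW T M hi hn s (x + y) = pushW T M hi hn s x + pushW T M hi hn s y := map_add _ _ _

theorem pushW_eq (hC : Bounded X C c) (hg : Good X C c Y.1) [Nonempty (Pieces X C c Y.1)]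
    (hi : i' = i + 2 * (c : ℤ)) (hn : n' = n + (c : ℤ)) (s : Pieces X C c Y.1)
    (x : T.gp ((X.ptSub s.1).res (wOpen s)) M i n) :
    haveI := (dec X C Y).closedImm
    (T.push (dec X C Y).i M i n i' n'
      (by rw [show relCodim (dec X C Y).Z.scheme (X.res Y.1).scheme = (c : ℤ) from codim_dec hC Y]; exact hi)
      (by rw [show relCodim (dec X C Y).Z.scheme (X.res Y.1).scheme = (c : ℤ) from codim_dec hC Y]; exact hn)).hom
      ((pushPiece T (gPiece s hC hg) (closed_range_gHom s) M i n).hom x) = pushW T M hi hn s x := by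
  haveI := (dec X C Y).closedImm
  haveI : IsClosedImmersion (gPiece s hC hg).hom := closedImm_gHom s
  have key := T.push_comp (gPiece s hC hg).hom (dec X C Y).i M i n i n i' n'
    (by rw [relCodim_eq_zero (gPiece s hC hg)]; ring) (by rw [relCodim_eq_zero (gPiece s hC hg)]; ring)
    (by rw [show relCodim (dec X C Y).Z.scheme (X.res Y.1).scheme = (c : ℤ) from codim_dec hC Y]; exact hi)
    (by rw [show relCodim (dec X C Y).Z.scheme (X.res Y.1).scheme = (c : ℤ) from codim_dec hC Y]; exact hn)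
    (by rw [relCodim_fPiece s Y.2.1]; exact hi) (by rw [relCodim_fPiece s Y.2.1]; exact hn)
  have h1 := congrArg (fun m : T.gp ((X.ptSub s.1).res (wOpen s)) M i n ⟶ T.gp (X.res Y.1) M i' n' => m.hom x) key
  refine h1.trans ?_
  have : (gPiece s hC hg).hom ≫ (dec X C Y).i = fPiece s := gHom_iY s
  unfold pushW
  congr 3

theorem pushW_zero_compl (hi : i' = i + 2 * (c : ℤ)) (hn : n' = n + (c : ℤ)) (hC : Bounded X C c)
    (hg : Good X C c Y.1) (s : Pieces X C c Y.1) (x : T.gp ((X.ptSub s.1).res (wOpen s)) M i n) :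
    (resO T inf_le_left Y.2.1 Y.2.2 M i' n').hom (pushW T M hi hn s x) = 0 := by
  haveI : Nonempty (Pieces X C c Y.1) := ⟨s⟩
  rw [← pushW_eq T M hC hg hi hn s x]
  obtain ⟨i', rfl⟩ : ∃ i₀ : ℤ, i' = i₀ + 1 := ⟨i' - 1, by ring⟩
  exact (T.exact_push_pull (dec X C Y) M i' n' i n _ _ _).2 ⟨_, rfl⟩

/-- a class vanishing off the closed part is a sum of push-forwards -/
theorem exists_sum_push (hi : i' = i + 2 * (c : ℤ)) (hn : n' = n + (c : ℤ)) (hC : Bounded X C c)
    (hg : Good X C c Y.1) [Nonempty (Pieces X C c Y.1)] [Fintype (Pieces X C c Y.1)]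
    (b : T.gp (X.res Y.1) M i' n') (hb : (resO T inf_le_left Y.2.1 Y.2.2 M i' n').hom b = 0) :
    ∃ x : ∀ s : Pieces X C c Y.1, T.gp ((X.ptSub s.1).res (wOpen s)) M i n, ∑ s, pushW T M hi hn s (x s) = b := by
  haveI := (dec X C Y).closedImm
  obtain ⟨i', rfl⟩ : ∃ i₀ : ℤ, i' = i₀ + 1 := ⟨i' - 1, by ring⟩
  have hcd : relCodim (dec X C Y).Z.scheme (X.res Y.1).scheme = (c : ℤ) := codim_dec hC Y
  obtain ⟨z, hz⟩ := (T.exact_push_pull (dec X C Y) M i' n' i n (by rw [hcd]; exact hi) (by rw [hcd]; exact hn) b).1 hb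
  refine ⟨fun s => (T.pull (gPiece s hC hg) M i n).hom z, ?_⟩
  have hsum := (sum_pieces T _ (fun s : Pieces X C c Y.1 => gPiece s hC hg)
    (fun s t hst => disjoint_pieces s hg t hst) (cover_pieces hg) closed_range_gHom M i n).1 z
  rw [← hz]
  conv_rhs => rw [← hsum]
  rw [map_sum]
  exact Finset.sum_congr rfl fun s _ => (pushW_eq T M hC hg hi hn s _).symm

/-- a relation between push-forwards comes from residues -/
theorem exists_res_of_sum_zero (hi : i' = i + 1 - 2 * (c : ℤ)) (hn : n' = n - (c : ℤ)) (hC : Bounded X C c)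
    (hg : Good X C c Y.1) [Nonempty (Pieces X C c Y.1)] [Fintype (Pieces X C c Y.1)]
    (hi2 : i + 1 = i' + 2 * (c : ℤ)) (hn2 : n = n' + (c : ℤ))
    (x : ∀ s : Pieces X C c Y.1, T.gp ((X.ptSub s.1).res (wOpen s)) M i' n')
    (h : ∑ s, pushW T M hi2 hn2 s (x s) = 0) :
    ∃ a : T.gp (X.res (Y.1 ⊓ C.compl)) M i n, ∀ s, resW T M hC Y hg hi hn s a = x s := by
  haveI := (dec X C Y).closedImm
  have hcd : (dec X C Y).codim = (c : ℤ) := codim_dec hC Y
  have hcd' : relCodim (dec X C Y).Z.scheme (X.res Y.1).scheme = (c : ℤ) := codim_dec hC Y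
  have hs := (sum_pieces T _ (fun s : Pieces X C c Y.1 => gPiece s hC hg)
    (fun s t hst => disjoint_pieces s hg t hst) (cover_pieces hg) closed_range_gHom M i' n').2 x
  have hz : (T.push (dec X C Y).i M i' n' (i + 1) n (by rw [hcd']; exact hi2) (by rw [hcd']; exact hn2)).hom
      (∑ s, (pushPiece T (gPiece s hC hg) (closed_range_gHom s) M i' n').hom (x s)) = 0 := by
    rw [map_sum]
    exact (Finset.sum_congr rfl fun s _ => pushW_eq T M hC hg hi2 hn2 s _).trans h
  obtain ⟨a, ha⟩ := (T.exact_res_push (dec X C Y) M i n i' n' (by rw [hcd]; exact hi) (by rw [hcd]; exact hn)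
    (by rw [hcd']; exact hi2) (by rw [hcd']; exact hn2) _).1 hz
  exact ⟨a, fun s => (congrArg (T.pull (gPiece s hC hg) M i' n').hom ha).trans (hs s)⟩

/-- push-forwards of residues cancel -/
theorem sum_push_res (hi : i' = i + 1 - 2 * (c : ℤ)) (hn : n' = n - (c : ℤ)) (hC : Bounded X C c)
    (hg : Good X C c Y.1) [Nonempty (Pieces X C c Y.1)] [Fintype (Pieces X C c Y.1)]
    (hi2 : i + 1 = i' + 2 * (c : ℤ)) (hn2 : n = n' + (c : ℤ)) (a : T.gp (X.res (Y.1 ⊓ C.compl)) M i n) :
    ∑ s, pushW T M hi2 hn2 s (resW T M hC Y hg hi hn s a) = 0 := by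
  haveI := (dec X C Y).closedImm
  have hcd : (dec X C Y).codim = (c : ℤ) := codim_dec hC Y
  have hcd' : relCodim (dec X C Y).Z.scheme (X.res Y.1).scheme = (c : ℤ) := codim_dec hC Y
  let z := (T.res (dec X C Y) M i n i' n' (by rw [hcd]; exact hi) (by rw [hcd]; exact hn)).hom a
  have hz : (T.push (dec X C Y).i M i' n' (i + 1) n (by rw [hcd']; exact hi2) (by rw [hcd']; exact hn2)).hom z = 0 :=
    (T.exact_res_push (dec X C Y) M i n i' n' (by rw [hcd]; exact hi) (by rw [hcd]; exact hn) _ _ z).2 ⟨a, rfl⟩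
  have hsum := (sum_pieces T _ (fun s : Pieces X C c Y.1 => gPiece s hC hg)
    (fun s t hst => disjoint_pieces s hg t hst) (cover_pieces hg) closed_range_gHom M i' n').1 z
  rw [← hsum, map_sum] at hz
  exact (Finset.sum_congr rfl fun s _ => (pushW_eq T M hC hg hi2 hn2 s _).symm).trans hz

/-- push-forward from pieces commutes with restriction -/
theorem pushW_natural {Y' : FullOpens X C} (hle : Y'.1 ≤ Y.1) (hi : i' = i + 2 * (c : ℤ)) (hn : n' = n + (c : ℤ))
    (s : Pieces X C c Y'.1) (x : T.gp ((X.ptSub s.1).res (wOpen (upPiece hle s))) M i n) :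
    (resO T hle Y.2.1 Y'.2.1 M i' n').hom (pushW T M hi hn (upPiece hle s) x) =
      pushW T M hi hn s ((T.pull ((X.ptSub s.1).resLE (wOpen_mono hle s)
        ((dim_wOpen s).trans (dim_wOpen (upPiece hle s)).symm)) M i n).hom x) := by
  let g : X.res Y'.1 ⟶ X.res Y.1 := X.resLE hle (Y'.2.1.trans Y.2.1.symm)
  let g' : (X.ptSub s.1).res (wOpen s) ⟶ (X.ptSub s.1).res (wOpen (upPiece hle s)) :=
    (X.ptSub s.1).resLE (wOpen_mono hle s) ((dim_wOpen s).trans (dim_wOpen (upPiece hle s)).symm)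
  have hsq : IsPullback g'.hom (fPiece s) (fPiece (upPiece hle s)) g.hom := by
    refine (IsOpenImmersion.isPullback (fPiece s) g'.hom g.hom (fPiece (upPiece hle s)) ?_ ?_).flip
    · show (X.ptSub s.1).scheme.homOfLE (wOpen_mono hle s) ≫ (X.ptSubι s.1 ∣_ Y.1) =
        (X.ptSubι s.1 ∣_ Y'.1) ≫ X.scheme.homOfLE hle
      rw [← cancel_mono Y.1.ι]
      simp only [Category.assoc, morphismRestrict_ι, Scheme.homOfLE_ι, Scheme.homOfLE_ι_assoc]
    · show (X.ptSubι s.1 ∣_ Y.1) ⁻¹ᵁ (X.scheme.homOfLE hle).opensRange =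
        ((X.ptSub s.1).scheme.homOfLE (wOpen_mono hle s)).opensRange
      rw [Scheme.opensRange_homOfLE, Scheme.opensRange_homOfLE, ← Scheme.Hom.comp_preimage, morphismRestrict_ι,
        Scheme.Hom.comp_preimage]
  have key := T.push_pull (fPiece (upPiece hle s)) (fPiece s) g g' hsq M i n i' n'
    (by rw [relCodim_fPiece (upPiece hle s) Y.2.1]; exact hi) (by rw [relCodim_fPiece (upPiece hle s) Y.2.1]; exact hn)
    (by rw [relCodim_fPiece s Y'.2.1]; exact hi) (by rw [relCodim_fPiece s Y'.2.1]; exact hn)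
  exact congrArg (fun m : T.gp ((X.ptSub s.1).res (wOpen (upPiece hle s))) M i n ⟶ T.gp (X.res Y'.1) M i' n' => m.hom x) key

end push

end Groth.Agent.BM97
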