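import Groth.Agent.BM97.Pt
import Groth.Agent.VarNorm.Sections

/-! The group of a point is the group of the generic point of the normalization of its closure. -/

set_option autoImplicit false
universe u

noncomputable section

open AlgebraicGeometry CategoryTheory Limits TopologicalSpace WeilCoh BMCoh Opposite Topology

namespace Groth.Agent.BM97

theorem exists_open_iso_normalization (S : Scheme.{u}) [IsIntegral S]
    [QuasiCompact (S.fromSpecStalk (genericPoint S))] [QuasiSeparated (S.fromSpecStalk (genericPoint S))]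
    [IsFinite (Curv2.normalizationι S)] :
    ∃ V : S.Opens, (V : Set S).Nonempty ∧ IsIso (Curv2.normalizationι S ∣_ V) := by
  obtain ⟨_, ⟨U, hU, rfl⟩, hx, -⟩ := S.isBasis_affineOpens.exists_subset_of_mem_open
    (Set.mem_univ (genericPoint S)) isOpen_univ
  haveI : Nonempty U := ⟨⟨_, hx⟩⟩
  obtain ⟨j, hj⟩ := VarNorm.exists_sectionsIso S U hU
  have h1 : ((Curv2.normalizationι S).app U ≫ j.hom).hom.Finite :=
    (RingHom.Finite.of_surjective _ (ConcreteCategory.bijective_of_isIso j.hom).2).comp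
      (IsFinite.finite_app (f := Curv2.normalizationι S) U hU)
  rw [hj] at h1
  have hfin : Module.Finite Γ(S, U) (integralClosure Γ(S, U) S.functionField) :=
    RingHom.finite_algebraMap.mp h1
  obtain ⟨W, hd, hW⟩ := VarNorm.exists_dense_open_isIso S U hU hfin
  exact ⟨W, hd.nonempty, hW⟩

theorem isIso_restrict_le {S S' : Scheme.{u}} (f : S ⟶ S') {U U' : S'.Opens} (h : U' ≤ U) [IsIso (f ∣_ U)] :
    IsIso (f ∣_ U') := by
  have hi : MorphismProperty.isomorphisms Scheme.{u} (f ∣_ U) := inferInstanceAs (IsIso (f ∣_ U))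
  have := IsZariskiLocalAtTarget.restrict hi (U.ι ⁻¹ᵁ U')
  have e := (MorphismProperty.isomorphisms Scheme.{u}).arrow_mk_iso_iff
    (morphismRestrictRestrict f U (U.ι ⁻¹ᵁ U'))
  have h2 : (f ∣_ (U.ι ''ᵁ (U.ι ⁻¹ᵁ U'))) = (f ∣_ (U.ι ''ᵁ (U.ι ⁻¹ᵁ U'))) := rfl
  have h3 : U.ι ''ᵁ (U.ι ⁻¹ᵁ U') = U' := by
    rw [Scheme.Hom.image_preimage_eq_opensRange_inf, Scheme.Opens.opensRange_ι, inf_eq_right.2 h]
  have := e.1 this
  rw [h3] at this
  exact this

variable {V : ObjectProperty Scheme.{u}} [IsConstructible V] {R : Type u} [CommRing R] {A : Coefs R}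
  (T : PreTheory V R A) {X Y : Obj V}

theorem push_congr {f g : X.scheme ⟶ Y.scheme} [IsProper f] [IsProper g] (e : f = g) (M : A.Cat) {i n i' n' : ℤ}
    (hi : i' = i + 2 * relCodim X.scheme Y.scheme) (hn : n' = n + relCodim X.scheme Y.scheme) :
    T.push f M i n i' n' hi hn = T.push g M i n i' n' hi hn := by
  subst e; rfl

theorem push_iso_bijective (f : X.scheme ⟶ Y.scheme) [IsIso f] (M : A.Cat) (i n : ℤ)
    (hi : i = i + 2 * relCodim X.scheme Y.scheme) (hn : n = n + relCodim X.scheme Y.scheme) :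
    Function.Bijective (T.push f M i n i n hi hn).hom := by
  have hd : dim X.scheme = dim Y.scheme := dim_eq_of_iso (asIso f)
  have h0 : relCodim Y.scheme X.scheme = 0 := by unfold relCodim; omega
  have hX : relCodim X.scheme X.scheme = 0 := by unfold relCodim; omega
  have hY : relCodim Y.scheme Y.scheme = 0 := by unfold relCodim; omega
  refine Function.bijective_iff_has_inverse.2 ⟨(T.push (inv f) M i n i n (by omega) (by omega)).hom,
    fun a => ?_, fun a => ?_⟩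
  · have := T.push_comp f (inv f) M i n i n i n hi hn (by omega) (by omega) (by omega) (by omega)
    rw [push_congr T (IsIso.hom_inv_id f) M, T.push_id X M i n] at this
    exact congrArg (fun m : T.gp X M i n ⟶ T.gp X M i n => m.hom a) this
  · have := T.push_comp (inv f) f M i n i n i n (by omega) (by omega) hi hn (by omega) (by omega)
    rw [push_congr T (IsIso.inv_hom_id f) M, T.push_id Y M i n] at this
    exact congrArg (fun m : T.gp Y M i n ⟶ T.gp Y M i n => m.hom a) this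

variable {T} {φ : Y.scheme ⟶ X.scheme} {y : Y.scheme} {x : X.scheme}

theorem ptPush_bijective [IsProper φ] (L : T.PtPush φ y x) (ψ : (Y.ptSub y).scheme ⟶ (X.ptSub x).scheme)
    [IsProper ψ] (hψ : ψ ≫ X.ptSubι x = Y.ptSubι y ≫ φ) {V₀ : (X.ptSub x).scheme.Opens}
    (hV₀ : (V₀ : Set (X.ptSub x).scheme).Nonempty) [IsIso (ψ ∣_ V₀)] (M : A.Cat) (i n : ℤ) :
    Function.Bijective (L.cpt M i n).hom := by
  haveI := irreducible_ptSub X x
  haveI := irreducible_ptSub Y y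
  -- opens below V₀ and their preimages
  have hpre : ∀ O : (X.ptSub x).scheme.Opens, O ≤ V₀ → (O : Set (X.ptSub x).scheme).Nonempty →
      ((ψ ⁻¹ᵁ O : (Y.ptSub y).scheme.Opens) : Set (Y.ptSub y).scheme).Nonempty ∧
        dim (↑(ψ ⁻¹ᵁ O) : Scheme.{u}) = dim (Y.ptSub y).scheme := by
    intro O hO hne
    haveI := isIso_restrict_le ψ hO
    have hP : ((ψ ⁻¹ᵁ O : (Y.ptSub y).scheme.Opens) : Set (Y.ptSub y).scheme).Nonempty := by
      obtain ⟨v, hv⟩ := hne
      exact ⟨((inv (ψ ∣_ O)) ⟨v, hv⟩).1, by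
        show ψ ((ψ ⁻¹ᵁ O).ι _) ∈ O
        rw [← Scheme.Hom.comp_apply, ← morphismRestrict_ι, Scheme.Hom.comp_apply]
        exact ((ψ ∣_ O) _).2⟩
    exact ⟨hP, (dim_open_ptSub Y y _ hP).trans (dim_ptSub Y y).symm⟩
  have hinf : ∀ W' : ptIdx X x, ((W'.1 ⊓ V₀ : (X.ptSub x).scheme.Opens) : Set (X.ptSub x).scheme).Nonempty ∧
      dim (↑(W'.1 ⊓ V₀) : Scheme.{u}) = dim (X.ptSub x).scheme := fun W' => by
    have h := nonempty_preirreducible_inter W'.1.isOpen V₀.isOpen W'.2.1 hV₀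
    exact ⟨h, (dim_open_ptSub X x _ h).trans (dim_ptSub X x).symm⟩
  constructor
  · rw [injective_iff_map_eq_zero]
    intro v hv
    obtain ⟨W, a, rfl⟩ := exists_rep_P T M i n y v
    obtain ⟨W', W'', e, hle⟩ := exists_small_preimage L ψ hψ W
    let O : ptIdx X x := ⟨W'.1 ⊓ V₀, hinf W'⟩
    have hP := hpre O.1 inf_le_right O.2.1
    have hle' : ψ ⁻¹ᵁ O.1 ≤ W.1 := fun w hw => hle (e.ge hw.1)
    rw [← clsP_res T M i n (W := W) (W' := ⟨ψ ⁻¹ᵁ O.1, hP⟩) hle'] at hv ⊢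
    generalize (T.pull _ M i n).hom a = a₁ at hv ⊢
    rw [cpt_restrict L ψ hψ M i n O hP] at hv
    obtain ⟨O', hO', h0⟩ := clsP_eq_zero T M i n hv
    have hO'V : O'.1 ≤ V₀ := hO'.trans inf_le_right
    haveI := isIso_restrict_le ψ hO'V
    have hP' := hpre O'.1 hO'V O'.2.1
    have hleP : ψ ⁻¹ᵁ O'.1 ≤ ψ ⁻¹ᵁ O.1 := fun w hw => hO' hw
    let g : (X.ptSub x).res O'.1 ⟶ (X.ptSub x).res O.1 := (X.ptSub x).resLE hO' (O'.2.2.trans O.2.2.symm)
    let g' : (Y.ptSub y).res (ψ ⁻¹ᵁ O'.1) ⟶ (Y.ptSub y).res (ψ ⁻¹ᵁ O.1) :=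
      (Y.ptSub y).resLE hleP (hP'.2.trans hP.2.symm)
    have hsq : IsPullback g'.hom (ψ ∣_ O'.1) (ψ ∣_ O.1) g.hom := by
      refine (IsOpenImmersion.isPullback (ψ ∣_ O'.1) g'.hom g.hom (ψ ∣_ O.1) ?_ ?_).flip
      · show (Y.ptSub y).scheme.homOfLE hleP ≫ (ψ ∣_ O.1) = (ψ ∣_ O'.1) ≫ (X.ptSub x).scheme.homOfLE hO'
        rw [← cancel_mono O.1.ι]
        simp only [Category.assoc, morphismRestrict_ι, Scheme.homOfLE_ι, Scheme.homOfLE_ι_assoc]
      · show (ψ ∣_ O.1) ⁻¹ᵁ ((X.ptSub x).scheme.homOfLE hO').opensRange =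
          ((Y.ptSub y).scheme.homOfLE hleP).opensRange
        rw [Scheme.opensRange_homOfLE, Scheme.opensRange_homOfLE, ← Scheme.Hom.comp_preimage, morphismRestrict_ι,
          Scheme.Hom.comp_preimage]
    have hc := relCodim_ptIdx L.codim_eq ⟨ψ ⁻¹ᵁ O.1, hP⟩ O
    have hc' := relCodim_ptIdx L.codim_eq ⟨ψ ⁻¹ᵁ O'.1, hP'⟩ O'
    have key := congrArg (fun f : T.gp ((Y.ptSub y).res (ψ ⁻¹ᵁ O.1)) M i n ⟶ T.gp ((X.ptSub x).res O'.1) M i n =>
      f.hom a₁) (T.push_pull (ψ ∣_ O.1) (ψ ∣_ O'.1) g g' hsq M i n i n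
        (by rw [hc]; ring) (by rw [hc]; ring) (by rw [hc']; ring) (by rw [hc']; ring))
    have hbij := push_iso_bijective T (X := (Y.ptSub y).res (ψ ⁻¹ᵁ O'.1)) (Y := (X.ptSub x).res O'.1)
      (ψ ∣_ O'.1) M i n (by rw [hc']; ring) (by rw [hc']; ring)
    have hz : (T.pull g' M i n).hom a₁ = 0 := hbij.1 ((key.symm.trans h0).trans (map_zero _).symm)
    rw [← clsP_res T M i n (W := ⟨ψ ⁻¹ᵁ O.1, hP⟩) (W' := ⟨ψ ⁻¹ᵁ O'.1, hP'⟩) hleP a₁]
    exact (congrArg (clsP T M i n ⟨ψ ⁻¹ᵁ O'.1, hP'⟩) hz).trans (map_zero _)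
  · intro v
    obtain ⟨W', b, rfl⟩ := exists_rep_P T M i n x v
    let O : ptIdx X x := ⟨W'.1 ⊓ V₀, hinf W'⟩
    have hP := hpre O.1 inf_le_right O.2.1
    haveI := isIso_restrict_le ψ (show O.1 ≤ V₀ from inf_le_right)
    have hc := relCodim_ptIdx L.codim_eq ⟨ψ ⁻¹ᵁ O.1, hP⟩ O
    obtain ⟨a, ha⟩ := (push_iso_bijective T (X := (Y.ptSub y).res (ψ ⁻¹ᵁ O.1)) (Y := (X.ptSub x).res O.1)
      (ψ ∣_ O.1) M i n (by rw [hc]; ring) (by rw [hc]; ring)).2
      ((T.pull ((X.ptSub x).resLE (show O.1 ≤ W'.1 from inf_le_left) (O.2.2.trans W'.2.2.symm)) M i n).hom b)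
    refine ⟨clsP T M i n ⟨ψ ⁻¹ᵁ O.1, hP⟩ a, ?_⟩
    rw [cpt_restrict L ψ hψ M i n O hP]
    exact (congrArg (clsP T M i n O) ha).trans (clsP_res T M i n (W := W') (W' := O) inf_le_left b)

theorem ptSubι_generic_isIso (Y : Obj V) [IsIntegral Y.scheme] : IsIso (Y.ptSubι (genericPoint Y.scheme)) := by
  haveI : AlgebraicGeometry.Surjective (Y.ptSubι (genericPoint Y.scheme)) := ⟨fun z => by
    have : z ∈ Set.range (Y.ptSubι (genericPoint Y.scheme)) := by
      rw [range_ptSubι, (genericPoint_spec Y.scheme).def]; trivial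
    exact this⟩
  exact isIso_of_isClosedImmersion_of_surjective _

theorem ptPush_normalization_bijective (X : Obj V) (w : X.scheme)
    [IsIntegral (X.ptSub w).scheme]
    [QuasiCompact ((X.ptSub w).scheme.fromSpecStalk (genericPoint (X.ptSub w).scheme))]
    [QuasiSeparated ((X.ptSub w).scheme.fromSpecStalk (genericPoint (X.ptSub w).scheme))]
    (Y : Obj V) [IsIntegral Y.scheme] (e : Y.scheme ≅ Curv2.normalization (X.ptSub w).scheme)
    (φ : Y.scheme ⟶ X.scheme) [IsProper φ]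
    (hφ : φ = e.hom ≫ Curv2.normalizationι (X.ptSub w).scheme ≫ X.ptSubι w)
    (L : T.PtPush φ (genericPoint Y.scheme) w) (M : A.Cat) (i n : ℤ) :
    Function.Bijective (L.cpt M i n).hom := by
  haveI hfinite : IsFinite (Curv2.normalizationι (X.ptSub w).scheme) := by
    haveI : IsProper (e.inv ≫ φ) := inferInstance
    rw [hφ, Iso.inv_hom_id_assoc] at this
    haveI : IsProper (Curv2.normalizationι (X.ptSub w).scheme) := IsProper.of_comp _ (X.ptSubι w)
    haveI : IsIntegralHom (Curv2.normalizationι (X.ptSub w).scheme) :=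
      inferInstanceAs (IsIntegralHom ((X.ptSub w).scheme.fromSpecStalk _).fromNormalization)
    exact (IsFinite.iff_isIntegralHom_and_locallyOfFiniteType _).2 ⟨inferInstance, inferInstance⟩
  obtain ⟨V₀, hne, hiso⟩ := exists_open_iso_normalization (X.ptSub w).scheme
  obtain ⟨ψ, hp, hψ⟩ := exists_ptMap φ (genericPoint Y.scheme) w L.maps_pt
  haveI := ptSubι_generic_isIso Y
  have hψ' : ψ = (Y.ptSubι (genericPoint Y.scheme) ≫ e.hom) ≫ Curv2.normalizationι (X.ptSub w).scheme := by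
    rw [← cancel_mono (X.ptSubι w), hψ, hφ, Category.assoc, Category.assoc]
  haveI : IsIso (ψ ∣_ V₀) := by
    rw [hψ', morphismRestrict_comp]
    refine (MorphismProperty.isomorphisms Scheme.{u}).comp_mem _ _ ?_ hiso
    exact IsZariskiLocalAtTarget.restrict (P := MorphismProperty.isomorphisms Scheme.{u})
      (show IsIso (Y.ptSubι (genericPoint Y.scheme) ≫ e.hom) from inferInstance) _
  exact ptPush_bijective L ψ hψ hne M i n

end Groth.Agent.BM97
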