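import Groth.Agent.BM97.Add

/-! Gysin sequences of the decompositions cut out by a closed set and an open set. -/

set_option autoImplicit false
universe u

noncomputable section

open AlgebraicGeometry CategoryTheory Limits TopologicalSpace WeilCoh BMCoh Opposite

namespace Groth.Agent.BM97

variable {V : ObjectProperty Scheme.{u}} [IsConstructible V] (X : Obj V) (C : Closeds X.scheme) (c : ℕ)

/-- open of full dimension -/
abbrev FullOpens : Type u := {Y : X.scheme.Opens // dim (↑Y : Scheme.{u}) = dim X.scheme ∧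
  dim (↑(Y ⊓ C.compl) : Scheme.{u}) = dim X.scheme}

variable {X C c}

theorem full_of_fj {j : ℕ} {Y : X.scheme.Opens} (hY : ContainsFj X j Y)
    (hU : ContainsFj X j (Y ⊓ C.compl)) :
    dim (↑Y : Scheme.{u}) = dim X.scheme ∧ dim (↑(Y ⊓ C.compl) : Scheme.{u}) = dim X.scheme :=
  ⟨dim_of_containsFj X hY, dim_of_containsFj X hU⟩

variable (X C)

/-- the closed part over an open -/
abbrev zOpen (Y : X.scheme.Opens) : (subObj X C).scheme.Opens := subι X C ⁻¹ᵁ Y

/-- its inclusion -/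
abbrev iY (Y : X.scheme.Opens) : ((subObj X C).res (zOpen X C Y)).scheme ⟶ (X.res Y).scheme := subι X C ∣_ Y

/-- the decomposition -/
abbrev dec (Y : FullOpens X C) : Decomp (X.res Y.1) where
  Z := (subObj X C).res (zOpen X C Y.1)
  U := X.res (Y.1 ⊓ C.compl)
  i := iY X C Y.1
  closedImm := IsZariskiLocalAtTarget.restrict (inferInstance : IsClosedImmersion (subι X C)) Y.1
  j := X.resLE inf_le_left (Y.2.2.trans Y.2.1.symm)
  range_eq := by
    ext z
    have h1 : z ∈ Set.range (subι X C ∣_ Y.1) ↔ Y.1.ι z ∈ (C : Set X.scheme) := by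
      rw [← range_subι X C]
      constructor
      · rintro ⟨w, rfl⟩
        exact ⟨(zOpen X C Y.1).ι w, by rw [← Scheme.Hom.comp_apply, ← morphismRestrict_ι]; rfl⟩
      · rintro ⟨w, hw⟩
        refine ⟨⟨w, show subι X C w ∈ Y.1 by rw [hw]; exact z.2⟩, Y.1.ι.isOpenEmbedding.injective ?_⟩
        rw [← Scheme.Hom.comp_apply, morphismRestrict_ι]; exact hw
    have h2 : z ∈ Set.range (X.scheme.homOfLE (inf_le_left : Y.1 ⊓ C.compl ≤ Y.1)) ↔ Y.1.ι z ∈ Y.1 ⊓ C.compl := by
      constructor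
      · rintro ⟨w, rfl⟩
        rw [← Scheme.Hom.comp_apply, Scheme.homOfLE_ι]; exact w.2
      · intro hz
        refine ⟨⟨Y.1.ι z, hz⟩, Y.1.ι.isOpenEmbedding.injective ?_⟩
        rw [← Scheme.Hom.comp_apply, Scheme.homOfLE_ι]; rfl
    show z ∈ Set.range (X.scheme.homOfLE (inf_le_left : Y.1 ⊓ C.compl ≤ Y.1)) ↔ z ∈ (Set.range (subι X C ∣_ Y.1))ᶜ
    rw [Set.mem_compl_iff, h1, h2]
    exact ⟨fun h => h.2, fun h => ⟨z.2, h⟩⟩

/-- the points of maximal dimension of the closed part -/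
abbrev Pieces (c : ℕ) (Y : X.scheme.Opens) : Type u :=
  {s : X.scheme // s ∈ C ∧ s ∈ Y ∧ pdim X.scheme s + c = dim X.scheme}

theorem le_of_mem_cl {X : Obj V} {C : Closeds X.scheme} {s : X.scheme} (hs : s ∈ C) : cl X s ≤ C :=
  C.isClosed.closure_subset_iff.2 (Set.singleton_subset_iff.2 hs)

/-- every point of the closed part lies in exactly one piece -/
def Good (c : ℕ) (Y : X.scheme.Opens) : Prop :=
  ∀ z ∈ C, z ∈ Y → ∃! s : Pieces X C c Y, z ∈ closure ({s.1} : Set X.scheme)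

/-- all points of the closed part have codimension at least c -/
def Bounded (c : ℕ) : Prop := ∀ z ∈ C, pdim X.scheme z + c ≤ dim X.scheme

variable {X C}

theorem finite_pieces (hC : Bounded X C c) (Y : X.scheme.Opens) : Finite (Pieces X C c Y) := by
  haveI := noeth X
  have h := finite_pd_eq (finDim X) C.isClosed (e := dim X.scheme - c) fun x hx => by
    have := hC x hx; change pdim X.scheme x ≤ _; omega
  haveI := h.to_subtype
  exact Finite.of_injective (fun s : Pieces X C c Y =>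
    (⟨s.1, s.2.1, by show pdim X.scheme s.1 = _; have := s.2.2.2; omega⟩ :
      {x : X.scheme | x ∈ C ∧ pd x = dim X.scheme - c}))
    fun s t h => Subtype.ext (congrArg (fun r => r.1) h)

theorem good_mono {Y Y' : X.scheme.Opens} (h : Y' ≤ Y) (hg : Good X C c Y) : Good X C c Y' := by
  intro z hz hz'
  obtain ⟨s, hs, huniq⟩ := hg z hz (h hz')
  have hsY : s.1 ∈ Y' := (specializes_iff_mem_closure.2 hs).mem_open Y'.isOpen hz'
  refine ⟨⟨s.1, s.2.1, hsY, s.2.2.2⟩, hs, fun t ht => Subtype.ext ?_⟩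
  exact congrArg (fun r => r.1) (huniq ⟨t.1, t.2.1, h t.2.2.1, t.2.2.2⟩ ht)

/-- there is a small closed set outside of which the closed part is good -/
theorem exists_good (hC : Bounded X C c) :
    ∃ B : Closeds X.scheme, (∀ y ∈ B, pdim X.scheme y + (c + 1) ≤ dim X.scheme) ∧
      ∀ Y : X.scheme.Opens, (∀ y ∈ Y, y ∉ B) → Good X C c Y := by
  classical
  haveI := noeth X
  obtain ⟨S, hSf, hSc, hSi, hCS⟩ := NoetherianSpace.exists_finite_set_isClosed_irreducible C.isClosed
  choose g hg using fun s : S => QuasiSober.sober (hSi s.1 s.2) (hSc s.1 s.2)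
  haveI := hSf.to_subtype
  haveI := finite_pieces hC ⊤
  let B₁ : Closeds X.scheme := ⟨⋃ s : {s : S // pdim X.scheme (g s) + c ≠ dim X.scheme}, closure {g s.1},
    isClosed_iUnion_of_finite fun _ => isClosed_closure⟩
  let B₂ : Closeds X.scheme := ⟨⋃ st : {st : Pieces X C c ⊤ × Pieces X C c ⊤ // st.1 ≠ st.2},
    closure {st.1.1.1} ∩ closure {st.1.2.1}, isClosed_iUnion_of_finite fun _ => isClosed_closure.inter isClosed_closure⟩
  have hgC : ∀ s : S, g s ∈ C := fun s => by
    show g s ∈ (C : Set X.scheme)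
    rw [hCS]; exact Set.mem_sUnion.2 ⟨s.1, s.2, (hg s).mem⟩
  refine ⟨B₁ ⊔ B₂, fun y hy => ?_, fun Y hY z hz hzY => ?_⟩
  · rcases hy with hy | hy
    · obtain ⟨⟨s, hs⟩, hys⟩ := Set.mem_iUnion.1 hy
      have h1 := hC (g s) (hgC s)
      have h2 : pdim X.scheme y ≤ pdim X.scheme (g s) := pdim_mono X hys
      omega
    · obtain ⟨⟨⟨s, t⟩, hst⟩, hys, hyt⟩ := Set.mem_iUnion.1 hy
      by_cases hys' : y = s.1
      · subst hys'
        have hne : s.1 ≠ t.1 := fun e => hst (Subtype.ext e)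
        have h1 : pdim X.scheme s.1 < pdim X.scheme t.1 := pdim_lt X hyt hne
        have h2 := s.2.2.2; have := t.2.2.2
        omega
      · have h1 : pdim X.scheme y < pdim X.scheme s.1 := pdim_lt X hys hys'
        have h2 := s.2.2.2
        omega
  · obtain ⟨s, hs, hzs⟩ := Set.mem_sUnion.1 (show z ∈ ⋃₀ S by rw [← hCS]; exact hz)
    have hzg : z ∈ closure ({g ⟨s, hs⟩} : Set X.scheme) := by rw [(hg ⟨s, hs⟩).def]; exact hzs
    have hge : pdim X.scheme (g ⟨s, hs⟩) + c = dim X.scheme := by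
      by_contra hne
      exact hY z hzY (Or.inl (Set.mem_iUnion.2 ⟨⟨⟨s, hs⟩, hne⟩, hzg⟩))
    refine ⟨⟨g ⟨s, hs⟩, hgC ⟨s, hs⟩, (specializes_iff_mem_closure.2 hzg).mem_open Y.isOpen hzY, hge⟩, hzg, fun t ht => ?_⟩
    by_contra hne
    exact hY z hzY (Or.inr (Set.mem_iUnion.2 ⟨⟨(⟨t.1, t.2.1, trivial, t.2.2.2⟩, ⟨g ⟨s, hs⟩, hgC ⟨s, hs⟩, trivial, hge⟩),
      fun e => hne (Subtype.ext (congrArg (fun r => r.1) e))⟩, ht, hzg⟩))

variable {Y : X.scheme.Opens} (s : Pieces X C c Y)

/-- the piece as an index of the groups of its point -/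
abbrev wOpen : (X.ptSub s.1).scheme.Opens := X.ptSubι s.1 ⁻¹ᵁ Y

theorem wOpen_nonempty : ((wOpen s : (X.ptSub s.1).scheme.Opens) : Set (X.ptSub s.1).scheme).Nonempty := by
  obtain ⟨w, hw⟩ : s.1 ∈ Set.range (X.ptSubι s.1) := by rw [range_ptSubι]; exact subset_closure rfl
  exact ⟨w, show X.ptSubι s.1 w ∈ Y by rw [hw]; exact s.2.2.1⟩

abbrev wIdx : ptIdx X s.1 :=
  ⟨wOpen s, wOpen_nonempty s, (dim_open_ptSub X s.1 _ (wOpen_nonempty s)).trans (dim_ptSub X s.1).symm⟩

theorem dim_wOpen : dim (↑(wOpen s) : Scheme.{u}) = pdim X.scheme s.1 :=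
  dim_open_ptSub X s.1 _ (wOpen_nonempty s)

theorem dim_zOpen (hC : Bounded X C c) [Nonempty (Pieces X C c Y)] :
    dim (↑(zOpen X C Y) : Scheme.{u}) + c = dim X.scheme := by
  obtain ⟨s⟩ := ‹Nonempty (Pieces X C c Y)›
  have hz : ∃ z : (subObj X C).scheme, subι X C z = s.1 := by
    have : s.1 ∈ Set.range (subι X C) := by rw [range_subι]; exact s.2.1
    exact this
  obtain ⟨z, hz⟩ := hz
  have hzY : z ∈ zOpen X C Y := show subι X C z ∈ Y by rw [hz]; exact s.2.2.1
  have hlow : pdim X.scheme s.1 ≤ dim (↑(zOpen X C Y) : Scheme.{u}) := by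
    rw [← hz, ← pdim_sub, ← show (zOpen X C Y).ι ⟨z, hzY⟩ = z from rfl, ← pdim_open]
    exact pdim_le ((subObj X C).res (zOpen X C Y)) ⟨z, hzY⟩
  have hCd : dim (subObj X C).scheme ≤ dim X.scheme - c := by
    show natDim _ ≤ _
    rw [natDim_range (subι X C).isClosedEmbedding.isEmbedding, range_subι]
    exact natDim_le_of_pd (finDim X) C.isClosed fun x hx => by
      have := hC x hx; change pdim X.scheme x ≤ _; omega
  have hhigh : dim (↑(zOpen X C Y) : Scheme.{u}) ≤ dim (subObj X C).scheme :=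
    natDim_mono (zOpen X C Y).ι.isOpenEmbedding.isInducing (finDim (subObj X C))
  have := s.2.2.2
  omega

theorem codim_dec (hC : Bounded X C c) (Y : FullOpens X C) [Nonempty (Pieces X C c Y.1)] :
    (dec X C Y).codim = c := by
  have h1 := dim_zOpen (Y := Y.1) hC
  have h2 := Y.2.1
  show ((dim (↑Y.1 : Scheme.{u}) : ℤ) - (dim (↑(zOpen X C Y.1) : Scheme.{u}) : ℤ)) = c
  omega

/-- the closed immersion of the closure of a piece -/
abbrev κ : (X.ptSub s.1).scheme ⟶ (subObj X C).scheme :=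
  Scheme.IdealSheafData.inclusion (Scheme.IdealSheafData.vanishingIdeal_antimono (le_of_mem_cl s.2.1))

theorem κ_ι : κ s ≫ subι X C = X.ptSubι s.1 := Scheme.IdealSheafData.inclusion_subschemeι _

theorem wOpen_le : wOpen s ≤ κ s ⁻¹ᵁ zOpen X C Y := le_of_eq (by
  show X.ptSubι s.1 ⁻¹ᵁ Y = _
  rw [← κ_ι s]; rfl)

/-- the piece inside the closed part -/
abbrev gHom : (↑(wOpen s) : Scheme.{u}) ⟶ ↑(zOpen X C Y) := (κ s).resLE (zOpen X C Y) (wOpen s) (wOpen_le s)

theorem gHom_iY : gHom s ≫ iY X C Y = X.ptSubι s.1 ∣_ Y := by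
  rw [← cancel_mono Y.ι]
  simp only [Category.assoc]
  rw [morphismRestrict_ι, morphismRestrict_ι, Scheme.Hom.resLE_comp_ι_assoc, κ_ι]

instance closedImm_gHom : IsClosedImmersion (gHom s) := by
  haveI : IsClosedImmersion (iY X C Y) := IsZariskiLocalAtTarget.restrict (inferInstance : IsClosedImmersion (subι X C)) Y
  haveI : IsClosedImmersion (gHom s ≫ iY X C Y) := by
    rw [gHom_iY]; exact IsZariskiLocalAtTarget.restrict (inferInstance : IsClosedImmersion (X.ptSubι s.1)) Y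
  exact IsClosedImmersion.of_comp_isClosedImmersion _ (iY X C Y)

theorem range_gHom :
    Set.range (gHom s) = ((zOpen X C Y).ι ≫ subι X C) ⁻¹' closure {s.1} := by
  ext z
  constructor
  · rintro ⟨w, rfl⟩
    show ((zOpen X C Y).ι ≫ subι X C) (gHom s w) ∈ closure ({s.1} : Set X.scheme)
    rw [← Scheme.Hom.comp_apply, Scheme.Hom.resLE_comp_ι_assoc, κ_ι, ← range_ptSubι]
    exact ⟨_, rfl⟩
  · intro hz
    obtain ⟨w, hw⟩ : ((zOpen X C Y).ι ≫ subι X C) z ∈ Set.range (X.ptSubι s.1) := by rw [range_ptSubι]; exact hz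
    have hwY : w ∈ wOpen s := show X.ptSubι s.1 w ∈ Y by rw [hw]; exact z.2
    refine ⟨⟨w, hwY⟩, ((zOpen X C Y).ι ≫ subι X C).isEmbedding.injective ?_⟩
    rw [← hw, ← Scheme.Hom.comp_apply, Scheme.Hom.resLE_comp_ι_assoc, κ_ι]
    rfl

theorem openImm_gHom (hC : Bounded X C c) (hg : Good X C c Y) : IsOpenImmersion (gHom s) := by
  classical
  haveI := finite_pieces hC Y
  have hopen : IsOpen (Set.range (gHom s)) := by
    have : Set.range (gHom s) =
        (⋃ t : {t : Pieces X C c Y // t ≠ s}, ((zOpen X C Y).ι ≫ subι X C) ⁻¹' closure {t.1.1})ᶜ := by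
      rw [range_gHom]
      ext z
      have hzC : ((zOpen X C Y).ι ≫ subι X C) z ∈ C := by
        show _ ∈ (C : Set X.scheme)
        rw [← range_subι X C]; exact ⟨_, rfl⟩
      obtain ⟨s₀, hs₀, huniq⟩ := hg _ hzC z.2
      simp only [Set.mem_compl_iff, Set.mem_iUnion, Set.mem_preimage, not_exists]
      constructor
      · intro h t ht
        exact t.2 ((huniq t.1 ht).trans (huniq s h).symm)
      · intro h
        by_contra hs
        exact h ⟨s₀, fun e => hs (e ▸ hs₀)⟩ hs₀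
    rw [this]
    exact (isClosed_iUnion_of_finite fun _ =>
      isClosed_closure.preimage (Scheme.Hom.continuous _)).isOpen_compl
  let W : (↑(zOpen X C Y) : Scheme.{u}).Opens := ⟨_, hopen⟩
  haveI : IsReduced ((subObj X C).res (zOpen X C Y)).scheme :=
    isReduced_of_isOpenImmersion (zOpen X C Y).ι
  haveI : IsReduced (↑W : Scheme.{u}) := isReduced_of_isOpenImmersion W.ι
  let l : (↑(wOpen s) : Scheme.{u}) ⟶ ↑W := IsOpenImmersion.lift W.ι (gHom s) (by rw [Scheme.Opens.range_ι]; rfl)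
  have hl : l ≫ W.ι = gHom s := IsOpenImmersion.lift_fac _ _ _
  haveI : IsClosedImmersion (l ≫ W.ι) := by rw [hl]; infer_instance
  haveI : IsClosedImmersion l := IsClosedImmersion.of_comp l W.ι
  haveI : AlgebraicGeometry.Surjective l := ⟨fun z => by
    obtain ⟨w, hw⟩ := z.2
    refine ⟨w, W.ι.isOpenEmbedding.injective ?_⟩
    rw [← Scheme.Hom.comp_apply, hl]; exact hw⟩
  haveI := isIso_of_isClosedImmersion_of_surjective l
  rw [← hl]
  infer_instance

/-- the piece as a morphism of objects -/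
def gPiece (hC : Bounded X C c) (hg : Good X C c Y) :
    (X.ptSub s.1).res (wOpen s) ⟶ (subObj X C).res (zOpen X C Y) where
  hom := gHom s
  isOpenImmersion := openImm_gHom s hC hg
  dim_eq := by
    haveI : Nonempty (Pieces X C c Y) := ⟨s⟩
    have h1 := dim_zOpen (Y := Y) hC
    have h2 := dim_wOpen s
    have h3 := s.2.2.2
    show dim (↑(wOpen s) : Scheme.{u}) = dim (↑(zOpen X C Y) : Scheme.{u})
    omega

theorem disjoint_pieces (hg : Good X C c Y) (t : Pieces X C c Y) (hne : s ≠ t) :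
    Disjoint (Set.range (gHom s)) (Set.range (gHom t)) := by
  rw [range_gHom, range_gHom, Set.disjoint_left]
  intro z h1 h2
  have hzC : ((zOpen X C Y).ι ≫ subι X C) z ∈ C := by
    show _ ∈ (C : Set X.scheme)
    rw [← range_subι X C]; exact ⟨_, rfl⟩
  obtain ⟨s₀, -, huniq⟩ := hg _ hzC z.2
  exact hne ((huniq s h1).trans (huniq t h2).symm)

omit s in
theorem cover_pieces (hg : Good X C c Y) (z : (↑(zOpen X C Y) : Scheme.{u})) :
    ∃ t : Pieces X C c Y, z ∈ Set.range (gHom t) := by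
  have hzC : ((zOpen X C Y).ι ≫ subι X C) z ∈ C := by
    show _ ∈ (C : Set X.scheme)
    rw [← range_subι X C]; exact ⟨_, rfl⟩
  obtain ⟨s₀, hs₀, -⟩ := hg _ hzC z.2
  exact ⟨s₀, by rw [range_gHom]; exact hs₀⟩

theorem closed_range_gHom : IsClosed (Set.range (gHom s)) := (gHom s).isClosedEmbedding.isClosed_range

/-- the proper inclusion of a piece into the open -/
abbrev fPiece : (↑(wOpen s) : Scheme.{u}) ⟶ ↑Y := X.ptSubι s.1 ∣_ Y

instance : IsClosedImmersion (fPiece s) :=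
  IsZariskiLocalAtTarget.restrict (inferInstance : IsClosedImmersion (X.ptSubι s.1)) Y

theorem relCodim_fPiece (hY : dim (↑Y : Scheme.{u}) = dim X.scheme) :
    relCodim ((X.ptSub s.1).res (wOpen s)).scheme (X.res Y).scheme = c := by
  have h2 := dim_wOpen s
  have h3 := s.2.2.2
  show ((dim (↑Y : Scheme.{u}) : ℤ) - (dim (↑(wOpen s) : Scheme.{u}) : ℤ)) = c
  omega

end Groth.Agent.BM97
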