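import Groth.Agent.BM97.Decomp
import Groth.Prelude.Def_BMCoh4

/-! Push-forward of groups of points. -/

set_option autoImplicit false
universe u

noncomputable section

open AlgebraicGeometry CategoryTheory Limits TopologicalSpace WeilCoh BMCoh Opposite Topology

namespace Groth.Agent.BM97

section space

variable {T T' : Type u} [TopologicalSpace T] [TopologicalSpace T'] [QuasiSober T'] [T0Space T]

theorem exists_pd_pred (h' : topologicalKrullDim T' < ⊤) {p : T'} {n : ℕ} (hn : n + 1 ≤ pd p) :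
    ∃ q ∈ closure ({p} : Set T'), q ≠ p ∧ n ≤ pd q := by
  obtain ⟨l, hl, hlast⟩ := exists_series_closure h' p
  have h0 : l.length ≠ 0 := by omega
  have hlt : l.eraseLast.last < l.last := l.eraseLast_last_rel_last h0
  obtain ⟨q, hq⟩ := QuasiSober.sober l.eraseLast.last.isIrreducible l.eraseLast.last.isClosed
  refine ⟨q, hlast (hlt.le hq.mem), fun e => hlt.not_ge ?_, ?_⟩
  · intro z hz
    show z ∈ (l.eraseLast.last : Set T')
    rw [← hq.def, e]
    exact hlast hz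
  · have h1 : l.eraseLast.length ≤ pd q := length_le h' isClosed_closure l.eraseLast hq.def.ge
    rw [RelSeries.eraseLast_length] at h1
    omega

/-- closed maps do not increase the dimension of the closures of points -/
theorem pd_image_le (h : topologicalKrullDim T < ⊤) (h' : topologicalKrullDim T' < ⊤) {g : T → T'}
    (hgc : IsClosedMap g) (hg : Continuous g) (z : T) : pd (g z) ≤ pd z := by
  suffices key : ∀ (n : ℕ) (z : T), n ≤ pd (g z) → n ≤ pd z from key _ z le_rfl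
  intro n
  induction n with
  | zero => exact fun _ _ => Nat.zero_le _
  | succ n ih =>
    intro z hz
    obtain ⟨q, hq, hne, hn⟩ := exists_pd_pred h' hz
    have hsub : closure ({g z} : Set T') ⊆ g '' closure {z} :=
      closure_minimal (Set.singleton_subset_iff.2 ⟨z, subset_closure rfl, rfl⟩) (hgc _ isClosed_closure)
    obtain ⟨z', hz', rfl⟩ := hsub hq
    have h1 := ih z' hn
    have h2 : pd z' < pd z := pd_lt h hz' fun e => hne (e ▸ rfl)
    omega

end space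

variable {V : ObjectProperty Scheme.{u}} [IsConstructible V] {R : Type u} [CommRing R] {A : Coefs R}
  {T : PreTheory V R A} {X Y : Obj V}

theorem ker_eq_vanishingIdeal' {S S' : Scheme.{u}} [IsReduced S] (f : S ⟶ S') :
    f.ker = Scheme.IdealSheafData.vanishingIdeal (TopologicalSpace.Closeds.closure (Set.range f)) := by
  rw [← Scheme.IdealSheafData.map_bot, ← Scheme.nilradical_eq_bot, ← Scheme.IdealSheafData.vanishingIdeal_top,
    Scheme.IdealSheafData.map_vanishingIdeal]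
  congr 2
  simp

/-- the map between the closures of points -/
theorem exists_ptMap (φ : Y.scheme ⟶ X.scheme) [IsProper φ] (y : Y.scheme) (x : X.scheme) (h : φ y = x) :
    ∃ (ψ : (Y.ptSub y).scheme ⟶ (X.ptSub x).scheme) (_ : IsProper ψ), ψ ≫ X.ptSubι x = Y.ptSubι y ≫ φ := by
  have hle : (X.ptSubι x).ker ≤ (Y.ptSubι y ≫ φ).ker := by
    rw [Scheme.IdealSheafData.ker_subschemeι, ker_eq_vanishingIdeal']
    refine Scheme.IdealSheafData.vanishingIdeal_antimono ?_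
    refine Closeds.closure_le.2 ?_
    show Set.range _ ⊆ closure ({x} : Set X.scheme)
    rintro _ ⟨w, rfl⟩
    rw [Scheme.Hom.comp_apply, ← h, ← Set.image_singleton]
    exact image_closure_subset_closure_image φ.continuous
      ⟨_, (range_ptSubι Y y).le ⟨w, rfl⟩, rfl⟩
  refine ⟨IsClosedImmersion.lift (X.ptSubι x) _ hle, ?_, IsClosedImmersion.lift_fac _ _ hle⟩
  haveI : IsProper (IsClosedImmersion.lift (X.ptSubι x) _ hle ≫ X.ptSubι x) := by
    rw [IsClosedImmersion.lift_fac]; infer_instance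
  exact IsProper.of_comp _ (X.ptSubι x)

variable {φ : Y.scheme ⟶ X.scheme} {y : Y.scheme} {x : X.scheme}

/-- every nonempty open of the closure of y contains the preimage of an open of the closure of x -/
theorem exists_small_preimage [IsProper φ] (L : T.PtPush φ y x)
    (ψ : (Y.ptSub y).scheme ⟶ (X.ptSub x).scheme) [IsProper ψ] (hψ : ψ ≫ X.ptSubι x = Y.ptSubι y ≫ φ)
    (W : ptIdx Y y) :
    ∃ (W' : ptIdx X x) (W'' : ptIdx Y y), W''.1 = ψ ⁻¹ᵁ W'.1 ∧ W''.1 ≤ W.1 := by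
  have hx : φ y = x := L.maps_pt
  have hd := L.codim_eq
  rw [relCodim, sub_eq_zero, dim_ptSub, dim_ptSub] at hd
  obtain ⟨η, hη⟩ : y ∈ Set.range (Y.ptSubι y) := by rw [range_ptSubι]; exact subset_closure rfl
  obtain ⟨w₀, hw₀⟩ := W.2.1
  have hηW : η ∈ W.1 := by
    refine (specializes_iff_mem_closure.2 ?_).mem_open W.1.isOpen hw₀
    rw [(Y.ptSubι y).isClosedEmbedding.isInducing.closure_eq_preimage_closure_image, Set.image_singleton, hη,
      ← range_ptSubι]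
    exact ⟨w₀, rfl⟩
  have hψη : X.ptSubι x (ψ η) = x := by
    rw [← Scheme.Hom.comp_apply, hψ, Scheme.Hom.comp_apply, hη]; exact hx
  let O : (X.ptSub x).scheme.Opens :=
    ⟨(ψ '' (W.1 : Set (Y.ptSub y).scheme)ᶜ)ᶜ, (ψ.isClosedMap _ W.1.isOpen.isClosed_compl).isOpen_compl⟩
  have hO : ψ η ∈ O := by
    rintro ⟨w, hw, hwe⟩
    have hwx : φ (Y.ptSubι y w) = x := by
      rw [← Scheme.Hom.comp_apply, ← hψ, Scheme.Hom.comp_apply, hwe]; exact hψη
    have hcl : Y.ptSubι y w ∈ closure ({y} : Set Y.scheme) := by rw [← range_ptSubι]; exact ⟨w, rfl⟩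
    have hne : Y.ptSubι y w ≠ y := fun e => by
      obtain rfl := (Y.ptSubι y).isClosedEmbedding.injective (e.trans hη.symm)
      exact hw hηW
    have h1 : pdim Y.scheme (Y.ptSubι y w) < pdim Y.scheme y := pdim_lt Y hcl hne
    have h2 : pdim X.scheme (φ (Y.ptSubι y w)) ≤ pdim Y.scheme (Y.ptSubι y w) :=
      pd_image_le (finDim Y) (finDim X) φ.isClosedMap φ.continuous _
    rw [hwx] at h2
    omega
  have hO' : (O : Set (X.ptSub x).scheme).Nonempty := ⟨_, hO⟩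
  have hP : ((ψ ⁻¹ᵁ O : (Y.ptSub y).scheme.Opens) : Set (Y.ptSub y).scheme).Nonempty := ⟨η, hO⟩
  refine ⟨⟨O, hO', (dim_open_ptSub X x O hO').trans (dim_ptSub X x).symm⟩,
    ⟨ψ ⁻¹ᵁ O, hP, (dim_open_ptSub Y y _ hP).trans (dim_ptSub Y y).symm⟩, rfl, fun w hw => ?_⟩
  by_contra h
  exact hw ⟨w, h, rfl⟩

theorem relCodim_ptIdx (h : relCodim (Y.ptSub y).scheme (X.ptSub x).scheme = 0) (W : ptIdx Y y) (W' : ptIdx X x) :
    relCodim ((Y.ptSub y).res W.1).scheme ((X.ptSub x).res W'.1).scheme = 0 := by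
  have h1 := W.2.2
  have h2 := W'.2.2
  unfold relCodim at h ⊢
  show ((dim (↑W'.1 : Scheme.{u}) : ℤ) - (dim (↑W.1 : Scheme.{u}) : ℤ)) = 0
  omega

/-- the restriction of the map of closures over an open -/
theorem cpt_restrict (L : T.PtPush φ y x) (ψ : (Y.ptSub y).scheme ⟶ (X.ptSub x).scheme) [IsProper ψ]
    (hψ : ψ ≫ X.ptSubι x = Y.ptSubι y ≫ φ) (M : A.Cat) (i n : ℤ) (W' : ptIdx X x)
    (hP : ((ψ ⁻¹ᵁ W'.1 : (Y.ptSub y).scheme.Opens) : Set (Y.ptSub y).scheme).Nonempty ∧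
      dim (↑(ψ ⁻¹ᵁ W'.1) : Scheme.{u}) = dim (Y.ptSub y).scheme)
    (a : T.gp ((Y.ptSub y).res (ψ ⁻¹ᵁ W'.1)) M i n) :
    (L.cpt M i n).hom (clsP T M i n ⟨ψ ⁻¹ᵁ W'.1, hP⟩ a) =
      clsP T M i n W' ((T.push (X := (Y.ptSub y).res (ψ ⁻¹ᵁ W'.1)) (Y := (X.ptSub x).res W'.1) (ψ ∣_ W'.1) M i n i n
        (by rw [relCodim_ptIdx L.codim_eq ⟨ψ ⁻¹ᵁ W'.1, hP⟩ W']; ring)
        (by rw [relCodim_ptIdx L.codim_eq ⟨ψ ⁻¹ᵁ W'.1, hP⟩ W']; ring)).hom a) := by
  have e : (ψ ∣_ W'.1) ≫ W'.1.ι ≫ X.ptSubι x = (ψ ⁻¹ᵁ W'.1).ι ≫ Y.ptSubι y ≫ φ := by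
    rw [morphismRestrict_ι_assoc, hψ]
  exact congrArg (fun f : T.gp ((Y.ptSub y).res (ψ ⁻¹ᵁ W'.1)) M i n ⟶ T.ptGp X x M i n => f.hom a)
    (L.cpt_spec M i n ⟨ψ ⁻¹ᵁ W'.1, hP⟩ W' (ψ ∣_ W'.1) e
      (by rw [relCodim_ptIdx L.codim_eq ⟨ψ ⁻¹ᵁ W'.1, hP⟩ W']; ring)
      (by rw [relCodim_ptIdx L.codim_eq ⟨ψ ⁻¹ᵁ W'.1, hP⟩ W']; ring))

theorem ptPush_subsingleton [IsProper φ] : Subsingleton (T.PtPush φ y x) := by
  refine ⟨fun L L' => ?_⟩
  suffices h : L.cpt = L'.cpt by cases L; cases L'; cases h; rfl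
  obtain ⟨ψ, hp, hψ⟩ := exists_ptMap φ y x L.maps_pt
  funext M i n
  refine ModuleCat.hom_ext (LinearMap.ext fun v => ?_)
  obtain ⟨W, a, rfl⟩ := exists_rep_P T M i n y v
  obtain ⟨W', W'', e, hle⟩ := exists_small_preimage L ψ hψ W
  rw [← clsP_res T M i n (W := W) (W' := W'') hle]
  obtain ⟨O, hO⟩ := W''
  change O = _ at e
  subst e
  rw [cpt_restrict L ψ hψ M i n W' hO, cpt_restrict L' ψ hψ M i n W' hO]

end Groth.Agent.BM97
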