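import Groth.Agent.BM97.FJ

/-! The exact sequences of the loci of bounded codimension. -/

set_option autoImplicit false
universe u

noncomputable section

open AlgebraicGeometry CategoryTheory Limits TopologicalSpace WeilCoh BMCoh Opposite DirectSum

namespace Groth.Agent.BM97

variable {V : ObjectProperty Scheme.{u}} [IsConstructible V] {R : Type u} [CommRing R] {A : Coefs R}
  {T : PreTheory V R A} {X : Obj V} {j : ℕ} (M : A.Cat) {i n i' n' : ℤ}

/-- a class whose residues vanish comes from F_{j+1} -/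
theorem exists_extend (hi : i' = i + 1 - 2 * (((j + 1 : ℕ)) : ℤ)) (hn : n' = n - (((j + 1 : ℕ)) : ℤ))
    {U : X.scheme.Opens} (hU : ContainsFj X j U) (a : T.gp (X.res U) M i n)
    (h : ∀ (Y : X.scheme.Opens) (hY : ContainsFj X (j + 1) Y) (hg : Good X U.compl (j + 1) Y)
      (hle : Y ⊓ U.compl.compl ≤ U) (s : Pieces X U.compl (j + 1) Y),
      resPt T M (hC := bounded_compl hU) (Y := fullY (bounded_compl hU) (fj_mono (Nat.le_succ j) hY)) (hg := hg) hi hn s
        ((resO T hle (dim_of_containsFj X hU)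
          (dim_of_containsFj X (fj_compl (bounded_compl hU) (fj_mono (Nat.le_succ j) hY))) M i n).hom a) = 0) :
    ∃ (Y : X.scheme.Opens) (hY : ContainsFj X (j + 1) Y) (b : T.gp (X.res Y) M i n),
      ((T.fjRes X (Nat.le_succ j) i n).app M).hom (clsF T M i n hY b) = clsF T M i n hU a := by
  classical
  have hC := bounded_compl hU
  obtain ⟨Y, hY, -, hg⟩ := exists_good_open (Y₀ := ⊤) hC fun _ _ => trivial
  have hle : ∀ Y : X.scheme.Opens, Y ⊓ U.compl.compl ≤ U := fun Y y hy => not_not.1 hy.2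
  rcases isEmpty_or_nonempty (Pieces X U.compl (j + 1) Y) with hE | hN
  · have hYU : Y ≤ U := fun y hy => by
      by_contra hyU
      obtain ⟨s, -⟩ := hg y hyU hy
      exact isEmptyElim s
    exact ⟨Y, hY, (resO T hYU (dim_of_containsFj X hU) (dim_of_containsFj X hY) M i n).hom a,
      (fjRes_clsF T _ M i n hY _).trans (clsF_res T M i n hU _ hYU a)⟩
  let FY : FullOpens X U.compl := fullY hC (fj_mono (Nat.le_succ j) hY)
  let a₁ : T.gp (X.res (Y ⊓ U.compl.compl)) M i n :=
    (resO T (hle Y) (dim_of_containsFj X hU) FY.2.2 M i n).hom a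
  have h1 := fun s : Pieces X U.compl (j + 1) Y => clsP_eq_zero T M i' n' (W := wIdx s) (h Y hY hg (hle Y) s)
  choose W hW hW0 using h1
  obtain ⟨Y', hle', hY', hW'⟩ := exists_shrink hC hY W
  let FY' : FullOpens X U.compl := fullY hC (fj_mono (Nat.le_succ j) hY')
  have hg' : Good X U.compl (j + 1) FY'.1 := good_mono hle' hg
  let a₂ : T.gp (X.res (Y' ⊓ U.compl.compl)) M i n :=
    (resO T (inf_le_inf_right _ hle') FY.2.2 FY'.2.2 M i n).hom a₁
  have ha₂ : a₂ = (resO T (hle Y') (dim_of_containsFj X hU) FY'.2.2 M i n).hom a := resO_comp T _ _ _ _ _ M i n a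
  rcases isEmpty_or_nonempty (Pieces X U.compl (j + 1) Y') with hE | hN'
  · have hYU : Y' ≤ U := fun y hy => by
      by_contra hyU
      obtain ⟨s, -⟩ := hg' y hyU hy
      exact isEmptyElim s
    exact ⟨Y', hY', (resO T hYU (dim_of_containsFj X hU) (dim_of_containsFj X hY') M i n).hom a,
      (fjRes_clsF T _ M i n hY' _).trans (clsF_res T M i n hU _ hYU a)⟩
  haveI : Nonempty (Pieces X U.compl (j + 1) FY'.1) := hN'
  have hres : ∀ s, resW T M hC FY' hg' hi hn s a₂ = 0 := fun s => by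
    refine (resW_natural T M (Y := FY) (Y' := FY') (hg := hg) hle' hi hn s a₁).trans ?_
    have hd := (dim_wOpen s).trans (dim_ptSub X s.1).symm
    have hW2 := hW0 (upPiece hle' s)
    let W' := W (upPiece hle' s)
    let k : (X.ptSub s.1).res (wOpen s) ⟶ (X.ptSub s.1).res W'.1 :=
      (X.ptSub s.1).resLE (hW' s) (hd.trans W'.2.2.symm)
    let l : (X.ptSub s.1).res W'.1 ⟶ (X.ptSub s.1).res (wOpen (upPiece hle' s)) :=
      (X.ptSub s.1).resLE (hW (upPiece hle' s)) (W'.2.2.trans (wIdx (upPiece hle' s)).2.2.symm)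
    have e : (X.ptSub s.1).resLE (wOpen_mono hle' s) ((dim_wOpen s).trans (dim_wOpen (upPiece hle' s)).symm) = k ≫ l :=
      Hom.ext (Scheme.homOfLE_homOfLE (X.ptSub s.1).scheme (hW' s) (hW (upPiece hle' s))).symm
    rw [e, pull_comp]
    exact (congrArg _ hW2).trans (map_zero _)
  obtain ⟨b, hb⟩ := exists_lift T M (Y := FY') (hg := hg') hi hn a₂ hres
  refine ⟨Y', hY', b, (fjRes_clsF T _ M i n hY' b).trans ?_⟩
  rw [← clsF_res T M i n (fj_mono (Nat.le_succ j) hY') (fj_compl hC (fj_mono (Nat.le_succ j) hY')) inf_le_left b, hb, ha₂]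
  exact clsF_res T M i n hU _ (hle Y') a

variable {M}

theorem exact_res_tot (Q : T.ResData X j) (hi : i' = i + 1 - 2 * ((j : ℤ) + 1)) (hn : n' = n - ((j : ℤ) + 1)) :
    Function.Exact ((T.fjRes X (Nat.le_succ j) i n).app M).hom (Q.tot M i n i' n' hi hn).hom := by
  intro α
  constructor
  · intro hα
    obtain ⟨U, hU, a, rfl⟩ := exists_rep_F T M i n α
    have hi₂ : i' = i + 1 - 2 * (((j + 1 : ℕ)) : ℤ) := by push_cast; exact hi
    have hn₂ : n' = n - (((j + 1 : ℕ)) : ℤ) := by push_cast; exact hn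
    obtain ⟨Y, hY, b, hb⟩ := exists_extend M hi₂ hn₂ hU a fun Y hY hg hle s => by
      rw [← resData_piece M Q hi hn hi₂ hn₂ (bounded_compl hU) (fj_mono (Nat.le_succ j) hY) hg s,
        clsF_res T M i n hU _ hle]
      exact DFinsupp.ext_iff.1 hα (toCd s)
    exact ⟨_, hb⟩
  · rintro ⟨β, rfl⟩
    obtain ⟨Y, hY, b, rfl⟩ := exists_rep_F T M i n β
    rw [fjRes_clsF]
    refine DFinsupp.ext fun x => ?_
    exact resData_zero M Q hi hn (containsFj_mono X (Nat.le_succ j) Y hY) x (hY x.1 x.2.le) b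

theorem exact_tot_tot (Q : T.ResData X j) (P : T.PushData X (j + 1)) (hi : i' = i + 1 - 2 * ((j : ℤ) + 1))
    (hn : n' = n - ((j : ℤ) + 1)) (hi2 : i + 1 = i' + 2 * ((j + 1 : ℕ) : ℤ)) (hn2 : n = n' + ((j + 1 : ℕ) : ℤ)) :
    Function.Exact (Q.tot M i n i' n' hi hn).hom (P.tot M i' n' (i + 1) n hi2 hn2).hom := by
  classical
  have hi₂ : i' = i + 1 - 2 * (((j + 1 : ℕ)) : ℤ) := by push_cast; exact hi
  have hn₂ : n' = n - (((j + 1 : ℕ)) : ℤ) := by push_cast; exact hn
  intro ξ
  constructor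
  · intro hξ
    let S : Finset (X.cdPt (j + 1)) := DFinsupp.support ξ
    let C : Closeds X.scheme := ⟨⋃ x ∈ (S : Set (X.cdPt (j + 1))), closure {x.1},
      S.finite_toSet.isClosed_biUnion fun _ _ => isClosed_closure⟩
    have hC : Bounded X C (j + 1) := fun z hz => by
      obtain ⟨x, -, hzx⟩ := Set.mem_iUnion₂.1 hz
      exact bounded_cl x z hzx
    obtain ⟨Y₁, hY₁, -, hg₁⟩ := exists_good_open (Y₀ := ⊤) hC fun _ _ => trivial
    have hrep := fun s : Pieces X C (j + 1) Y₁ => exists_rep_P T M i' n' s.1 (ξ (toCd s))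
    choose W x hx using hrep
    obtain ⟨Y₂, hle₂, hY₂, hW₂⟩ := exists_shrink hC hY₁ W
    have hg₂ : Good X C (j + 1) Y₂ := good_mono hle₂ hg₁
    haveI := finite_pieces hC Y₂
    haveI : Fintype (Pieces X C (j + 1) Y₂) := Fintype.ofFinite _
    let F₂ : FullOpens X C := fullY hC (fj_mono (Nat.le_succ j) hY₂)
    let x₂ : ∀ s : Pieces X C (j + 1) Y₂, T.gp ((X.ptSub s.1).res (wOpen s)) M i' n' := fun s =>
      (T.pull ((X.ptSub s.1).resLE (hW₂ s) ((wIdx s).2.2.trans (W (upPiece hle₂ s)).2.2.symm)) M i' n').hom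
        (x (upPiece hle₂ s))
    have hx₂ : ∀ s : Pieces X C (j + 1) Y₂, clsP T M i' n' (wIdx s) (x₂ s) = ξ (toCd s) :=
      fun s => (clsP_res T M i' n' (W := W (upPiece hle₂ s)) (W' := wIdx s) (hW₂ s) _).trans (hx _)
    have hmem : ∀ y : X.cdPt (j + 1), y ∈ S → ∃ s : Pieces X C (j + 1) Y₂, toCd s = y := fun y hy =>
      ⟨⟨y.1, Set.mem_biUnion hy (subset_closure rfl), hY₂ y.1 y.2.le, (codim_eq_iff X y.1 (j + 1)).1 y.2⟩, rfl⟩
    have hinj : Function.Injective fun s : Pieces X C (j + 1) Y₂ => toCd s := fun s t h =>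
      Subtype.ext (congrArg (fun y : X.cdPt (j + 1) => y.1) h)
    have hξ' : ξ = ∑ s : Pieces X C (j + 1) Y₂,
        DirectSum.lof R (X.cdPt (j + 1)) (fun y => T.ptGp X y.1 M i' n') (toCd s) (ξ (toCd s)) := by
      refine DFinsupp.ext fun y => ?_
      rw [DFinsupp.finset_sum_apply]
      by_cases hy : ξ y = 0
      · rw [hy]
        refine (Finset.sum_eq_zero fun s _ => ?_).symm
        by_cases e : toCd s = y
        · subst e; rw [hy, map_zero]; rfl
        · exact DFinsupp.single_eq_of_ne (Ne.symm e)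
      · obtain ⟨s, rfl⟩ := hmem y (DFinsupp.mem_support_iff.2 hy)
        rw [Finset.sum_eq_single s (fun t _ hts => DFinsupp.single_eq_of_ne fun e => hts (hinj e.symm))
          (fun h => absurd (Finset.mem_univ s) h)]
        exact (DirectSum.lof_apply (R := R) (ι := X.cdPt (j + 1)) (M := fun y => T.ptGp X y.1 M i' n') (toCd s) _).symm
    have hsum : clsF T M (i + 1) n hY₂ (∑ s, pushW T M (Y := F₂) hi2 hn2 s (x₂ s)) = 0 := by
      show cls T X _ M (i + 1) n _ _ = 0
      rw [cls, map_sum]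
      refine (Finset.sum_congr rfl fun s _ => ?_).trans ((map_sum (P.tot M i' n' (i + 1) n hi2 hn2).hom _ _).symm.trans
        ((congrArg (P.tot M i' n' (i + 1) n hi2 hn2).hom hξ').symm.trans hξ))
      rw [P.tot_lof, ← hx₂ s]
      exact (pushData_piece M P hi2 hn2 (Y := F₂) hY₂ s (x₂ s)).symm
    obtain ⟨Y₃, hY₃, hle₃, h0⟩ := clsF_eq_zero T M (i + 1) n hY₂ hsum
    have hg₃ : Good X C (j + 1) Y₃ := good_mono hle₃ hg₂
    let F₃ : FullOpens X C := fullY hC (fj_mono (Nat.le_succ j) hY₃)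
    have hup : ∀ s : Pieces X C (j + 1) Y₂, ∃ t : Pieces X C (j + 1) Y₃, upPiece hle₃ t = s := fun s =>
      ⟨⟨s.1, s.2.1, hY₃ s.1 (toCd s).2.le, s.2.2.2⟩, rfl⟩
    rcases isEmpty_or_nonempty (Pieces X C (j + 1) Y₂) with hE | hN
    · refine ⟨0, ?_⟩
      rw [map_zero, hξ']
      exact (Finset.sum_eq_zero fun s _ => isEmptyElim s).symm
    haveI := finite_pieces hC Y₃
    haveI : Fintype (Pieces X C (j + 1) F₃.1) := Fintype.ofFinite _
    haveI : Nonempty (Pieces X C (j + 1) F₃.1) := hN.map fun s => (hup s).choose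
    let x₃ : ∀ t : Pieces X C (j + 1) F₃.1, T.gp ((X.ptSub t.1).res (wOpen t)) M i' n' := fun t =>
      (T.pull ((X.ptSub t.1).resLE (wOpen_mono hle₃ t) ((dim_wOpen t).trans (dim_wOpen (upPiece hle₃ t)).symm)) M i' n').hom
        (x₂ (upPiece hle₃ t))
    have hz : ∑ t, pushW T M (Y := F₃) hi2 hn2 t (x₃ t) = 0 := by
      rw [map_sum] at h0
      refine Eq.trans ?_ h0
      refine Fintype.sum_bijective (upPiece hle₃)
        ⟨fun t t' h => Subtype.ext (congrArg (fun s : Pieces X C (j + 1) Y₂ => s.1) h), hup⟩ _ _ fun t => ?_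
      exact (pushW_natural T M (Y := F₂) (Y' := F₃) hle₃ hi2 hn2 t _).symm
    obtain ⟨a, ha⟩ := exists_res_of_sum_zero T M (Y := F₃) hi₂ hn₂ hC hg₃ hi2 hn2 x₃ hz
    refine ⟨clsF T M i n (fj_compl hC (fj_mono (Nat.le_succ j) hY₃)) a, DFinsupp.ext fun y => ?_⟩
    rw [PreTheory.ResData.tot_apply]
    by_cases hyC : y.1 ∈ C
    · let t : Pieces X C (j + 1) Y₃ := ⟨y.1, hyC, hY₃ y.1 y.2.le, (codim_eq_iff X y.1 (j + 1)).1 y.2⟩
      refine (resData_piece M Q hi hn hi₂ hn₂ hC (fj_mono (Nat.le_succ j) hY₃) hg₃ t a).trans ?_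
      show clsP T M i' n' (wIdx t) _ = ξ y
      rw [ha t]
      exact (clsP_res T M i' n' (W := wIdx (upPiece hle₃ t)) (W' := wIdx t) (wOpen_mono hle₃ t) _).trans
        (hx₂ (upPiece hle₃ t))
    · refine (resData_zero M Q hi hn _ y (show y.1 ∈ Y₃ ⊓ C.compl from ⟨hY₃ y.1 y.2.le, hyC⟩) a).trans ?_
      by_contra hne
      exact hyC (Set.mem_biUnion (DFinsupp.mem_support_iff.2 (Ne.symm hne)) (subset_closure rfl))
  · rintro ⟨α, rfl⟩
    obtain ⟨U, hU, a, rfl⟩ := exists_rep_F T M i n α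
    have hC := bounded_compl hU
    obtain ⟨Y, hY, -, hg⟩ := exists_good_open (Y₀ := ⊤) hC fun _ _ => trivial
    haveI := finite_pieces hC Y
    haveI : Fintype (Pieces X U.compl (j + 1) Y) := Fintype.ofFinite _
    let FY : FullOpens X U.compl := fullY hC (fj_mono (Nat.le_succ j) hY)
    have hle : Y ⊓ U.compl.compl ≤ U := fun y hy => not_not.1 hy.2
    let a₁ := (resO T hle (dim_of_containsFj X hU) FY.2.2 M i n).hom a
    let ξ₀ : T.ptSum X (j + 1) M i' n' := ∑ s : Pieces X U.compl (j + 1) Y,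
      DirectSum.lof R (X.cdPt (j + 1)) (fun y => T.ptGp X y.1 M i' n') (toCd s)
        (resPt T M (hC := hC) (Y := FY) (hg := hg) hi₂ hn₂ s a₁)
    have hval : ∀ s : Pieces X U.compl (j + 1) Y, (Q.cpt (toCd s) M i n i' n' hi hn).hom (clsF T M i n hU a) =
        resPt T M (hC := hC) (Y := FY) (hg := hg) hi₂ hn₂ s a₁ := fun s => by
      rw [← clsF_res T M i n hU (fj_compl hC (fj_mono (Nat.le_succ j) hY)) hle a]
      exact resData_piece M Q hi hn hi₂ hn₂ hC (fj_mono (Nat.le_succ j) hY) hg s a₁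
    have hQ : (Q.tot M i n i' n' hi hn).hom (clsF T M i n hU a) = ξ₀ := by
      refine DFinsupp.ext fun y => ?_
      rw [PreTheory.ResData.tot_apply, DFinsupp.finset_sum_apply]
      rcases mem_piece_or (U := U) hY y with hy | ⟨s, hs⟩
      · rw [resData_zero M Q hi hn hU y hy a]
        refine (Finset.sum_eq_zero fun s _ => DFinsupp.single_eq_of_ne fun e => ?_).symm
        exact s.2.1 (show s.1 ∈ U by rw [show s.1 = y.1 from (congrArg Subtype.val e).symm]; exact hy)
      · obtain rfl : toCd s = y := Subtype.ext hs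
        rw [Finset.sum_eq_single s (fun t _ hts => DFinsupp.single_eq_of_ne fun e =>
            hts (Subtype.ext (congrArg (fun y : X.cdPt (j + 1) => y.1) e).symm))
          (fun h => absurd (Finset.mem_univ s) h)]
        exact (hval s).trans (DirectSum.lof_apply (R := R) (ι := X.cdPt (j + 1)) (M := fun y => T.ptGp X y.1 M i' n') (toCd s) _).symm
    rw [hQ, map_sum]
    have hpush : ∀ s : Pieces X U.compl (j + 1) Y, (P.tot M i' n' (i + 1) n hi2 hn2).hom
        (DirectSum.lof R (X.cdPt (j + 1)) (fun y => T.ptGp X y.1 M i' n') (toCd s)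
          (resPt T M (hC := hC) (Y := FY) (hg := hg) hi₂ hn₂ s a₁)) =
        clsF T M (i + 1) n hY (pushW T M (Y := FY) hi2 hn2 s (resW T M hC FY hg hi₂ hn₂ s a₁)) := fun s =>
      (P.tot_lof M i' n' (i + 1) n hi2 hn2 (toCd s) _).trans (pushData_piece M P hi2 hn2 (Y := FY) hY s _)
    rw [Finset.sum_congr rfl fun s _ => hpush s]
    rcases isEmpty_or_nonempty (Pieces X U.compl (j + 1) Y) with hE | hN
    · exact Finset.sum_eq_zero fun s _ => isEmptyElim s
    haveI : Nonempty (Pieces X U.compl (j + 1) FY.1) := hN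
    refine (map_sum _ _ _).symm.trans ?_
    exact (congrArg _ (sum_push_res T M (Y := FY) hi₂ hn₂ hC hg hi2 hn2 a₁)).trans (map_zero _)

theorem exact_tot_res (P : T.PushData X (j + 1)) (hi : i' = i + 2 * ((j + 1 : ℕ) : ℤ))
    (hn : n' = n + ((j + 1 : ℕ) : ℤ)) :
    Function.Exact (P.tot M i n i' n' hi hn).hom ((T.fjRes X (Nat.le_succ j) i' n').app M).hom := by
  classical
  intro β
  constructor
  · intro hβ
    obtain ⟨Y₀, hY₀, b, rfl⟩ := exists_rep_F T M i' n' β
    rw [fjRes_clsF] at hβ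
    obtain ⟨U, hU, hUY, hb⟩ := clsF_eq_zero T M i' n' _ hβ
    have hC := bounded_compl hU
    obtain ⟨Y, hY, hYY₀, hg⟩ := exists_good_open hC hY₀
    haveI := finite_pieces hC Y
    haveI : Fintype (Pieces X U.compl (j + 1) Y) := Fintype.ofFinite _
    let FY : FullOpens X U.compl := fullY hC (fj_mono (Nat.le_succ j) hY)
    have hle : Y ⊓ U.compl.compl ≤ U := fun y hy => not_not.1 hy.2
    let b₁ := (resO T hYY₀ (dim_of_containsFj X hY₀) FY.2.1 M i' n').hom b
    have hb₁ : (resO T inf_le_left FY.2.1 FY.2.2 M i' n').hom b₁ = 0 := by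
      rw [resO_comp]
      rw [← resO_comp T hUY hle (dim_of_containsFj X (containsFj_mono X (Nat.le_succ j) Y₀ hY₀))
        (dim_of_containsFj X hU) FY.2.2 M i' n' b, hb, map_zero]
    rw [← clsF_res T M i' n' hY₀ hY hYY₀ b]
    rcases isEmpty_or_nonempty (Pieces X U.compl (j + 1) Y) with hE | hN
    · have hYU : Y ≤ U := fun y hy => by
        by_contra hyU
        obtain ⟨s, -⟩ := hg y hyU hy
        exact isEmptyElim s
      have hYU' : Y ≤ Y ⊓ U.compl.compl := le_inf le_rfl fun y hy => not_not.2 (hYU hy)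
      refine ⟨0, ?_⟩
      rw [map_zero]
      have h := resO_comp T inf_le_left hYU' FY.2.1 FY.2.2 FY.2.1 M i' n' b₁
      rw [hb₁, map_zero] at h
      have h2 := clsF_res T M i' n' hY hY (le_refl Y) b₁
      rw [show (resO T (le_refl Y) (dim_of_containsFj X hY) (dim_of_containsFj X hY) M i' n').hom b₁ = 0 from h.symm,
        clsF, cls, map_zero] at h2
      exact h2
    haveI : Nonempty (Pieces X U.compl (j + 1) FY.1) := hN
    obtain ⟨x, hx⟩ := exists_sum_push T M (Y := FY) hi hn hC hg b₁ hb₁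
    refine ⟨∑ s : Pieces X U.compl (j + 1) Y, DirectSum.lof R (X.cdPt (j + 1)) (fun y => T.ptGp X y.1 M i n)
      (toCd s) (clsP T M i n (wIdx s) (x s)), ?_⟩
    rw [map_sum]
    refine (Finset.sum_congr rfl fun s _ => (P.tot_lof M i n i' n' hi hn (toCd s) _).trans
      (pushData_piece M P hi hn (Y := FY) hY s (x s))).trans ?_
    exact ((map_sum _ _ _).symm.trans (congrArg _ hx))
  · rintro ⟨ξ, rfl⟩
    induction ξ using DirectSum.induction_on with
    | zero => rw [map_zero, map_zero]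
    | add p q hp hq => rw [map_add, map_add, hp, hq, add_zero]
    | of y v =>
      rw [← DirectSum.lof_eq_of R, P.tot_lof]
      obtain ⟨W, x, rfl⟩ := exists_rep_P T M i n y.1 v
      have hC := bounded_cl y
      let s₀ : Pieces X (cl X y.1) (j + 1) ⊤ :=
        ⟨y.1, subset_closure rfl, trivial, (codim_eq_iff X y.1 (j + 1)).1 y.2⟩
      have huniq : ∀ s : Pieces X (cl X y.1) (j + 1) ⊤, s = s₀ := fun s => by
        obtain ⟨t, -, ht⟩ := good_cl y ⊤ s.1 s.2.1 trivial
        exact (ht s (subset_closure rfl)).trans (ht s₀ s.2.1).symm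
      obtain ⟨Y, hle, hY, hW⟩ := exists_shrink (Y := ⊤) hC (fun _ _ => trivial) fun s => (huniq s).symm ▸ W
      let s : Pieces X (cl X y.1) (j + 1) Y := ⟨y.1, subset_closure rfl, hY y.1 y.2.le, (codim_eq_iff X y.1 (j + 1)).1 y.2⟩
      have hWs : wOpen s ≤ W.1 := hW s
      let FY : FullOpens X (cl X y.1) := fullY hC (fj_mono (Nat.le_succ j) hY)
      rw [← clsP_res T M i n (W := W) (W' := wIdx s) hWs x]
      refine (congrArg _ (pushData_piece M P hi hn (Y := FY) hY s _)).trans ?_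
      rw [fjRes_clsF, ← clsF_res T M i' n' _ (fj_compl hC (fj_mono (Nat.le_succ j) hY)) inf_le_left,
        pushW_zero_compl T M (Y := FY) hi hn hC (good_cl y Y) s, clsF, cls, map_zero]

end Groth.Agent.BM97
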