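import Groth.Prelude.Def_BMCoh3
import Groth.Agent.TopDim50.Basic

/-! Dimension of point closures in finite dimensional sober spaces. -/

set_option autoImplicit false
universe u

open AlgebraicGeometry TopologicalSpace Topology Order WeilCoh Set

namespace Groth.Agent.BM97

section space

variable {T T' : Type u} [TopologicalSpace T] [TopologicalSpace T']

theorem natDim_mono {f : T → T'} (hf : IsInducing f) (h : topologicalKrullDim T' < ⊤) : natDim T ≤ natDim T' := by
  have hle := hf.topologicalKrullDim_le
  unfold natDim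
  revert hle h
  generalize topologicalKrullDim T = a
  generalize topologicalKrullDim T' = b
  intro h hle
  cases b with
  | bot => simp_all
  | coe b =>
    cases a with
    | bot => simp
    | coe a =>
      have hb : b ≠ ⊤ := by rintro rfl; simp at h
      exact ENat.toNat_le_toNat (WithBot.coe_le_coe.1 hle) hb

theorem natDim_homeo (e : T ≃ₜ T') : natDim T = natDim T' := by
  unfold natDim; rw [IsHomeomorph.topologicalKrullDim_eq _ e.isHomeomorph]

theorem dim_eq_natDim [Nonempty T] (h : topologicalKrullDim T < ⊤) :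
    topologicalKrullDim T = (natDim T : WithBot ℕ∞) := by
  have h0 := TopDim50.dim_nonneg (X := T)
  unfold natDim
  revert h h0
  generalize topologicalKrullDim T = d
  intro h h0
  cases d with
  | bot => simp at h0
  | coe a =>
    cases a with
    | top => simp at h
    | coe a => simp

theorem natDim_empty [IsEmpty T] : natDim T = 0 := by
  haveI : IsEmpty (IrreducibleCloseds T) := ⟨fun C => C.isIrreducible.nonempty.elim fun x _ => isEmptyElim x⟩
  simp [natDim, topologicalKrullDim, Order.krullDim_eq_bot]

theorem exists_series [Nonempty T] (h : topologicalKrullDim T < ⊤) :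
    ∃ l : LTSeries (IrreducibleCloseds T), l.length = natDim T := by
  obtain ⟨x⟩ := ‹Nonempty T›
  haveI : Nonempty (IrreducibleCloseds T) :=
    ⟨⟨closure {x}, isIrreducible_singleton.closure, isClosed_closure⟩⟩
  exact Order.le_krullDim_iff.1 (dim_eq_natDim h).ge

theorem length_le (h : topologicalKrullDim T < ⊤) {C : Set T} (hC : IsClosed C)
    (l : LTSeries (IrreducibleCloseds T)) (hl : (l.last : Set T) ⊆ C) : l.length ≤ natDim C := by
  have h1 := TopDim50.length_le_dim_of_closed hC l hl
  obtain ⟨x, hx⟩ := l.last.isIrreducible.nonempty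
  haveI : Nonempty C := ⟨⟨x, hl hx⟩⟩
  rw [dim_eq_natDim (lt_of_le_of_lt (topologicalKrullDim_subspace_le T C) h)] at h1
  exact_mod_cast h1

/-- dimension of the closure of a point -/
noncomputable def pd (x : T) : ℕ := natDim ↥(closure ({x} : Set T))

theorem pd_le (h : topologicalKrullDim T < ⊤) (x : T) : pd x ≤ natDim T :=
  natDim_mono IsInducing.subtypeVal h

theorem exists_series_closure (h : topologicalKrullDim T < ⊤) (x : T) :
    ∃ l : LTSeries (IrreducibleCloseds T), l.length = pd x ∧ (l.last : Set T) ⊆ closure {x} := by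
  haveI : Nonempty ↥(closure ({x} : Set T)) := ⟨⟨x, subset_closure rfl⟩⟩
  obtain ⟨l, hl⟩ := exists_series (T := ↥(closure ({x} : Set T)))
    (lt_of_le_of_lt (topologicalKrullDim_subspace_le T _) h)
  have hs : StrictMono fun C : IrreducibleCloseds ↥(closure ({x} : Set T)) =>
      (⟨Subtype.val '' (C : Set ↥(closure ({x} : Set T))), C.isIrreducible.image _ continuous_subtype_val.continuousOn,
        isClosed_closure.isClosedEmbedding_subtypeVal.isClosedMap _ C.isClosed⟩ : IrreducibleCloseds T) :=
    fun C D hCD => lt_of_le_of_ne (Set.image_mono hCD.le)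
      fun he => hCD.ne (IrreducibleCloseds.ext (by
        have he' := congrArg IrreducibleCloseds.carrier he
        exact Subtype.val_injective.image_injective he'))
  refine ⟨l.map _ hs, hl, ?_⟩
  rw [LTSeries.last_map]
  rintro _ ⟨y, -, rfl⟩
  exact y.2

theorem pd_mono (h : topologicalKrullDim T < ⊤) {x y : T} (hxy : x ∈ closure ({y} : Set T)) : pd x ≤ pd y :=
  natDim_mono (IsEmbedding.inclusion (closure_minimal (singleton_subset_iff.2 hxy) isClosed_closure)).isInducing
    (lt_of_le_of_lt (topologicalKrullDim_subspace_le T _) h)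

theorem pd_lt (h : topologicalKrullDim T < ⊤) [T0Space T] {x y : T} (hxy : x ∈ closure ({y} : Set T))
    (hne : x ≠ y) : pd x < pd y := by
  obtain ⟨l, hl, hlast⟩ := exists_series_closure h x
  let top : IrreducibleCloseds T := ⟨closure {y}, isIrreducible_singleton.closure, isClosed_closure⟩
  have hlt : l.last < top := by
    refine lt_of_le_of_ne (hlast.trans (closure_minimal (singleton_subset_iff.2 hxy) isClosed_closure)) fun he => hne ?_
    have hy : y ∈ closure ({x} : Set T) := hlast (he ▸ subset_closure rfl)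
    exact (specializes_iff_mem_closure.2 hy).antisymm (specializes_iff_mem_closure.2 hxy) |>.eq
  have := length_le h (isClosed_closure (s := ({y} : Set T))) (l.snoc top hlt) (by simp [top])
  simp only [RelSeries.snoc_length, hl] at this
  exact this

theorem exists_pd_eq_natDim (h : topologicalKrullDim T < ⊤) [QuasiSober T] {C : Set T} (hC : IsClosed C)
    (hne : C.Nonempty) : ∃ x ∈ C, natDim C ≤ pd x := by
  haveI := hne.to_subtype
  haveI := hC.isClosedEmbedding_subtypeVal.quasiSober
  obtain ⟨l, hl⟩ := exists_series (T := C) (lt_of_le_of_lt (topologicalKrullDim_subspace_le T _) h)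
  obtain ⟨x, hx⟩ := QuasiSober.sober l.last.isIrreducible l.last.isClosed
  refine ⟨x.1, x.2, ?_⟩
  rw [← hl]
  refine le_trans (length_le (lt_of_le_of_lt (topologicalKrullDim_subspace_le T _) h)
    (isClosed_closure (s := ({x} : Set C))) l hx.def.ge) ?_
  have hmem : ∀ z : ↥(closure ({x} : Set C)), z.1.1 ∈ closure ({x.1} : Set T) := fun z => by
    have := image_closure_subset_closure_image continuous_subtype_val ⟨z.1, z.2, rfl⟩
    simpa using this
  exact natDim_mono (f := fun z : ↥(closure ({x} : Set C)) => (⟨z.1.1, hmem z⟩ : ↥(closure ({x.1} : Set T))))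
    ((IsInducing.subtypeVal.comp IsInducing.subtypeVal).codRestrict hmem)
    (lt_of_le_of_lt (topologicalKrullDim_subspace_le T _) h)

theorem natDim_le_of_pd (h : topologicalKrullDim T < ⊤) [QuasiSober T] {C : Set T} (hC : IsClosed C) {e : ℕ}
    (he : ∀ x ∈ C, pd x ≤ e) : natDim C ≤ e := by
  rcases C.eq_empty_or_nonempty with rfl | hne
  · simp [natDim_empty]
  · obtain ⟨x, hx, hle⟩ := exists_pd_eq_natDim h hC hne
    exact hle.trans (he x hx)

theorem pd_le_natDim (h : topologicalKrullDim T < ⊤) {C : Set T} (hC : IsClosed C) {x : T} (hx : x ∈ C) :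
    pd x ≤ natDim C :=
  natDim_mono (IsEmbedding.inclusion (hC.closure_subset_iff.2 (singleton_subset_iff.2 hx))).isInducing
    (lt_of_le_of_lt (topologicalKrullDim_subspace_le T _) h)

theorem exists_pd_top (h : topologicalKrullDim T < ⊤) [QuasiSober T] [Nonempty T] : ∃ x : T, pd x = natDim T := by
  obtain ⟨x, -, hx⟩ := exists_pd_eq_natDim h isClosed_univ univ_nonempty
  exact ⟨x, (pd_le h x).antisymm ((natDim_homeo (Homeomorph.Set.univ T)).symm.le.trans hx)⟩

theorem exists_pd_eq (h : topologicalKrullDim T < ⊤) [QuasiSober T] [T0Space T] [Nonempty T] {m : ℕ}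
    (hm : m ≤ natDim T) : ∃ x : T, pd x = m := by
  obtain ⟨l, hl⟩ := exists_series h
  have hmem : ∀ i, ∃ x : T, IsGenericPoint x (l i : Set T) := fun i =>
    QuasiSober.sober (l i).isIrreducible (l i).isClosed
  choose x hx using hmem
  have hlt : ∀ i j, i < j → pd (x i) < pd (x j) := fun i j hij => by
    refine pd_lt h ((hx j).def.symm ▸ (l.strictMono hij).le ((hx i).mem)) fun he => (l.strictMono hij).ne ?_
    exact IrreducibleCloseds.ext ((hx i).def.symm.trans (he ▸ (hx j).def))
  refine ⟨x ⟨m, by omega⟩, le_antisymm ?_ ?_⟩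
  · -- strict increase above
    have key : ∀ k (hk : m + k < l.length + 1), pd (x ⟨m, by omega⟩) + k ≤ pd (x ⟨m + k, hk⟩) := by
      intro k
      induction k with
      | zero => intro _; simp
      | succ k ih =>
        intro hk
        have h1 := ih (by omega)
        have h2 := hlt ⟨m + k, by omega⟩ ⟨m + (k + 1), hk⟩ (Fin.mk_lt_mk.2 (by omega))
        omega
    have h1 := key (l.length - m) (by omega)
    have h2 := pd_le h (x ⟨m + (l.length - m), by omega⟩)
    omega
  · have key : ∀ k (hk : k < l.length + 1), k ≤ pd (x ⟨k, hk⟩) := by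
      intro k
      induction k with
      | zero => intro _; exact Nat.zero_le _
      | succ k ih =>
        intro hk
        have h1 := ih (by omega)
        have h2 := hlt ⟨k, by omega⟩ ⟨k + 1, hk⟩ (Fin.mk_lt_mk.2 (by omega))
        omega
    exact key m (by omega)

/-- a closed set of a Noetherian space has finitely many points of maximal dimension -/
theorem finite_pd_eq (h : topologicalKrullDim T < ⊤) [QuasiSober T] [T0Space T] [NoetherianSpace T] {C : Set T}
    (hC : IsClosed C) {e : ℕ} (he : ∀ x ∈ C, pd x ≤ e) : {x : T | x ∈ C ∧ pd x = e}.Finite := by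
  obtain ⟨S, hSf, hSc, hSi, hCS⟩ := NoetherianSpace.exists_finite_set_isClosed_irreducible hC
  have hgen : ∀ s : S, ∃ g : T, IsGenericPoint g (s : Set T) := fun s =>
    QuasiSober.sober (hSi s.1 s.2) (hSc s.1 s.2)
  choose g hg using hgen
  haveI := hSf.to_subtype
  refine (Set.finite_range g).subset fun x ⟨hx, hxe⟩ => ?_
  obtain ⟨s, hs, hxs⟩ := mem_sUnion.1 (hCS ▸ hx)
  refine ⟨⟨s, hs⟩, ?_⟩
  by_contra hne
  have h1 := pd_lt h (x := x) (y := g ⟨s, hs⟩) (by rw [(hg ⟨s, hs⟩).def]; exact hxs) (Ne.symm hne)
  have h2 := he (g ⟨s, hs⟩) (hCS ▸ mem_sUnion.2 ⟨s, hs, (hg ⟨s, hs⟩).mem⟩)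
  omega

end space

end Groth.Agent.BM97
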